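import Cfsg.Agent.Spor.J3.CentStructure

/-!
The shape of the involution centraliser.
-/

set_option autoImplicit false
set_option Elab.async false

namespace Cfsg.Lib.Spor.J3

open Cfsg.Spor Equiv

/-- Extraspecial groups are preserved by isomorphisms. -/
theorem extraspecial_equiv {p : ℕ} {E : Type*} {E' : Type*} [Group E] [Group E'] (f : E ≃* E')
    (h : Cfsg.IsExtraspecial p E) : Cfsg.IsExtraspecial p E' := by
  have hs : Function.Surjective f.toMonoidHom := f.surjective
  have hZ : (Subgroup.center E).map f.toMonoidHom = Subgroup.center E' := by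
    ext y
    obtain ⟨x, rfl⟩ := f.surjective y
    simp only [Subgroup.mem_map, Subgroup.mem_center_iff]
    constructor
    · rintro ⟨x', hx', he⟩ g
      obtain ⟨g', rfl⟩ := f.surjective g
      rw [show f x = f x' from he.symm, ← map_mul, ← map_mul, hx' g']
    · exact fun hy => ⟨x, fun g => f.injective (by rw [map_mul, map_mul]; exact hy _), rfl⟩
  have hC : (commutator E).map f.toMonoidHom = commutator E' := by
    rw [_root_.commutator_def, _root_.commutator_def, Subgroup.map_commutator,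
      Subgroup.map_top_of_surjective _ hs]
  have hF : (frattini E).map f.toMonoidHom = frattini E' := by
    refine le_antisymm (Subgroup.map_le_iff_le_comap.2 (frattini_le_comap_frattini_of_surjective hs)) ?_
    intro y hy
    have h2 := frattini_le_comap_frattini_of_surjective (φ := f.symm.toMonoidHom) f.symm.surjective hy
    exact ⟨f.symm y, h2, f.apply_symm_apply y⟩
  refine ⟨⟨h.1.1.of_equiv f, ?_, ?_⟩, ?_⟩
  · rw [← hF, h.1.2.1, hZ]
  · rw [← hC, h.1.2.2, hZ]
  · rw [← hZ, ← Nat.card_congr ((Subgroup.center E).equivMapOfInjective _ f.injective).toEquiv, h.2]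

section
variable {F : Type*} [Field F] [Fintype F] [CharP F 2] {ω : F} (hω : ω ^ 2 + ω + 1 = 0)

include hω in
theorem orderOf_tJ (hF : Fintype.card F = 4) : orderOf (tJ hω) = 2 := by
  haveI : Fact (Nat.Prime 2) := ⟨Nat.prime_two⟩
  exact orderOf_eq_prime (by rw [pow_two]; exact tJ_sq hω) (tJ_ne hω hF)

include hω in
theorem all_invols_conj (hF : Fintype.card F = 4) (x y : Cfsg.Spor.J3 F ω) (hx : orderOf x = 2)
    (hy : orderOf y = 2) : IsConj x y := by
  obtain ⟨g, hg⟩ := invol_conj hω hF hx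
  obtain ⟨k, hk⟩ := invol_conj hω hF hy
  exact (isConj_iff.mpr ⟨g, hg⟩).trans (isConj_iff.mpr ⟨k, hk⟩).symm

include hω in
theorem centralizer_shape (hF : Fintype.card F = 4) :
    ∃ (Q : Subgroup ↥(CJ hω)) (_ : Q.Normal), Cfsg.IsExtraspecial 2 Q ∧ Nat.card Q = 32 ∧
      (∀ E : Subgroup Q, Cfsg.IsElementaryAbelian 2 E → Nat.card E ≤ 2 ^ 2) ∧
      (∃ H : Subgroup ↥(CJ hω), Q.IsComplement' H) ∧
      Nonempty (↥(CJ hω) ⧸ Q ≃* ↥(alternatingGroup (Fin 5))) := by
  classical
  set Q := (QJ hω).subgroupOf (CJ hω) with hQ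
  let e : Q ≃* QJ hω := Subgroup.subgroupOfEquivOfLe (QJ_le_CJ hω)
  haveI hn : Q.Normal := (Subgroup.normal_subgroupOf_iff_le_normalizer (QJ_le_CJ hω)).mpr (CJ_normalises hω hF)
  have hcard : Nat.card Q = 32 := (Nat.card_congr e.toEquiv).trans (card_QJ hω hF)
  let f : alternatingGroup (Fin 5) →* CJ hω := (altHom hω).codRestrict _ (altHom_mem_CJ hω)
  have hf : Function.Injective f := fun a b h => altHom_injective hω hF (congrArg Subtype.val h)
  have hcompl : Q.IsComplement' f.range := by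
    refine Subgroup.isComplement'_of_card_mul_and_disjoint ?_ ?_
    · rw [hcard, Nat.card_congr (MonoidHom.ofInjective hf).symm.toEquiv, card_alt, (exists_prod hω hF).1]
    · rw [Subgroup.disjoint_def]
      rintro x hx ⟨π, rfl⟩
      have h1 : altHom hω π ∈ QJ hω := hx
      rw [altHom_mem_QJ hω hF π h1, map_one]
  refine ⟨Q, hn, ?_, hcard, fun E hE => ?_, ⟨_, hcompl⟩,
    ⟨(Subgroup.IsComplement'.QuotientMulEquiv hcompl.symm).trans (MonoidHom.ofInjective hf).symm⟩⟩
  · exact extraspecial_equiv e.symm (QJ_extraspecial hω hF)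
  · rw [← Subgroup.card_map_of_injective (K := E) (f := e.toMonoidHom) e.injective]
    refine QJ_no_eight hω hF _ ⟨?_, ?_⟩
    · haveI := hE.1
      exact ⟨⟨fun a b => by
        obtain ⟨x, hx, hxa⟩ := a.2
        obtain ⟨y, hy, hyb⟩ := b.2
        refine Subtype.ext ?_
        show a.1 * b.1 = b.1 * a.1
        rw [← hxa, ← hyb, ← map_mul, ← map_mul]
        exact congrArg _ (congrArg Subtype.val (mul_comm' (⟨x, hx⟩ : E) ⟨y, hy⟩))⟩⟩
    · rintro _ ⟨x, hx, rfl⟩
      rw [← map_pow, hE.2 x hx, map_one]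

end

end Cfsg.Lib.Spor.J3
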