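import Cfsg.Agent.Spor.J3.CentCount

/-!
Words as elements of the quotient, and the two subgroups of the centraliser.
-/

set_option autoImplicit false
set_option Elab.async false

namespace Cfsg.Lib.Spor.J3

open Cfsg.Spor Equiv

section
variable {F : Type*} [Field F] [Fintype F] [CharP F 2] {ω : F} (hω : ω ^ 2 + ω + 1 = 0)

theorem wd_mem_all (w : List ℕ) : wd hω w ∈ threeJ3 F ω := by
  induction w with
  | nil => exact one_mem _
  | cons k w ih =>
    rw [wd_cons]
    refine mul_mem ?_ ih
    by_cases hk : k < 33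
    · simpa [wd] using wd_mem hω (w := [k]) (by simp [lettersOK, hk])
    · simp [at', hk]

/-- A word in the triple cover. -/
def gel (w : List ℕ) : threeJ3 F ω := ⟨wd hω w, wd_mem_all hω w⟩

/-- A word in the simple group. -/
def eJ (w : List ℕ) : Cfsg.Spor.J3 F ω := QuotientGroup.mk' _ (gel hω w)

theorem eJ_nil : eJ hω [] = 1 := by
  rw [eJ, show gel hω [] = 1 from Subtype.ext (wd_nil hω), map_one]

theorem eJ_append (w u : List ℕ) : eJ hω (w ++ u) = eJ hω w * eJ hω u := by
  rw [eJ, eJ, eJ, ← map_mul]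
  exact congrArg _ (Subtype.ext (wd_append hω w u))

theorem eJ_cons (k : ℕ) (w : List ℕ) : eJ hω (k :: w) = eJ hω [k] * eJ hω w := eJ_append hω [k] w

theorem scalar_mem_center {k : ℕ} (hk : k = 21 ∨ k = 22) : gel hω [k] ∈ Subgroup.center (threeJ3 F ω) := by
  rw [Subgroup.mem_center_iff]
  intro g
  refine Subtype.ext ?_
  simpa [gel, wd] using (scalar_central hω hk g.1).symm

theorem eJ_scalar {k : ℕ} (hk : k = 21 ∨ k = 22) : eJ hω [k] = 1 :=
  (QuotientGroup.eq_one_iff _).mpr (scalar_mem_center hω hk)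

theorem same3_sound {w u : List ℕ} (h : same3 w u = true) : eJ hω w = eJ hω u := by
  simp only [same3, Bool.and_eq_true, Bool.or_eq_true, beq_iff_eq] at h
  obtain ⟨⟨hw, hu⟩, h⟩ := h
  have hh : ∀ u', lettersOK u' = true → wcols w = wcols u' → eJ hω w = eJ hω u' := fun u' hu' he => by
    have : gel hω w = gel hω u' := Subtype.ext (eqw_sound hω (by simp [eqw, hw, hu', he]))
    rw [eJ, eJ, this]
  have hl : ∀ k, k < 33 → lettersOK (k :: u) = true := fun k hk => by
    simp only [lettersOK, List.all_cons, Bool.and_eq_true, decide_eq_true_eq]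
    exact ⟨hk, hu⟩
  rcases h with (h | h) | h
  · exact hh u hu h
  · rw [hh _ (hl 21 (by norm_num)) h, eJ_cons, eJ_scalar hω (Or.inl rfl), one_mul]
  · rw [hh _ (hl 22 (by norm_num)) h, eJ_cons, eJ_scalar hω (Or.inr rfl), one_mul]

include hω in
theorem center_cases (hF : Fintype.card F = 4) {g : threeJ3 F ω} (hg : g ∈ Subgroup.center (threeJ3 F ω)) :
    g = 1 ∨ g = gel hω [21] ∨ g = gel hω [22] := by
  classical
  have h0 := omega_ne_zero hω
  obtain ⟨c, hc, hgc⟩ := center_scalar hω hg
  have h1 : ω ≠ 1 := fun e => by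
    have h2 := omega_sq hω
    rw [e, one_mul, CharTwo.add_self_eq_zero] at h2
    exact one_ne_zero h2
  have hu : c ∈ ({0, 1, ω, ω * ω} : Finset F) := by
    have hcard : ({0, 1, ω, ω * ω} : Finset F).card = 4 := by
      have h2 : ω * ω ≠ 1 := fun e => h0 (by rw [omega_sq hω] at e; simpa using e)
      have h3 : ω * ω ≠ ω := fun e => h1 (mul_left_cancel₀ h0 (by rw [e, mul_one]))
      simp [Finset.card_insert_of_notMem, h0, h0.symm, h1, h1.symm, h2, h2.symm, h3, h3.symm]
    rw [Finset.eq_univ_of_card _ (hcard.trans hF.symm)]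
    exact Finset.mem_univ c
  simp only [Finset.mem_insert, Finset.mem_singleton, hc, false_or] at hu
  rcases hu with rfl | rfl | rfl
  · exact Or.inl (Subtype.ext (Units.ext (by simp [hgc])))
  · exact Or.inr (Or.inl (Subtype.ext (Units.ext (by simp [gel, hgc, wd, (coe_scalar hω).1]))))
  · exact Or.inr (Or.inr (Subtype.ext (Units.ext (by simp [gel, hgc, wd, (coe_scalar hω).2]))))

include hω in
theorem same3_of_eq (hF : Fintype.card F = 4) {w u : List ℕ} (hw : lettersOK w = true) (hu : lettersOK u = true)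
    (h : eJ hω w = eJ hω u) : same3 w u = true := by
  have hmem : gel hω w * (gel hω u)⁻¹ ∈ Subgroup.center (threeJ3 F ω) := by
    rw [← QuotientGroup.eq_one_iff]
    show QuotientGroup.mk' (Subgroup.center (threeJ3 F ω)) (gel hω w * (gel hω u)⁻¹) = 1
    rw [map_mul, map_inv, mul_inv_eq_one]
    exact h
  have hh : ∀ u', lettersOK u' = true → gel hω w = gel hω u' → wcols w = wcols u' := fun u' hu' he =>
    wcols_eq_of_wd_eq hω hw hu' (congrArg Subtype.val he)
  have hl : ∀ k, k < 33 → lettersOK (k :: u) = true := fun k hk => by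
    simp only [lettersOK, List.all_cons, Bool.and_eq_true, decide_eq_true_eq]
    exact ⟨hk, hu⟩
  have hcons : ∀ k, gel hω (k :: u) = gel hω [k] * gel hω u := fun k => Subtype.ext (wd_append hω [k] u)
  simp only [same3, hw, hu, Bool.true_and, Bool.or_eq_true, beq_iff_eq]
  rcases center_cases hω hF hmem with e | e | e
  · exact Or.inl (Or.inl (hh u hu (mul_inv_eq_one.mp e)))
  · exact Or.inl (Or.inr (hh _ (hl 21 (by norm_num)) (by rw [hcons, ← e, inv_mul_cancel_right])))
  · exact Or.inr (hh _ (hl 22 (by norm_num)) (by rw [hcons, ← e, inv_mul_cancel_right]))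

include hω in
theorem ne_of_same3_false (hF : Fintype.card F = 4) {w u : List ℕ} (hw : lettersOK w = true)
    (hu : lettersOK u = true) (h : same3 w u = false) : eJ hω w ≠ eJ hω u := fun e => by
  rw [same3_of_eq hω hF hw hu e] at h
  exact Bool.false_ne_true h.symm

/-- The involution. -/
def tJ : Cfsg.Spor.J3 F ω := eJ hω [13]

theorem tJ_sq : tJ hω * tJ hω = 1 := by
  rw [tJ, ← eJ_append, ← eJ_nil hω]
  exact same3_sound hω t_invol.1

include hω in
theorem tJ_ne (hF : Fintype.card F = 4) : tJ hω ≠ 1 := by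
  rw [tJ, ← eJ_nil hω]
  exact ne_of_same3_false hω hF (by decide) rfl t_invol.2.1

theorem qList_letters {i : ℕ} (hi : i < 32) : lettersOK (qList.getD i []) = true := by
  have h := q_basic.2.2.2.2.2.2.1
  have hl : i < qList.length := by rw [q_basic.1]; exact hi
  have := List.all_eq_true.mp h _ (List.getElem_mem hl)
  simp only [Bool.and_eq_true] at this
  rw [List.getD_eq_getElem _ _ hl]; exact this.1

/-- A listed element of the normal 2-group. -/
def qe (i : ℕ) : Cfsg.Spor.J3 F ω := eJ hω (qList.getD i [])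

/-- A generator of the normal 2-group. -/
def qg (k : ℕ) : Cfsg.Spor.J3 F ω := eJ hω (qGens.getD k [])

theorem qe_zero : qe hω 0 = 1 := by
  have h := q_basic.2.2.2.2.1
  rw [qe, List.getD_eq_getElem?_getD, ← List.head?_eq_getElem?, h, Option.getD_some, eJ_nil]

theorem qe_centre : qe hω qCentre = tJ hω := same3_sound hω q_basic.2.2.2.2.2.2.2.2.1

theorem qg_eq {k : ℕ} (hk : k < qPos.length) : qPos.getD k 0 < 32 ∧ qg hω k = qe hω (qPos.getD k 0) := by
  have h := List.all_eq_true.mp q_basic.2.2.2.2.2.2.2.2.2.1 k (List.mem_range.mpr hk)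
  simp only [Bool.and_eq_true, decide_eq_true_eq] at h
  exact ⟨h.1, same3_sound hω h.2⟩

theorem qMul_eq {k i : ℕ} (hk : k < qPos.length) (hi : i < 32) :
    (qMul.getD k []).getD i 0 < 32 ∧ qg hω k * qe hω i = qe hω ((qMul.getD k []).getD i 0) := by
  have h := List.all_eq_true.mp (List.all_eq_true.mp q_mul k (List.mem_range.mpr hk)) i (List.mem_range.mpr hi)
  simp only [Bool.and_eq_true, decide_eq_true_eq] at h
  exact ⟨h.1, by rw [qg, qe, ← eJ_append]; exact same3_sound hω h.2⟩

/-- The normal 2-subgroup. -/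
def QJ : Subgroup (Cfsg.Spor.J3 F ω) := Subgroup.closure {x | ∃ k, k < qPos.length ∧ x = qg hω k}

theorem qg_mem {k : ℕ} (hk : k < qPos.length) : qg hω k ∈ QJ hω := Subgroup.subset_closure ⟨k, hk, rfl⟩

theorem qe_mem {i : ℕ} (hi : i < 32) : qe hω i ∈ QJ hω := by
  have h := List.all_eq_true.mp q_basic.2.2.2.2.2.2.2.2.2.2 i (List.mem_range.mpr hi)
  simp only [Bool.and_eq_true, List.all_eq_true, decide_eq_true_eq] at h
  rw [qe, same3_sound hω h.2]
  have hk := h.1
  clear h
  generalize qIdx.getD i [] = L at hk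
  induction L with
  | nil => rw [flatIdx, List.flatMap_nil, eJ_nil]; exact one_mem _
  | cons k L ih =>
    rw [flatIdx, List.flatMap_cons, eJ_append]
    exact mul_mem (qg_mem hω (hk k List.mem_cons_self)) (ih fun j hj => hk j (List.mem_cons_of_mem _ hj))

theorem mem_QJ {x : Cfsg.Spor.J3 F ω} : x ∈ QJ hω ↔ ∃ i, i < 32 ∧ x = qe hω i := by
  refine ⟨fun hx => ?_, fun ⟨i, hi, e⟩ => e ▸ qe_mem hω hi⟩
  rw [QJ, ← Subgroup.mem_toSubmonoid, Subgroup.closure_toSubmonoid_of_finite] at hx
  induction hx using Submonoid.closure_induction_left with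
  | one => exact ⟨0, by norm_num, (qe_zero hω).symm⟩
  | mul_left g hg y _ ih =>
    obtain ⟨k, hk, rfl⟩ := hg
    obtain ⟨i, hi, rfl⟩ := ih
    exact ⟨_, (qMul_eq hω hk hi).1, (qMul_eq hω hk hi).2⟩

include hω in
theorem qe_injective (hF : Fintype.card F = 4) {i j : ℕ} (hi : i < 32) (hj : j < 32) (h : qe hω i = qe hω j) :
    i = j := by
  have key : ∀ {a b : ℕ}, a < 32 → b < a → qe hω a ≠ qe hω b := by
    intro a b ha hb e
    have h1 := same3_of_eq hω hF (qList_letters ha) (qList_letters (hb.trans ha)) e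
    have h2 := List.all_eq_true.mp (List.all_eq_true.mp q_keys a (List.mem_range.mpr ha)) b (List.mem_range.mpr hb)
    have h3 : ∀ {w u : List ℕ}, same3 w u = true → key3 w = key3 u := by
      intro w u hwu
      simp only [same3, Bool.and_eq_true, Bool.or_eq_true, beq_iff_eq] at hwu
      obtain ⟨⟨hw, hu⟩, hwu⟩ := hwu
      have hd : ∀ k v, k < 33 → lettersOK v = true → lettersOK (k :: v) = true := fun k v hk hv => by
        simp only [lettersOK, List.all_cons, Bool.and_eq_true, decide_eq_true_eq]; exact ⟨hk, hv⟩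
      have hs : ∀ k v, wcols (k :: v) = (wcols v).map (vmul (atomTbls.getD k (0, 0, 0))) := fun k v => rfl
      have hr : ∀ v, lettersOK v = true → wcols (21 :: 21 :: v) = wcols (22 :: v) ∧
          wcols (21 :: 22 :: v) = wcols v ∧ wcols (22 :: 21 :: v) = wcols v ∧
          wcols (22 :: 22 :: v) = wcols (21 :: v) := by
        intro v hv
        have e1 : eqw [21, 21] [22] = true ∧ eqw [21, 22] [] = true ∧ eqw [22, 21] [] = true ∧
            eqw [22, 22] [21] = true := by decide +kernel
        have hgo : ∀ {a b : List ℕ}, lettersOK a = true → lettersOK b = true → eqw a b = true →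
            wcols (a ++ v) = wcols (b ++ v) := fun {a b} ha hb he => wcols_eq_of_wd_eq hω
          (by simp only [lettersOK, List.all_append, Bool.and_eq_true] at *; exact ⟨ha, hv⟩)
          (by simp only [lettersOK, List.all_append, Bool.and_eq_true] at *; exact ⟨hb, hv⟩)
          (by rw [wd_append, wd_append, eqw_sound hω he])
        exact ⟨hgo (by decide) (by decide) e1.1, hgo (by decide) (by decide) e1.2.1,
          hgo (by decide) (by decide) e1.2.2.1, hgo (by decide) (by decide) e1.2.2.2⟩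
      obtain ⟨r1, r2, r3, r4⟩ := hr u hu
      unfold key3
      rcases hwu with (e | e) | e
      · rw [e, hs 21 w, hs 22 w, e, ← hs 21 u, ← hs 22 u]
      · rw [e, hs 21 w, hs 22 w, e, ← hs 21 (21 :: u), ← hs 22 (21 :: u), r1, r3]
        ac_rfl
      · rw [e, hs 21 w, hs 22 w, e, ← hs 21 (22 :: u), ← hs 22 (22 :: u), r2, r4]
        ac_rfl
    rw [h3 h1, beq_self_eq_true] at h2
    exact absurd h2 (by simp)
  rcases lt_trichotomy i j with hij | hij | hij
  · exact absurd h.symm (key hj hij)
  · exact hij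
  · exact absurd h (key hi hij)

include hω in
theorem card_QJ (hF : Fintype.card F = 4) : Nat.card (QJ hω) = 32 := by
  rw [← Nat.card_fin 32]
  refine (Nat.card_eq_of_bijective (fun i : Fin 32 => (⟨qe hω i, qe_mem hω i.2⟩ : QJ hω)) ⟨?_, ?_⟩).symm
  · intro i j h
    exact Fin.ext (qe_injective hω hF i.2 j.2 (congrArg Subtype.val h))
  · rintro ⟨x, hx⟩
    obtain ⟨i, hi, rfl⟩ := (mem_QJ hω).mp hx
    exact ⟨⟨i, hi⟩, rfl⟩

theorem qe_comm_tJ {x : Cfsg.Spor.J3 F ω} (hx : x ∈ QJ hω) : Commute x (tJ hω) := by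
  obtain ⟨i, hi, rfl⟩ := (mem_QJ hω).mp hx
  have hl : i < qList.length := by rw [q_basic.1]; exact hi
  have := List.all_eq_true.mp q_basic.2.2.2.2.2.2.1 _ (List.getElem_mem hl)
  simp only [Bool.and_eq_true] at this
  have e := same3_sound hω this.2
  rw [eJ_cons, eJ_append] at e
  rw [qe, List.getD_eq_getElem _ _ hl]
  exact e.symm

/-- The function giving the complement. -/
def altFun (π : Perm (Fin 5)) : Cfsg.Spor.J3 F ω := eJ hω (altOf π)

theorem altFun_one : altFun hω 1 = 1 := by rw [altFun, same3_sound hω alt_one.1, eJ_nil]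

theorem altGen_sign : ∀ c < 2, Perm.sign (altGen c) = 1 := by decide +kernel

theorem altFun_gen_mul {c : ℕ} (hc : c < 2) {π : Perm (Fin 5)} (hπ : Perm.sign π = 1) :
    altFun hω (altGen c * π) = altFun hω (altGen c) * altFun hω π := by
  have h := alt_hom π hπ
  simp only [Bool.and_eq_true] at h
  rw [altFun, altFun, altFun, ← eJ_append]
  rcases (show c = 0 ∨ c = 1 by omega) with rfl | rfl
  · exact (same3_sound hω h.1).symm
  · exact (same3_sound hω h.2).symm

theorem altProd_word (π : Perm (Fin 5)) (hπ : Perm.sign π = 1) :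
    ∃ w : List ℕ, (∀ c ∈ w, c < 2) ∧ altProd w = π := by
  have h := alt_table π hπ
  simp only [Bool.and_eq_true, List.all_eq_true, decide_eq_true_eq] at h
  exact ⟨_, h.2, h.1.2⟩

theorem altFun_mul {σ π : Perm (Fin 5)} (hσ : Perm.sign σ = 1) (hπ : Perm.sign π = 1) :
    altFun hω (σ * π) = altFun hω σ * altFun hω π := by
  obtain ⟨w, hw, rfl⟩ := altProd_word σ hσ
  clear hσ
  induction w generalizing π with
  | nil => simp [altProd, altFun_one]
  | cons c w ih =>
    have hc := hw c List.mem_cons_self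
    have hw' : ∀ d ∈ w, d < 2 := fun d hd => hw d (List.mem_cons_of_mem _ hd)
    have hs : ∀ v : List ℕ, (∀ d ∈ v, d < 2) → Perm.sign (altProd v) = 1 := by
      intro v hv
      induction v with
      | nil => simp [altProd]
      | cons d v ihv =>
        rw [altProd, List.map_cons, List.prod_cons, map_mul, altGen_sign d (hv d List.mem_cons_self), one_mul]
        exact ihv fun e he => hv e (List.mem_cons_of_mem _ he)
    rw [show altProd (c :: w) = altGen c * altProd w from List.prod_cons, mul_assoc,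
      altFun_gen_mul hω hc (by rw [map_mul, hs w hw', hπ, one_mul]), ih hπ hw',
      altFun_gen_mul hω hc (hs w hw'), mul_assoc]

/-- The complement as a homomorphism. -/
def altHom : alternatingGroup (Fin 5) →* Cfsg.Spor.J3 F ω where
  toFun π := altFun hω π.1
  map_one' := altFun_one hω
  map_mul' a b := altFun_mul hω (Perm.mem_alternatingGroup.mp a.2) (Perm.mem_alternatingGroup.mp b.2)

theorem altHom_comm_tJ (π : alternatingGroup (Fin 5)) : Commute (altHom hω π) (tJ hω) := by
  have h := alt_table π.1 (Perm.mem_alternatingGroup.mp π.2)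
  simp only [Bool.and_eq_true] at h
  have e := same3_sound hω h.1.1.2
  rw [eJ_cons, eJ_append] at e
  exact e.symm

theorem gen_normalises {c : ℕ} (hc : c < 2) {k : ℕ} (hk : k < qPos.length) :
    altFun hω (altGen c) * qg hω k * (altFun hω (altGen c))⁻¹ = qe hω ((qConj.getD c []).getD k 0) ∧
      (qConj.getD c []).getD k 0 < 32 := by
  have hmem : c ∈ ([0, 1] : List ℕ) := by
    rcases (show c = 0 ∨ c = 1 by omega) with rfl | rfl <;> simp
  have h := List.all_eq_true.mp (List.all_eq_true.mp q_conj c hmem) k (List.mem_range.mpr hk)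
  simp only [Bool.and_eq_true, decide_eq_true_eq] at h
  have e := same3_sound hω h.2
  rw [eJ_append, eJ_append] at e
  exact ⟨mul_inv_eq_of_eq_mul e, h.1⟩

end

end Cfsg.Lib.Spor.J3
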