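import Cfsg.Agent.Spor.J3.OrbitCertLine

/-!
The triple cover has order 150698880, and the orbit of the first line has 23256 members.
-/

set_option autoImplicit false
set_option Elab.async false

namespace Cfsg.Lib.Spor.J3

open Cfsg.Spor Matrix

theorem m0_fixes : gM0.all (fun g => sameLine (wvec g 1) 1) = true := by decide +kernel
theorem h0_fixes : gH0.all (fun g => sameLine (wvec g 1) 1) = true := by decide +kernel

/-- The nine monomial images of the first line are distinct. -/
theorem nine_lines : ∀ a b : Fin 9, a ≠ b →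
    sameLine (wvec (repsM.getD a []) 1) (wvec (repsM.getD b []) 1) = false := by decide +kernel

theorem repsM_letters : repsM.all monoLetters = true := by decide +kernel

/-- Every element of the small group sends the second basis line to a basis line. -/
theorem m0_monomial : wordsM0.all (fun w => (List.range 9).any fun z => sameLine (wvec w 2) (2 ^ z)) = true := by
  decide +kernel

/-- The ten cosets are told apart by the image of the second basis line. -/
theorem ten_cosets : ∀ k l : Fin 10, k ≠ l →
    (List.range 9).all (fun z => !sameLine (wvec (repsH.getD l []) 2) (wvec (repsH.getD k []) (2 ^ z))) = true := by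
  decide +kernel

theorem repsH_letters : repsH.all (fun w => lettersOK w && stabLetters w) = true := by decide +kernel

theorem interSize_eq : ∀ i : Fin 20, lineStabs.getD i 0 = interSize i := by decide +kernel

section
variable {F : Type*} [Field F] [Fintype F] [CharP F 2] {ω : F} (hω : ω ^ 2 + ω + 1 = 0)

theorem genBy_le_lineStab {gs : List (List ℕ)} {v : ℕ} (hgs : gs.all lettersOK = true)
    (h : gs.all (fun g => sameLine (wvec g v) v) = true) : genBy hω gs ≤ lineStab (vec ω v) := by
  refine (Subgroup.closure_le _).mpr ?_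
  rintro _ ⟨g, hg, rfl⟩
  show LineRel _ _
  rw [← vec_wvec hω (List.all_eq_true.mp hgs g hg)]
  exact lineRel_of_sameLine hω (List.all_eq_true.mp h g hg)

theorem wvec_lt {w : List ℕ} {v : ℕ} (hv : v < 262144) : wvec w v < 262144 := by
  cases w with
  | nil => exact hv
  | cons k w => exact stepVec_lt k _

theorem card_subM (hF : Fintype.card F = 4) : Nat.card (subM hω) = 5832 := by
  classical
  refine le_antisymm (card_subM_le hω) ?_
  rw [card_eq_orb_mul_stab (subM hω) (vec ω 1)]
  have h1 : 648 ≤ Nat.card ↥(subM hω ⊓ lineStab (vec ω 1)) := by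
    rw [← card_subM0 hω]
    exact Subgroup.card_le_of_le (le_inf (subM0_le_subM hω) (genBy_le_lineStab hω (by decide) m0_fixes))
  have h2 : 9 ≤ (lineOrb (subM hω) (vec ω 1)).ncard := by
    let f : Fin 9 → lineOrb (subM hω) (vec ω 1) := fun a =>
      ⟨F ∙ ((wd hω (repsM.getD a []) : Matrix F9 F9 F) *ᵥ vec ω 1), _, wd_mem_subM' hω (by
        have ha : (a : ℕ) < repsM.length := by rw [lengths_ok.2.1]; exact a.2
        rw [List.getD_eq_getElem _ _ ha]
        exact List.all_eq_true.mp repsM_letters _ (List.getElem_mem ha)), rfl⟩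
    have hl : ∀ a : Fin 9, lettersOK (repsM.getD a []) = true := by decide +kernel
    have hf : Function.Injective f := by
      intro a b hab
      by_contra hne
      have h := span_eq_iff.mp (congrArg Subtype.val hab)
      rw [← vec_wvec hω (hl a), ← vec_wvec hω (hl b)] at h
      have := sameLine_of_lineRel hω hF (wvec_lt (by norm_num)) (wvec_lt (by norm_num)) h
      rw [nine_lines b a (Ne.symm hne)] at this
      exact Bool.false_ne_true this
    have := Nat.card_le_card_of_injective f hf
    rwa [Nat.card_coe_set_eq, Nat.card_fin] at this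
  calc 5832 = 9 * 648 := by norm_num
    _ ≤ _ := Nat.mul_le_mul h2 h1

theorem wordsMono_letters {w : List ℕ} (hw : w ∈ prodList repsM wordsM0) : lettersOK w = true := by
  obtain ⟨r, hr, hw⟩ := List.mem_flatMap.mp hw
  obtain ⟨u, hu, rfl⟩ := List.mem_map.mp hw
  have h1 := List.all_eq_true.mp repsM_letters r hr
  have h2 := List.all_eq_true.mp wordsM0_letters u hu
  simp only [lettersOK, monoLetters, List.all_eq_true, decide_eq_true_eq, List.mem_append] at h1 h2 ⊢
  rintro k (hk | hk)
  · exact (h1 k hk).trans (by norm_num)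
  · exact (h2 k hk).trans (by norm_num)

/-- What an orbit check gives. -/
theorem orbit_sound (hF : Fintype.card F = 4) {P N : List ℕ} {i : ℕ} (h : orbitOK P N i = true) :
    5832 ≤ (lineOrb (subM hω) (vec ω (P.getD i 0))).ncard * N.getD i 0 ∧
      ∀ j, i < j → j < P.length → P.getD j 0 < 262144 →
        ∀ g ∈ subM hω, ¬ LineRel ((g : Matrix F9 F9 F) *ᵥ vec ω (P.getD i 0)) (vec ω (P.getD j 0)) := by
  classical
  simp only [orbitOK, Bool.and_eq_true, decide_eq_true_eq, List.all_eq_true, Bool.not_eq_true'] at h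
  obtain ⟨⟨⟨hp, -⟩, hfil⟩, hbad⟩ := h
  rw [monoImages_eq] at hfil hbad
  set p := P.getD i 0
  constructor
  · rw [← card_subM hω hF, card_eq_orb_mul_stab (subM hω) (vec ω p)]
    refine Nat.mul_le_mul_left _ (le_trans ?_ hfil)
    rw [List.filter_map, List.length_map]
    refine card_le_of_listed hω fun x hx => ?_
    obtain ⟨w, hw, rfl⟩ := listedM hω x hx.1
    refine ⟨w, List.mem_filter.mpr ⟨hw, ?_⟩, rfl⟩
    have hrel : LineRel (vec ω (wvec w p)) (vec ω p) := by
      rw [vec_wvec hω (wordsMono_letters hw)]; exact hx.2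
    exact sameLine_of_lineRel hω hF (wvec_lt hp) hp hrel
  · intro j hij hj hjlt g hg hrel
    obtain ⟨w, hw, rfl⟩ := listedM hω g hg
    rw [← vec_wvec hω (wordsMono_letters hw)] at hrel
    have hs := sameLine_of_lineRel hω hF (wvec_lt hp) hjlt hrel
    simp only [sameLine, List.any_eq_true, beq_iff_eq] at hs
    obtain ⟨a, ha, he⟩ := hs
    have hm : P.getD j 0 ∈ P.drop (i + 1) := by
      refine List.mem_iff_getElem.mpr ⟨j - (i + 1), by rw [List.length_drop]; omega, ?_⟩
      rw [List.getElem_drop, List.getD_eq_getElem _ _ hj]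
      simp [show i + 1 + (j - (i + 1)) = j by omega]
    have := testBit_bitset (l := (P.drop (i + 1)).flatMap multiples) (List.mem_flatMap.mpr ⟨_, hm, ha⟩)
    rw [← he, hbad _ (List.mem_map.mpr ⟨w, hw, rfl⟩)] at this
    exact Bool.false_ne_true this

include hω in
/-- Several monomial orbits inside one orbit. -/
theorem orbit_lower (hF : Fintype.card F = 4) {n : ℕ} {P N : List ℕ} (hn : P.length = n)
    (hok : ∀ i : Fin n, orbitOK P N i = true) (hN : ∀ i : Fin n, 0 < N.getD i 0) {S : Set (Submodule F (F9 → F))}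
    (hS : ∀ i : Fin n, lineOrb (subM hω) (vec ω (P.getD i 0)) ⊆ S) :
    ∑ i : Fin n, 5832 / N.getD i 0 ≤ S.ncard := by
  classical
  have hlt : ∀ i : Fin n, P.getD i 0 < 262144 := fun i => by
    have h := hok i
    simp only [orbitOK, Bool.and_eq_true, decide_eq_true_eq] at h
    exact h.1.1.1
  have hdis : ∀ i j : Fin n, i ≠ j → Disjoint (lineOrb (subM hω) (vec ω (P.getD i 0)))
      (lineOrb (subM hω) (vec ω (P.getD j 0))) := by
    intro i j
    wlog hij : i < j generalizing i j with H
    · intro hne
      exact (H j i (lt_of_le_of_ne (not_lt.mp hij) (Ne.symm hne)) (Ne.symm hne)).symm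
    intro _
    rw [Set.disjoint_left]
    rintro L ⟨g, hg, rfl⟩ ⟨g', hg', he⟩
    obtain ⟨c, hc, hcc⟩ := span_eq_iff.mp he
    refine (orbit_sound hω hF (hok i)).2 j hij (hn ▸ j.2) (hlt j) (g'⁻¹ * g) (mul_mem (inv_mem hg') hg) ⟨c, hc, ?_⟩
    rw [Units.val_mul, ← Matrix.mulVec_mulVec, hcc, Matrix.mulVec_smul, Matrix.mulVec_mulVec, ← Units.val_mul,
      inv_mul_cancel, Units.val_one, Matrix.one_mulVec]
  calc ∑ i : Fin n, 5832 / N.getD i 0 ≤ ∑ i : Fin n, (lineOrb (subM hω) (vec ω (P.getD i 0))).ncard :=
        Finset.sum_le_sum fun i _ => Nat.div_le_of_le_mul (by rw [mul_comm]; exact (orbit_sound hω hF (hok i)).1)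
    _ = (⋃ i : Fin n, lineOrb (subM hω) (vec ω (P.getD i 0))).ncard := by
        rw [← finsum_eq_sum_of_fintype,
          Set.ncard_iUnion_of_finite (fun i => Set.toFinite _) (fun i j h => hdis i j h)]
    _ ≤ _ := Set.ncard_le_ncard (Set.iUnion_subset hS) (Set.toFinite _)

theorem six480_le_card_subH (hF : Fintype.card F = 4) : 6480 ≤ Nat.card (subH hω) := by
  have hl : ∀ k : Fin 10, lettersOK (repsH.getD k []) = true ∧ stabLetters (repsH.getD k []) = true := by
    decide +kernel
  let f : Fin 10 × subM0 hω → subH hω := fun a =>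
    ⟨wd hω (repsH.getD a.1 []) * a.2.1, mul_mem (wd_mem_subH hω (hl a.1).2) (subM0_le_subH hω a.2.2)⟩
  have hf : Function.Injective f := by
    rintro ⟨k, a⟩ ⟨l, b⟩ h
    have hv : wd hω (repsH.getD k []) * a.1 = wd hω (repsH.getD l []) * b.1 := congrArg Subtype.val h
    obtain rfl : k = l := by
      by_contra hne
      obtain ⟨w, hw, he⟩ := listedM0 hω _ (mul_mem a.2 (inv_mem b.2))
      have hw' : lettersOK w = true := by
        have h2 := List.all_eq_true.mp wordsM0_letters w hw
        simp only [lettersOK, List.all_eq_true, decide_eq_true_eq] at h2 ⊢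
        exact fun i hi => (h2 i hi).trans (by norm_num)
      have hlk : wd hω (repsH.getD l []) = wd hω (repsH.getD k []) * wd hω w := by
        rw [← he, ← mul_assoc, hv, mul_inv_cancel_right]
      obtain ⟨z, hz, hs⟩ := List.any_eq_true.mp (List.all_eq_true.mp m0_monomial w hw)
      obtain ⟨c, hc, hcc⟩ := lineRel_of_sameLine hω hs
      have hrel : LineRel (vec ω (wvec (repsH.getD l []) 2)) (vec ω (wvec (repsH.getD k []) (2 ^ z))) := by
        refine ⟨c, hc, ?_⟩
        rw [vec_wvec hω (hl l).1, vec_wvec hω (hl k).1, hlk, Units.val_mul, ← Matrix.mulVec_mulVec,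
          ← vec_wvec hω hw', hcc, Matrix.mulVec_smul]
      have hzb : 2 ^ z < 262144 := by
        calc 2 ^ z < 2 ^ 18 := Nat.pow_lt_pow_right (by norm_num) (by have := List.mem_range.mp hz; omega)
          _ = _ := by norm_num
      have := sameLine_of_lineRel hω hF (wvec_lt (by norm_num)) (wvec_lt hzb) hrel
      have h2 := List.all_eq_true.mp (ten_cosets k l hne) z hz
      rw [this] at h2
      exact Bool.false_ne_true (by simpa using h2)
    exact Prod.ext rfl (Subtype.ext (mul_left_cancel hv))
  simpa [Nat.card_prod, card_subM0 hω] using Nat.card_le_card_of_injective f hf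

theorem repsT_length : repsT.length = 20 := by decide +kernel

/-- The vector of the first line. -/
theorem vec_one_eq : vec ω 1 = Pi.single (0 : F9) (1 : F) := by
  have h : ∀ z : F9, (1 : ℕ).testBit (idx z) = decide (z = 0) ∧ (1 : ℕ).testBit (9 + idx z) = false := by decide +kernel
  funext z
  simp only [vec, phi, (h z).1, (h z).2, Pi.single_apply]
  by_cases e : z = 0 <;> simp [e]

include hω in
theorem orbit_lower_first (hF : Fintype.card F = 4) : 23256 ≤ (lineOrb (threeJ3 F ω) (vec ω 1)).ncard := by
  refine le_trans ?_ (orbit_lower hω hF (n := 20) (P := linePts) (N := lineStabs) (by decide +kernel) lineOrbit_ok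
    (fun i => by rw [interSize_eq]; exact interSize_sum.1 i) fun i => ?_)
  · exact le_of_eq (by rw [← interSize_sum.2]; exact Finset.sum_congr rfl fun i _ => by rw [interSize_eq])
  · rintro L ⟨g, hg, rfl⟩
    have hi : (i : ℕ) < repsT.length := by rw [repsT_length]; exact i.2
    have ht := List.all_eq_true.mp repsT_letters _ (List.getElem_mem hi)
    refine ⟨g * wd hω repsT[(i : ℕ)], mul_mem (subM_le hω hg) (wd_mem hω ht), ?_⟩
    simp only [linePts_eq, List.getD_eq_getElem?_getD, List.getElem?_map, List.getElem?_eq_getElem hi,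
      Option.map_some, Option.getD_some, vec_wvec hω ht, Matrix.mulVec_mulVec, Units.val_mul]

include hω in
theorem first_orbit_and_order (hF : Fintype.card F = 4) :
    Nat.card (threeJ3 F ω) = 150698880 ∧ (lineOrb (threeJ3 F ω) (vec ω 1)).ncard = 23256 ∧
      threeJ3 F ω ⊓ lineStab (vec ω 1) = subH hω := by
  have h1 := orbit_lower_first hω hF
  have hle : subH hω ≤ threeJ3 F ω ⊓ lineStab (vec ω 1) :=
    le_inf (subH_le hω) (genBy_le_lineStab hω (by decide) h0_fixes)
  have h2 : 6480 ≤ Nat.card ↥(threeJ3 F ω ⊓ lineStab (vec ω 1)) :=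
    (six480_le_card_subH hω hF).trans (Subgroup.card_le_of_le hle)
  have h3 := card_eq_orb_mul_stab (threeJ3 F ω) (vec ω 1)
  have h4 := card_threeJ3_le hω
  rw [h3] at h4 ⊢
  have e1 : (lineOrb (threeJ3 F ω) (vec ω 1)).ncard = 23256 := by nlinarith
  have e2 : Nat.card ↥(threeJ3 F ω ⊓ lineStab (vec ω 1)) = 6480 := by rw [e1] at h4; omega
  refine ⟨by rw [e1, e2], e1, (Subgroup.eq_of_le_of_card_ge hle ?_).symm⟩
  rw [e2]; exact six480_le_card_subH hω hF

end

end Cfsg.Lib.Spor.J3
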