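import Cfsg.Agent.Spor.J3.SimpleData

/-!
The centre has order three and the central quotient is simple.
-/

set_option autoImplicit false
set_option Elab.async false

namespace Cfsg.Lib.Spor.J3

open Cfsg.Spor Matrix

/-- One conjugate of the element or of its inverse. -/
def conjWord (i : ℕ) : List ℕ :=
  let p := conjPairs.getD (i % 4) ([], [])
  p.1 ++ (if i < 4 then xWord else xInvWord) ++ p.2

theorem conj_ok : (List.range 4).all (fun i =>
    let p := conjPairs.getD i ([], [])
    lettersOK p.1 && lettersOK p.2 && eqw (p.1 ++ p.2) []) = true := by decide +kernel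

theorem factors_ok : (List.range 6).all (fun a =>
    (genFactors.getD a []).all (fun i => decide (i < 8)) &&
      eqw [gens6.getD a 0] ((genFactors.getD a []).flatMap conjWord)) = true := by decide +kernel

theorem x_ok : (lettersOK xWord && lettersOK xInvWord && eqw (List.replicate 19 xWord).flatten [] &&
    eqw (xInvWord ++ xWord) [] && !(wcols xWord == oneCols)) = true := by decide +kernel

theorem scalar_words_ok : (lettersOK [21] && !(wcols [21] == oneCols) && !(wcols [22] == oneCols) &&
    !(wcols [22] == wcols [21])) = true := by decide +kernel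

theorem exponent_rigid : ∀ p ∈ [2, 3, 5, 17], ∀ k < 8, ∀ j ≤ k,
    p ^ k ∣ 150698880 → p ^ k % 19 = p ^ j % 19 → j = k := by decide +kernel

theorem prime_divisors {p : ℕ} (hp : p.Prime) (h : p ∣ 150698880) (h19 : p ≠ 19) : p ∈ [2, 3, 5, 17] := by
  rw [show (150698880 : ℕ) = 2 ^ 7 * 3 ^ 6 * 5 * 17 * 19 by norm_num] at h
  have hb : ∀ {q e : ℕ}, q.Prime → p ∣ q ^ e → p = q := fun hq hd =>
    (Nat.prime_dvd_prime_iff_eq hp hq).mp (hp.dvd_of_dvd_pow hd)
  rcases (Nat.Prime.dvd_mul hp).mp h with h | h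
  · rcases (Nat.Prime.dvd_mul hp).mp h with h | h
    · rcases (Nat.Prime.dvd_mul hp).mp h with h | h
      · rcases (Nat.Prime.dvd_mul hp).mp h with h | h
        · simp [hb (by norm_num : Nat.Prime 2) h]
        · simp [hb (by norm_num : Nat.Prime 3) h]
      · simp [(Nat.prime_dvd_prime_iff_eq hp (by norm_num)).mp h]
    · simp [(Nat.prime_dvd_prime_iff_eq hp (by norm_num)).mp h]
  · exact absurd ((Nat.prime_dvd_prime_iff_eq hp (by norm_num)).mp h) h19

theorem distinct_characters : ∀ w z : F9, w ≠ z →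
    bitsA (1, 0) w w ≠ bitsA (1, 0) z z ∨ bitsA (0, 1) w w ≠ bitsA (0, 1) z z := by decide +kernel

section
variable {G : Type*} [Group G] [Finite G]

/-- An element of order nineteen normalising a small subgroup centralises it. -/
theorem centralises_of_normalises {p k : ℕ} {P : Subgroup G} (hP : Nat.card P = p ^ k) (hp : p.Prime)
    {y : G} (hy : orderOf y = 19) (hn : y ∈ Subgroup.normalizer (P : Set G))
    (hrig : ∀ j ≤ k, p ^ k % 19 = p ^ j % 19 → j = k) : ∀ a ∈ P, y * a = a * y := by
  haveI : Fact (Nat.Prime 19) := ⟨by norm_num⟩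
  let Y := Subgroup.zpowers y
  have hY : IsPGroup 19 Y := IsPGroup.of_card (n := 1) (by rw [Nat.card_zpowers, hy, pow_one])
  have hle : Y ≤ Subgroup.normalizer (P : Set G) := Subgroup.zpowers_le.mpr hn
  letI : MulAction Y P :=
    { smul := fun g a => ⟨g.1 * a.1 * g.1⁻¹, (Subgroup.mem_normalizer_iff.mp (hle g.2) a.1).mp a.2⟩
      one_smul := fun a => Subtype.ext (by show (1 : G) * a.1 * (1 : G)⁻¹ = a.1; group)
      mul_smul := fun g g' a => Subtype.ext (by
        show (g.1 * g'.1) * a.1 * (g.1 * g'.1)⁻¹ = g.1 * (g'.1 * a.1 * g'.1⁻¹) * g.1⁻¹; group) }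
  have hmod := hY.card_modEq_card_fixedPoints P
  let C : Subgroup P := Subgroup.centralizer ({y} : Set G) |>.subgroupOf P
  have hC : (MulAction.fixedPoints Y P) = (C : Set P) := by
    ext a
    simp only [MulAction.mem_fixedPoints, SetLike.mem_coe, C, Subgroup.mem_subgroupOf,
      Subgroup.mem_centralizer_singleton_iff]
    constructor
    · intro h
      have h2 : y * a.1 * y⁻¹ = a.1 := congrArg Subtype.val (h ⟨y, Subgroup.mem_zpowers y⟩)
      exact (mul_inv_eq_iff_eq_mul.mp h2).symm
    · intro h g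
      obtain ⟨n, hn⟩ := Subgroup.mem_zpowers_iff.mp g.2
      refine Subtype.ext ?_
      show g.1 * a.1 * g.1⁻¹ = a.1
      rw [← hn, mul_inv_eq_iff_eq_mul]
      exact (Commute.zpow_left (show Commute y a.1 from h.symm) n).eq
  obtain ⟨j, hjk, hj⟩ := (Nat.dvd_prime_pow hp).mp (hP ▸ Subgroup.card_subgroup_dvd_card C)
  have hcard : Nat.card C = Nat.card P := by
    rw [Nat.card_coe_set_eq, hC, ← Nat.card_coe_set_eq] at hmod
    rw [hP, SetLike.coe_sort_coe, hj] at hmod
    rw [hj, hP, hrig j hjk hmod]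
  intro a ha
  have : (⟨a, ha⟩ : P) ∈ C := (Subgroup.eq_top_of_card_eq C hcard).symm ▸ Subgroup.mem_top _
  exact (Subgroup.mem_centralizer_singleton_iff.mp (Subgroup.mem_subgroupOf.mp this)).symm

/-- A normal subgroup of order prime to nineteen is centralised by an element of order nineteen. -/
theorem centralises_normal (hcard : Nat.card G = 150698880) {x : G} (hx : orderOf x = 19) (N : Subgroup G)
    [N.Normal] (h19 : ¬ 19 ∣ Nat.card N) : ∀ a ∈ N, x * a = a * x := by
  haveI : Fact (Nat.Prime 19) := ⟨by norm_num⟩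
  suffices h : Nat.card N ∣ Nat.card ↥((Subgroup.centralizer ({x} : Set G)).subgroupOf N) by
    intro a ha
    have htop := Subgroup.eq_top_of_card_eq ((Subgroup.centralizer ({x} : Set G)).subgroupOf N)
      (Nat.dvd_antisymm (Subgroup.card_subgroup_dvd_card _) h)
    have : (⟨a, ha⟩ : N) ∈ (Subgroup.centralizer ({x} : Set G)).subgroupOf N := htop.symm ▸ Subgroup.mem_top _
    exact (Subgroup.mem_centralizer_singleton_iff.mp (Subgroup.mem_subgroupOf.mp this)).symm
  refine (Nat.dvd_iff_prime_pow_dvd_dvd _ _).mpr fun p e hp he => ?_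
  rcases Nat.eq_zero_or_pos e with rfl | hpos
  · simp
  haveI : Fact p.Prime := ⟨hp⟩
  obtain ⟨P⟩ := (inferInstance : Nonempty (Sylow p N))
  obtain ⟨k, hk⟩ := IsPGroup.iff_card.mp P.2
  have hsup := Sylow.normalizer_sup_eq_top P
  set P' : Subgroup G := (P : Subgroup N).map N.subtype with hP'
  have hcP : Nat.card P' = p ^ k := by
    rw [hP', Subgroup.card_map_of_injective N.subtype_injective, hk]
  have hNG : Nat.card N ∣ 150698880 := hcard ▸ Subgroup.card_subgroup_dvd_card N
  have hek : p ^ e ∣ p ^ k := hk ▸ P.pow_dvd_card_of_pow_dvd_card he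
  have hkG : p ^ k ∣ 150698880 := hcP ▸ hcard ▸ Subgroup.card_subgroup_dvd_card P'
  have hpN : p ∣ Nat.card N := (dvd_pow_self p hpos.ne').trans he
  have hp19 : p ≠ 19 := fun e19 => h19 (e19 ▸ hpN)
  have hmem := prime_divisors hp (hpN.trans hNG) hp19
  have hk8 : k < 8 := by
    by_contra hk8
    have h8 : p ^ 8 ∣ 150698880 := (Nat.pow_dvd_pow p (not_lt.mp hk8)).trans hkG
    revert h8
    have hall : ∀ q ∈ [2, 3, 5, 17], ¬ q ^ 8 ∣ 150698880 := by decide +kernel
    exact hall p hmem
  have hdvd : 19 ∣ Nat.card ↥(Subgroup.normalizer (P' : Set G)) := by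
    have hidx : N.index ∣ Nat.card ↥(Subgroup.normalizer (P' : Set G)) := by
      rw [← Subgroup.relIndex_top_right, ← hsup, Subgroup.relIndex_sup_right]
      exact Subgroup.relIndex_dvd_card N _
    refine dvd_trans ?_ hidx
    have h19G : 19 ∣ Nat.card N * N.index := by rw [Subgroup.card_mul_index, hcard]; norm_num
    exact ((Nat.Prime.dvd_mul (by norm_num)).mp h19G).resolve_left h19
  obtain ⟨y, hy⟩ := exists_prime_orderOf_dvd_card' (G := Subgroup.normalizer (P' : Set G)) 19 hdvd
  have hy' : orderOf (y : G) = 19 := by rw [Subgroup.orderOf_coe, hy]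
  have hcy := centralises_of_normalises hcP hp hy' y.2
    (fun j hj hm => exponent_rigid p hmem k hk8 j hj hkG hm)
  have hsyl : ∀ z : G, orderOf z = 19 → ∃ S : Sylow 19 G, (S : Subgroup G) = Subgroup.zpowers z := by
    intro z hz
    have hp2 : ¬ 19 ^ 2 ∣ Nat.card G := by rw [hcard]; norm_num
    have hI : IsPGroup 19 (Subgroup.zpowers z) := IsPGroup.of_card (n := 1) (by rw [Nat.card_zpowers, hz, pow_one])
    obtain ⟨S, hS⟩ := hI.exists_le_sylow
    refine ⟨S, (Subgroup.eq_of_le_of_card_ge hS ?_).symm⟩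
    obtain ⟨m, hm⟩ := IsPGroup.iff_card.mp S.2
    rw [hm, Nat.card_zpowers, hz]
    have hm1 : m ≤ 1 := by
      by_contra hm1
      exact hp2 ((Nat.pow_dvd_pow 19 (not_le.mp hm1)).trans (hm ▸ Subgroup.card_subgroup_dvd_card _))
    calc 19 ^ m ≤ 19 ^ 1 := Nat.pow_le_pow_right (by norm_num) hm1
      _ = 19 := pow_one 19
  obtain ⟨S, hS⟩ := hsyl y hy'
  obtain ⟨T, hT⟩ := hsyl x hx
  obtain ⟨g, hg⟩ := MulAction.exists_smul_eq G S T
  have hsub : P'.map (MulAut.conj g).toMonoidHom ≤ N ⊓ Subgroup.centralizer ({x} : Set G) := by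
    rintro _ ⟨a, ha, rfl⟩
    refine Subgroup.mem_inf.mpr ⟨(inferInstance : N.Normal).conj_mem a ?_ g, ?_⟩
    · obtain ⟨b, -, rfl⟩ := ha
      exact b.2
    have hx' : x ∈ (g • S : Sylow 19 G) := by
      rw [hg]; show x ∈ (T : Subgroup G); rw [hT]; exact Subgroup.mem_zpowers x
    replace hx' : x ∈ ((g • S : Sylow 19 G) : Subgroup G) := hx'
    rw [Sylow.coe_subgroup_smul, hS] at hx'
    obtain ⟨b, hb, hbx⟩ := Subgroup.mem_map.mp hx'
    obtain ⟨n, rfl⟩ := Subgroup.mem_zpowers_iff.mp hb
    refine Subgroup.mem_centralizer_singleton_iff.mpr ?_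
    have hc : Commute ((y : G) ^ n) a := Commute.zpow_left (hcy a ha) n
    rw [← hbx]
    simp only [MulDistribMulAction.toMonoidEnd_apply, MulDistribMulAction.toMonoidHom_apply,
      MulEquiv.toMonoidHom_eq_coe, MonoidHom.coe_coe, MulAut.conj_apply, MulAut.smul_def]
    rw [show g * a * g⁻¹ * (g * (y : G) ^ n * g⁻¹) = g * (a * (y : G) ^ n) * g⁻¹ by group,
      show g * (y : G) ^ n * g⁻¹ * (g * a * g⁻¹) = g * ((y : G) ^ n * a) * g⁻¹ by group, hc.eq]
  refine hek.trans ?_
  rw [← hcP, ← Subgroup.card_map_of_injective (K := P') (f := (MulAut.conj g).toMonoidHom) (MulAut.conj g).injective]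
  refine (Subgroup.card_dvd_of_le hsub).trans (dvd_of_eq ?_)
  rw [Nat.card_congr (Subgroup.subgroupOfEquivOfLe (inf_le_left : N ⊓ Subgroup.centralizer ({x} : Set G) ≤ N)).toEquiv.symm,
    Subgroup.inf_subgroupOf_left]

/-- Simplicity from an element of order nineteen whose normal closure is everything. -/
theorem center_or_top (hcard : Nat.card G = 150698880) {x : G} (hx : orderOf x = 19)
    (hgen : Subgroup.normalClosure ({x} : Set G) = ⊤) (N : Subgroup G) [N.Normal] :
    N ≤ Subgroup.center G ∨ N = ⊤ := by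
  haveI : Fact (Nat.Prime 19) := ⟨by norm_num⟩
  by_cases h19 : 19 ∣ Nat.card N
  · right
    obtain ⟨y, hy⟩ := exists_prime_orderOf_dvd_card' (G := N) 19 h19
    have hy' : orderOf (y : G) = 19 := by rw [Subgroup.orderOf_coe, hy]
    have hp2 : ¬ 19 ^ 2 ∣ Nat.card G := by rw [hcard]; norm_num
    have hsyl : ∀ z : G, orderOf z = 19 → ∃ S : Sylow 19 G, (S : Subgroup G) = Subgroup.zpowers z := by
      intro z hz
      have hI : IsPGroup 19 (Subgroup.zpowers z) :=
        IsPGroup.of_card (n := 1) (by rw [Nat.card_zpowers, hz, pow_one])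
      obtain ⟨S, hS⟩ := hI.exists_le_sylow
      refine ⟨S, (Subgroup.eq_of_le_of_card_ge hS ?_).symm⟩
      obtain ⟨m, hm⟩ := IsPGroup.iff_card.mp S.2
      rw [hm, Nat.card_zpowers, hz]
      have hm1 : m ≤ 1 := by
        by_contra hm1
        exact hp2 ((Nat.pow_dvd_pow 19 (not_le.mp hm1)).trans (hm ▸ Subgroup.card_subgroup_dvd_card _))
      calc 19 ^ m ≤ 19 ^ 1 := Nat.pow_le_pow_right (by norm_num) hm1
        _ = 19 := pow_one 19
    obtain ⟨S, hS⟩ := hsyl y hy'
    obtain ⟨T, hT⟩ := hsyl x hx
    obtain ⟨g, hg⟩ := MulAction.exists_smul_eq G S T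
    have hx' : x ∈ (g • S : Sylow 19 G) := by
      rw [hg]; show x ∈ (T : Subgroup G); rw [hT]; exact Subgroup.mem_zpowers x
    replace hx' : x ∈ ((g • S : Sylow 19 G) : Subgroup G) := hx'
    rw [Sylow.coe_subgroup_smul, hS] at hx'
    obtain ⟨b, hb, hbx⟩ := Subgroup.mem_map.mp hx'
    have hxN : x ∈ N := hbx ▸ (inferInstance : N.Normal).conj_mem b ((Subgroup.zpowers_le.mpr y.2) hb) g
    rw [eq_top_iff, ← hgen]
    exact Subgroup.normalClosure_le_normal (by simpa using hxN)
  · left
    have hle : Subgroup.normalClosure ({x} : Set G) ≤ Subgroup.centralizer (N : Set G) :=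
      Subgroup.normalClosure_le_normal (by
        intro z hz
        obtain rfl : z = x := hz
        exact Subgroup.mem_centralizer_iff.mpr fun a ha => (centralises_normal hcard hx N h19 a ha).symm)
    rw [hgen, top_le_iff] at hle
    intro a ha
    refine Subgroup.mem_center_iff.mpr fun b => ?_
    exact (Subgroup.mem_centralizer_iff.mp (hle ▸ Subgroup.mem_top b) a ha).symm

end

section
variable {F : Type*} [Field F] [Fintype F] [CharP F 2] {ω : F} (hω : ω ^ 2 + ω + 1 = 0)

/-- The element of order nineteen in the group. -/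
def xElt : threeJ3 F ω :=
  ⟨wd hω xWord, wd_mem hω (by have := x_ok; simp only [Bool.and_eq_true] at this; exact this.1.1.1.1)⟩

theorem wd_flatten_replicate (w : List ℕ) (n : ℕ) : wd hω (List.replicate n w).flatten = wd hω w ^ n := by
  induction n with
  | zero => simp
  | succ n ih => rw [List.replicate_succ, List.flatten_cons, wd_append, ih, pow_succ']

theorem wd_ne_one {w : List ℕ} (hl : lettersOK w = true) (h : (wcols w == oneCols) = false) : wd hω w ≠ 1 :=
  fun e => by
    have := wcols_eq_of_wd_eq hω hl (u := []) rfl (e.trans (wd_nil hω).symm)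
    rw [show wcols [] = oneCols from rfl] at this
    rw [this, beq_self_eq_true] at h
    exact Bool.false_ne_true h.symm

theorem orderOf_xElt : orderOf (xElt hω) = 19 := by
  haveI : Fact (Nat.Prime 19) := ⟨by norm_num⟩
  have h := x_ok
  simp only [Bool.and_eq_true, Bool.not_eq_true'] at h
  refine orderOf_eq_prime (Subtype.ext ?_) fun e => wd_ne_one hω h.1.1.1.1 h.2 (congrArg Subtype.val e)
  rw [SubgroupClass.coe_pow, OneMemClass.coe_one]
  show wd hω xWord ^ 19 = 1
  rw [← wd_flatten_replicate, eqw_sound hω h.1.1.2, wd_nil]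

theorem normalClosure_xElt : Subgroup.normalClosure ({xElt hω} : Set (threeJ3 F ω)) = ⊤ := by
  set N := Subgroup.normalClosure ({xElt hω} : Set (threeJ3 F ω)) with hN
  have hx := x_ok
  simp only [Bool.and_eq_true] at hx
  have hxi : wd hω xInvWord = (wd hω xWord)⁻¹ := by
    refine eq_inv_of_mul_eq_one_left ?_
    rw [← wd_append, eqw_sound hω hx.1.2, wd_nil]
  have hconj : ∀ i < 8, wd hω (conjWord i) ∈ N.map (threeJ3 F ω).subtype := by
    intro i hi
    have hc := List.all_eq_true.mp conj_ok (i % 4) (List.mem_range.mpr (Nat.mod_lt _ (by norm_num)))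
    simp only [Bool.and_eq_true] at hc
    obtain ⟨⟨h1, h2⟩, h3⟩ := hc
    have hinv : wd hω (conjPairs.getD (i % 4) ([], [])).2 = (wd hω (conjPairs.getD (i % 4) ([], [])).1)⁻¹ := by
      refine eq_inv_of_mul_eq_one_right ?_
      rw [← wd_append, eqw_sound hω h3, wd_nil]
    have hxN : xElt hω ∈ N := Subgroup.subset_normalClosure rfl
    let u : threeJ3 F ω := ⟨_, wd_mem hω h1⟩
    simp only [conjWord]
    split_ifs
    · refine ⟨u * xElt hω * u⁻¹, Subgroup.normalClosure_normal.conj_mem _ hxN u, ?_⟩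
      simp only [u, wd_append, hinv, xElt, Subgroup.subtype_apply, Subgroup.coe_mul, Subgroup.coe_inv]
    · refine ⟨u * (xElt hω)⁻¹ * u⁻¹, Subgroup.normalClosure_normal.conj_mem _ (inv_mem hxN) u, ?_⟩
      simp only [u, wd_append, hinv, hxi, xElt, Subgroup.subtype_apply, Subgroup.coe_mul, Subgroup.coe_inv, mul_assoc]
  have hge : threeJ3 F ω ≤ N.map (threeJ3 F ω).subtype := by
    conv_lhs => rw [threeJ3_eq hω]
    refine (Subgroup.closure_le _).mpr ?_
    rintro _ ⟨k, hk, rfl⟩
    obtain ⟨a, ha, rfl⟩ := List.mem_iff_getElem.mp (show k ∈ gens6 from hk)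
    have hf := List.all_eq_true.mp factors_ok a (List.mem_range.mpr (by simpa [gens6] using ha))
    simp only [Bool.and_eq_true, List.all_eq_true, decide_eq_true_eq] at hf
    simp only [SetLike.mem_coe]
    rw [show at' hω gens6[a] = wd hω [gens6.getD a 0] by simp [wd, List.getD_eq_getElem?_getD, List.getElem?_eq_getElem ha],
      eqw_sound hω hf.2]
    generalize hL : genFactors.getD a [] = L at hf
    have hall := hf.1
    clear hf hL ha hk
    induction L with
    | nil => exact one_mem _
    | cons i L ih =>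
      rw [List.flatMap_cons, wd_append]
      exact mul_mem (hconj i (hall i List.mem_cons_self)) (ih fun j hj => hall j (List.mem_cons_of_mem _ hj))
  rw [eq_top_iff]
  intro g _
  obtain ⟨b, hb, he⟩ := hge g.2
  exact (Subtype.ext he : b = g) ▸ hb

theorem scalar_central {k : ℕ} (hk : k = 21 ∨ k = 22) (g : GL F9 F) : at' hω k * g = g * at' hω k := by
  refine Units.ext ?_
  rcases hk with rfl | rfl <;>
    simp [Units.val_mul, (coe_scalar hω).1, (coe_scalar hω).2, Matrix.smul_mul, Matrix.mul_smul]

include hω in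
theorem center_scalar {g : threeJ3 F ω} (hg : g ∈ Subgroup.center (threeJ3 F ω)) :
    ∃ c : F, c ≠ 0 ∧ ((g : GL F9 F) : Matrix F9 F9 F) = c • 1 := by
  classical
  have hcom : ∀ k < 33, (g : GL F9 F) * at' hω k = at' hω k * g := by
    intro k hk
    have h := Subgroup.mem_center_iff.mp hg ⟨wd hω [k], wd_mem hω (by simp [lettersOK, hk])⟩
    have := congrArg Subtype.val h
    simpa [wd] using this.symm
  set A := ((g : GL F9 F) : Matrix F9 F9 F) with hA
  have hcA : ∀ k < 33, A * (at' hω k : Matrix F9 F9 F) = (at' hω k : Matrix F9 F9 F) * A := fun k hk => by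
    rw [hA, ← Units.val_mul, hcom k hk, Units.val_mul]
  have hdiagA : ∀ Z : F9, ∀ k < 33, (allF9.all fun z => allF9.all fun w =>
      (bitsA Z w z).1 == ((atomCols.getD k []).getD (idx z) 0).testBit (idx w) &&
        (bitsA Z w z).2 == ((atomCols.getD k []).getD (idx z) 0).testBit (9 + idx w)) = true →
      (at' hω k : Matrix F9 F9 F) = Matrix.diagonal fun z => phi ω (bitsA Z z z).1 (bitsA Z z z).2 := by
    intro Z k hk h
    simp only [List.all_eq_true, Bool.and_eq_true, beq_iff_eq] at h
    rw [coe_at hω hk]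
    ext w z
    obtain ⟨h1, h2⟩ := h z (mem_allF9 z) w (mem_allF9 w)
    simp only [toM, Matrix.of_apply, vec, ← h1, ← h2]
    by_cases e : w = z
    · subst e; simp
    · simp [Matrix.diagonal_apply_ne _ e, bitsA, e, phi]
  have hoff : ∀ w z : F9, w ≠ z → A w z = 0 := by
    intro w z hne
    by_contra hA0
    have hstep : ∀ Z : F9, ∀ k < 33, (allF9.all fun z => allF9.all fun w =>
        (bitsA Z w z).1 == ((atomCols.getD k []).getD (idx z) 0).testBit (idx w) &&
          (bitsA Z w z).2 == ((atomCols.getD k []).getD (idx z) 0).testBit (9 + idx w)) = true →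
        bitsA Z w w = bitsA Z z z := by
      intro Z k hk h
      have h' := congrFun (congrFun (hcA k hk) w) z
      rw [hdiagA Z k hk h, Matrix.mul_diagonal, Matrix.diagonal_mul] at h'
      have := phi_inj hω (mul_left_cancel₀ hA0 (h'.trans (mul_comm _ _))).symm
      exact Prod.ext this.1 this.2
    rcases distinct_characters w z hne with h | h
    · exact h (hstep (1, 0) 3 (by norm_num) (by decide +kernel))
    · exact h (hstep (0, 1) 1 (by norm_num) (by decide +kernel))
  have hD : A = Matrix.diagonal fun z => A z z := by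
    ext w z
    by_cases e : w = z
    · subst e; simp
    · simp [Matrix.diagonal_apply_ne _ e, hoff w z e]
  have hshift : ∀ Z : F9, ∀ k < 33, (∀ z : F9,
      ((atomCols.getD k []).getD (idx z) 0).testBit (idx (z + Z)) = true ∨
      ((atomCols.getD k []).getD (idx z) 0).testBit (9 + idx (z + Z)) = true) → ∀ z, A (z + Z) (z + Z) = A z z := by
    intro Z k hk hnz z
    have h' := congrFun (congrFun (hcA k hk) (z + Z)) z
    rw [hD, Matrix.mul_diagonal, Matrix.diagonal_mul, coe_at hω hk] at h'
    have hne : toM ω (atomCols.getD k []) (z + Z) z ≠ 0 := by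
      intro h0
      have := phi_inj hω (a' := false) (b' := false) ((show phi ω _ _ = 0 from h0).trans (by simp [phi]))
      rcases hnz z with h | h
      · rw [this.1] at h; exact Bool.false_ne_true h
      · rw [this.2] at h; exact Bool.false_ne_true h
    have h2 := mul_right_cancel₀ hne (h'.trans (mul_comm _ _))
    rw [hD]; simpa using h2
  have hconst : ∀ z : F9, A z z = A 0 0 := by
    have hx := hshift (1, 0) 26 (by norm_num) (by decide +kernel)
    have hy := hshift (0, 1) 24 (by norm_num) (by decide +kernel)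
    rintro ⟨a, b⟩
    have hb : ∀ b : ZMod 3, A (0, b) (0, b) = A 0 0 := by
      intro b
      have h01 : A (0, 1) (0, 1) = A 0 0 := by simpa using hy 0
      have h02 : A (0, 2) (0, 2) = A (0, 1) (0, 1) := by
        simpa [show ((0, 1) + (0, 1) : F9) = (0, 2) by decide] using hy (0, 1)
      have h3 : b = 0 ∨ b = 1 ∨ b = 2 := by revert b; decide
      rcases h3 with rfl | rfl | rfl
      · rfl
      · exact h01
      · rw [h02, h01]
    have h1 : A (1, b) (1, b) = A (0, b) (0, b) := by
      simpa using hx (0, b)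
    have h2 : A (2, b) (2, b) = A (1, b) (1, b) := by
      simpa [show (1 : ZMod 3) + 1 = 2 from rfl] using hx (1, b)
    have h3 : a = 0 ∨ a = 1 ∨ a = 2 := by revert a; decide
    rcases h3 with rfl | rfl | rfl
    · exact hb b
    · rw [h1, hb]
    · rw [h2, h1, hb]
  have hA' : A = A 0 0 • 1 := by
    rw [hD, Matrix.smul_one_eq_diagonal, Matrix.diagonal_eq_diagonal_iff]
    intro z; simp [hconst z]
  refine ⟨A 0 0, fun h0 => ?_, hA'⟩
  rw [h0, zero_smul] at hA'
  exact (g : GL F9 F).isUnit.ne_zero hA'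

include hω in
theorem card_center (hF : Fintype.card F = 4) : Nat.card (Subgroup.center (threeJ3 F ω)) = 3 := by
  classical
  have h0 := omega_ne_zero hω
  let el : Fin 3 → Subgroup.center (threeJ3 F ω) := fun i =>
    ⟨⟨wd hω (([[], [21], [22]] : List (List ℕ)).getD i []), wd_mem hω (by revert i; decide)⟩, by
      rw [Subgroup.mem_center_iff]
      intro b
      refine Subtype.ext ?_
      fin_cases i
      · simp
      · simpa [wd] using (scalar_central hω (Or.inl rfl) b.1).symm
      · simpa [wd] using (scalar_central hω (Or.inr rfl) b.1).symm⟩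
  refine (Nat.card_eq_of_bijective el ⟨?_, ?_⟩).symm.trans (Nat.card_fin 3)
  · intro i j h
    have hl : ∀ i : Fin 3, lettersOK (([[], [21], [22]] : List (List ℕ)).getD i []) = true := by decide
    have hd : ∀ i j : Fin 3, wcols (([[], [21], [22]] : List (List ℕ)).getD i []) =
        wcols (([[], [21], [22]] : List (List ℕ)).getD j []) → i = j := by decide +kernel
    exact hd i j (wcols_eq_of_wd_eq hω (hl i) (hl j) (congrArg (fun e => e.1.1) h))
  · rintro ⟨g, hg⟩
    obtain ⟨c, hc, hgc⟩ := center_scalar hω hg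
    have h1 : ω ≠ 1 := fun e => by
      have h2 := omega_sq hω
      rw [e, one_mul, CharTwo.add_self_eq_zero] at h2
      exact one_ne_zero h2
    have hu : c ∈ ({0, 1, ω, ω * ω} : Finset F) := by
      have hcard : ({0, 1, ω, ω * ω} : Finset F).card = 4 := by
        have h2 : ω * ω ≠ 1 := fun e => h0 (by rw [omega_sq hω] at e; simpa using e)
        have h3 : ω * ω ≠ ω := fun e => h1 (mul_left_cancel₀ h0 (by rw [e, mul_one]))
        simp [Finset.card_insert_of_notMem, h0, h0.symm, h1, h1.symm, h2, h2.symm, h3, h3.symm]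
      rw [Finset.eq_univ_of_card _ (hcard.trans hF.symm)]
      exact Finset.mem_univ c
    simp only [Finset.mem_insert, Finset.mem_singleton, hc, false_or] at hu
    rcases hu with rfl | rfl | rfl
    · exact ⟨0, Subtype.ext (Subtype.ext (Units.ext (by simp [el, hgc])))⟩
    · exact ⟨1, Subtype.ext (Subtype.ext (Units.ext (by simp [el, hgc, wd, (coe_scalar hω).1])))⟩
    · exact ⟨2, Subtype.ext (Subtype.ext (Units.ext (by simp [el, hgc, wd, (coe_scalar hω).2])))⟩

include hω in
theorem card_J3 (hF : Fintype.card F = 4) : Nat.card (J3 F ω) = 50232960 := by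
  have h := Subgroup.card_eq_card_quotient_mul_card_subgroup (Subgroup.center (threeJ3 F ω))
  rw [(first_orbit_and_order hω hF).1, card_center hω hF] at h
  show Nat.card (threeJ3 F ω ⧸ Subgroup.center (threeJ3 F ω)) = _
  omega

include hω in
theorem isSimpleGroup_J3 (hF : Fintype.card F = 4) : IsSimpleGroup (J3 F ω) := by
  have hcard := card_J3 hω hF
  haveI : Nontrivial (J3 F ω) := Finite.one_lt_card_iff_nontrivial.mp (by rw [hcard]; norm_num)
  refine ⟨fun N hN => ?_⟩
  rcases center_or_top (first_orbit_and_order hω hF).1 (orderOf_xElt hω) (normalClosure_xElt hω)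
    (N.comap (QuotientGroup.mk' _)) with h | h
  · left
    rw [eq_bot_iff]
    intro q hq
    obtain ⟨g, rfl⟩ := QuotientGroup.mk'_surjective _ q
    exact Subgroup.mem_bot.mpr ((QuotientGroup.eq_one_iff g).mpr (h hq))
  · right
    rw [eq_top_iff]
    intro q _
    obtain ⟨g, rfl⟩ := QuotientGroup.mk'_surjective _ q
    exact Subgroup.mem_comap.mp (h ▸ Subgroup.mem_top g)

end

end Cfsg.Lib.Spor.J3
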