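import Cfsg.Agent.Spor.J3.OutJ3

/-!
The field automorphism gives an outer automorphism of the third Janko group.
-/

set_option autoImplicit false
set_option Elab.async false

namespace Cfsg.Lib.Spor.J3

open Cfsg.Spor Matrix

section
variable {F : Type*} [Field F] [Fintype F] [CharP F 2] {ω : F} (hω : ω ^ 2 + ω + 1 = 0)

theorem barIdx_barIdx (z : F9) : barIdx (barIdx z) = z := by simp [barIdx]

/-- The conjugation of indices as a bijection. -/
def barEquiv : F9 ≃ F9 := ⟨barIdx, barIdx, barIdx_barIdx, barIdx_barIdx⟩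

/-- The field automorphism combined with the conjugation of indices, on matrices. -/
def thetaMat (F : Type*) [Field F] [CharP F 2] : Matrix F9 F9 F →* Matrix F9 F9 F where
  toFun M := (M.map fun x => x ^ 2).submatrix barIdx barIdx
  map_one' := by
    ext a b
    simp only [Matrix.submatrix_apply, Matrix.map_apply, Matrix.one_apply]
    rcases eq_or_ne a b with rfl | h
    · simp
    · rw [if_neg h, if_neg fun e : barIdx a = barIdx b => h (barEquiv.injective e), zero_pow two_ne_zero]
  map_mul' M N := by
    ext a b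
    simp only [Matrix.submatrix_apply, Matrix.map_apply, Matrix.mul_apply, CharTwo.sum_sq, mul_pow]
    exact (Fintype.sum_equiv barEquiv _ _ fun z => rfl).symm

/-- The same on invertible matrices. -/
def thetaGL (F : Type*) [Field F] [CharP F 2] : GL F9 F →* GL F9 F := Units.map (thetaMat F)

theorem thetaGL_apply (g : GL F9 F) (a b : F9) :
    (thetaGL F g : Matrix F9 F9 F) a b = ((g : Matrix F9 F9 F) (barIdx a) (barIdx b)) ^ 2 := rfl

theorem thetaGL_injective : Function.Injective (thetaGL F) := by
  intro g h e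
  refine Units.ext (Matrix.ext fun a b => frobenius_inj F 2 ?_)
  have := congrFun (congrFun (congrArg (fun x : GL F9 F => (x : Matrix F9 F9 F)) e) (barIdx a)) (barIdx b)
  simpa [thetaGL_apply, barIdx_barIdx, frobenius_def] using this

include hω in
theorem thetaGL_mem {g : GL F9 F} (hg : g ∈ threeJ3 F ω) : thetaGL F g ∈ threeJ3 F ω := by
  have hle : threeJ3 F ω ≤ (threeJ3 F ω).comap (thetaGL F) := by
    conv_lhs => rw [threeJ3_eq hω]
    refine (Subgroup.closure_le _).mpr ?_
    rintro _ ⟨k, hk, rfl⟩
    obtain ⟨j, hj, rfl⟩ := List.mem_iff_getElem.mp hk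
    have hok := List.all_eq_true.mp theta_ok j (List.mem_range.mpr hj)
    simp only [thetaOK, Bool.and_eq_true, List.all_eq_true, beq_iff_eq] at hok
    obtain ⟨hl, hent⟩ := hok
    have hk33 : gens6[j] < 33 := by
      have : ∀ k ∈ gens6, k < 33 := by decide
      exact this _ (List.getElem_mem hj)
    show thetaGL F (at' hω gens6[j]) ∈ threeJ3 F ω
    rw [show thetaGL F (at' hω gens6[j]) = wd hω (outTheta.getD j []) from Units.ext (Matrix.ext fun y z => ?_)]
    · exact wd_mem_all hω _
    obtain ⟨e1, e2⟩ := hent z (mem_allF9 z) y (mem_allF9 y)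
    rw [List.getD_eq_getElem _ _ hj] at e1 e2
    rw [thetaGL_apply, coe_at hω hk33, coe_wd hω hl]
    simp only [toM, Matrix.of_apply, vec, phi_sq hω, e1, e2]
  exact hle hg

/-- The automorphism of the triple cover. -/
noncomputable def theta3 : MulAut (threeJ3 F ω) :=
  MulEquiv.ofBijective (((thetaGL F).comp (threeJ3 F ω).subtype).codRestrict (threeJ3 F ω) fun g => thetaGL_mem hω g.2)
    (Finite.injective_iff_bijective.mp fun _ _ e => Subtype.ext (thetaGL_injective (congrArg Subtype.val e)))

theorem coe_theta3 (g : threeJ3 F ω) : (theta3 hω g : GL F9 F) = thetaGL F g := rfl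

theorem theta3_center : (Subgroup.center (threeJ3 F ω)).map (theta3 hω).toMonoidHom = Subgroup.center (threeJ3 F ω) := by
  ext x
  constructor
  · rintro ⟨y, hy, rfl⟩
    refine Subgroup.mem_center_iff.mpr fun g => ?_
    obtain ⟨g', rfl⟩ := (theta3 hω).surjective g
    show theta3 hω g' * theta3 hω y = theta3 hω y * theta3 hω g'
    rw [← map_mul, ← map_mul, Subgroup.mem_center_iff.mp hy g']
  · intro hx
    refine ⟨(theta3 hω).symm x, Subgroup.mem_center_iff.mpr fun g => ?_, (theta3 hω).apply_symm_apply x⟩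
    refine (theta3 hω).injective ?_
    rw [map_mul, map_mul, (theta3 hω).apply_symm_apply, Subgroup.mem_center_iff.mp hx]

/-- The automorphism of the simple group. -/
noncomputable def thetaJ : MulAut (Cfsg.Spor.J3 F ω) :=
  QuotientGroup.congr _ _ (theta3 hω) (theta3_center hω)

theorem thetaJ_mk (g : threeJ3 F ω) :
    thetaJ hω (QuotientGroup.mk' (Subgroup.center (threeJ3 F ω)) g) = QuotientGroup.mk' _ (theta3 hω g) := rfl

include hω in
/-- The field automorphism is not inner. -/
theorem thetaJ_not_inn (hF : Fintype.card F = 4) : thetaJ hω ∉ Cfsg.Inn (Cfsg.Spor.J3 F ω) := by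
  rintro ⟨u₀, hu⟩
  obtain ⟨u, rfl⟩ := QuotientGroup.mk'_surjective _ u₀
  have hz : ∀ g, theta3 hω g * (u * g * u⁻¹)⁻¹ ∈ Subgroup.center (threeJ3 F ω) := by
    intro g
    rw [← QuotientGroup.eq_one_iff]
    show QuotientGroup.mk' (Subgroup.center (threeJ3 F ω)) (theta3 hω g * (u * g * u⁻¹)⁻¹) = 1
    rw [map_mul, map_inv, mul_inv_eq_one, ← thetaJ_mk, ← hu, map_mul, map_mul, map_inv]
    rfl
  let h : threeJ3 F ω →* Subgroup.center (threeJ3 F ω) :=
    { toFun := fun g => ⟨_, hz g⟩
      map_one' := Subtype.ext (by simp)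
      map_mul' := fun a b => Subtype.ext (by
        show theta3 hω (a * b) * (u * (a * b) * u⁻¹)⁻¹ =
          theta3 hω a * (u * a * u⁻¹)⁻¹ * (theta3 hω b * (u * b * u⁻¹)⁻¹)
        have hb := Subgroup.mem_center_iff.mp (hz b) ((u * a * u⁻¹)⁻¹)
        rw [mul_assoc (theta3 hω a), hb, map_mul]
        group) }
  have hcard := (first_orbit_and_order hω hF).1
  have hker : h.ker = ⊤ := by
    rcases center_or_top hcard (orderOf_xElt hω) (normalClosure_xElt hω) h.ker with hk | hk
    · exfalso
      have h1 := h.ker.card_mul_index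
      rw [hcard, Subgroup.index_ker] at h1
      have h2 : Nat.card h.ker ≤ 3 := (Subgroup.card_le_of_le hk).trans (card_center hω hF).le
      have h3 : Nat.card h.range ≤ 3 := (Subgroup.card_le_card_group h.range).trans (card_center hω hF).le
      have := Nat.mul_le_mul h2 h3
      omega
    · exact hk
  have hs : theta3 hω (gel hω [21]) * (u * gel hω [21] * u⁻¹)⁻¹ = 1 :=
    congrArg (fun z : Subgroup.center (threeJ3 F ω) => (z : threeJ3 F ω))
      (show h (gel hω [21]) = 1 from MonoidHom.mem_ker.mp (by rw [hker]; exact Subgroup.mem_top _))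
  suffices hcen : gel hω [21] ∈ Subgroup.center (threeJ3 F ω) by
    rw [Subgroup.mem_center_iff.mp hcen u, mul_inv_cancel_right, mul_inv_eq_one] at hs
    have h2 := congrArg (fun x : threeJ3 F ω => ((x : GL F9 F) : Matrix F9 F9 F) (0, 0) (0, 0)) hs
    have hat : (at' hω 21 : Matrix F9 F9 F) (0, 0) (0, 0) = ω := by
      rw [coe_at hω (by norm_num)]
      have e : (atomCols.getD 21 []).getD (idx ((0, 0) : F9)) 0 = 512 := by decide
      simp only [toM, Matrix.of_apply, e, vec]
      simp [phi, idx, Nat.testBit]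
    simp only [coe_theta3, thetaGL_apply, barIdx, neg_zero] at h2
    rw [show ((gel hω [21] : threeJ3 F ω) : GL F9 F) = at' hω 21 from List.prod_singleton, hat] at h2
    have h4 := omega_sq hω
    exact one_ne_zero (α := F) (by linear_combination h2 - h4)
  refine Subgroup.mem_center_iff.mpr fun b => Subtype.ext (Units.ext ?_)
  have hsc : ((at' hω 21 : GL F9 F) : Matrix F9 F9 F) = ω • 1 := by
    rw [coe_at hω (by norm_num)]
    ext w z
    have e : ∀ w z : F9, (((atomCols.getD 21 []).getD (idx z) 0).testBit (idx w)) = false ∧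
        (((atomCols.getD 21 []).getD (idx z) 0).testBit (9 + idx w)) = decide (w = z) := by decide +kernel
    simp only [toM, Matrix.of_apply, vec, phi, (e w z).1, (e w z).2, Matrix.smul_apply, Matrix.one_apply]
    by_cases he : w = z <;> simp [he]
  show (b : GL F9 F).1 * (wd hω [21]).1 = (wd hω [21]).1 * (b : GL F9 F).1
  rw [show wd hω [21] = at' hω 21 from List.prod_singleton, hsc, Matrix.mul_smul, mul_one, Matrix.smul_mul, one_mul]

include hω in
/-- The outer automorphism group has order two. -/
theorem card_out (hF : Fintype.card F = 4) : Nat.card (Cfsg.Out (Cfsg.Spor.J3 F ω)) = 2 := by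
  rw [← Subgroup.index_eq_card, Subgroup.index_eq_two_iff']
  refine ⟨thetaJ hω, fun b => ?_⟩
  by_cases hb : b ∈ Cfsg.Inn (Cfsg.Spor.J3 F ω)
  · refine Or.inr ⟨hb, fun h => thetaJ_not_inn hω hF ?_⟩
    simpa using mul_mem h (inv_mem hb)
  · refine Or.inl ⟨?_, hb⟩
    have h := aut_pair hω hF (a := b) (b := (thetaJ hω)⁻¹) hb
      fun h => thetaJ_not_inn hω hF (by simpa using inv_mem h)
    rw [inv_inv] at h
    exact h

end

end Cfsg.Lib.Spor.J3
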