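import Cfsg.Agent.Spor.J3.PermSub
import Cfsg.Prelude.Def_Sporadic

/-!
The permutation representation of degree 6156.
-/

set_option autoImplicit false
set_option Elab.async false

namespace Cfsg.Lib.Spor.J3

open Cfsg Cfsg.Spor

/-- A primitive style lemma: the coset action of a finite group on numbers with the subgroup at zero. -/
theorem exists_coset_perm {G : Type*} [Group G] [Finite G] (L : Subgroup G) {n : ℕ} [NeZero n] (hn : L.index = n)
    (Z : Subgroup G) (hZL : Z ≤ L) (hZc : Z ≤ Subgroup.center G) [Z.Normal]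
    (hmax : ∀ N : Subgroup G, N.Normal → N ≤ Z ∨ N = ⊤) (hL : L ≠ ⊤) :
    ∃ H : Subgroup (Equiv.Perm (Fin n)), Nonempty ((G ⧸ Z) ≃* H) ∧ MulAction.IsPretransitive H (Fin n) := by
  classical
  obtain ⟨e0⟩ : Nonempty (G ⧸ L ≃ Fin n) := by
    rw [Subgroup.index] at hn
    exact ⟨(Finite.equivFin _).trans (finCongr hn)⟩
  let φ : G →* Equiv.Perm (Fin n) := (Equiv.permCongrHom e0).toMonoidHom.comp (MulAction.toPermHom G (G ⧸ L))
  have hker : φ.ker = Z := by
    have h1 : φ.ker = (MulAction.toPermHom G (G ⧸ L)).ker := by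
      ext g
      simp [φ, MonoidHom.mem_ker]
    have h2 : φ.ker = L.normalCore := by rw [h1, Subgroup.normalCore_eq_ker]
    refine le_antisymm ?_ ?_
    · rcases hmax φ.ker inferInstance with h | h
      · exact h
      · exact absurd (eq_top_iff.mpr (h ▸ h2 ▸ L.normalCore_le)) hL
    · rw [h2]
      exact Subgroup.normal_le_normalCore.mpr hZL
  refine ⟨φ.range, ⟨(QuotientGroup.quotientMulEquivOfEq hker.symm).trans (QuotientGroup.quotientKerEquivRange φ)⟩,
    ⟨fun a b => ?_⟩⟩
  obtain ⟨g, hg⟩ := MulAction.exists_smul_eq G (e0.symm a) (e0.symm b)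
  refine ⟨⟨φ g, g, rfl⟩, ?_⟩
  show e0 (g • e0.symm a) = b
  rw [hg, Equiv.apply_symm_apply]

section
variable {F : Type*} [Field F] [Fintype F] [CharP F 2] {ω : F} (hω : ω ^ 2 + ω + 1 = 0)

include hω in
theorem exists_perm_6156 (hF : Fintype.card F = 4) :
    ∃ H : Subgroup (Equiv.Perm (Fin 6156)), Cfsg.IsJ3 H ∧ MulAction.IsPretransitive H (Fin 6156) ∧
      Nat.card (MulAction.stabilizer H (0 : Fin 6156)) = 8160 := by
  classical
  set L := (subL hω).subgroupOf (threeJ3 F ω)
  have hcL : Nat.card L = 24480 := by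
    rw [Nat.card_congr (Subgroup.subgroupOfEquivOfLe (subL_le hω)).toEquiv, card_subL hω]
  have hcG := (first_orbit_and_order hω hF).1
  have hidx : L.index = 6156 := by
    have h := L.card_mul_index
    rw [hcL, hcG] at h
    omega
  have hL : L ≠ ⊤ := fun e => by rw [e, Subgroup.index_top] at hidx; omega
  have h21 : wd hω [21] ∈ subL hω := wd_mem_genBy hω gens_sub.2.2.2.2.1
  have hZL : Subgroup.center (threeJ3 F ω) ≤ L := by
    intro g hg
    obtain ⟨c, hc, hgc⟩ := center_scalar hω hg
    have h0 := omega_ne_zero hω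
    have hu : c = 1 ∨ c = ω ∨ c = ω * ω := by
      have hx : LineRel (c • vec ω 1) (vec ω 1) := ⟨c, hc, rfl⟩
      have hmem : ((g : GL F9 F) : GL F9 F) ∈ lineStab (vec ω 1) := by
        show LineRel _ _
        rw [hgc, Matrix.smul_mulVec, Matrix.one_mulVec]
        exact hx
      have h3 : c ^ 3 = 1 := by simpa [hF] using FiniteField.pow_card_sub_one_eq_one c hc
      have h4 : (c - 1) * ((c - ω) * (c - ω * ω)) = 0 := by
        have hw3 : ω * (ω * ω) = 1 := by linear_combination (ω - 1) * hω
        linear_combination h3 - hw3 + (-c ^ 2 + c * ω) * hω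
      rcases mul_eq_zero.mp h4 with h | h
      · exact Or.inl (sub_eq_zero.mp h)
      rcases mul_eq_zero.mp h with h | h
      · exact Or.inr (Or.inl (sub_eq_zero.mp h))
      · exact Or.inr (Or.inr (sub_eq_zero.mp h))
    show (g : GL F9 F) ∈ subL hω
    rcases hu with rfl | rfl | rfl
    · have : (g : GL F9 F) = 1 := Units.ext (by rw [hgc, one_smul, Units.val_one])
      rw [this]; exact one_mem _
    · have : (g : GL F9 F) = wd hω [21] := Units.ext (by rw [hgc]; simp [wd, (coe_scalar hω).1])
      rw [this]; exact h21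
    · have : (g : GL F9 F) = wd hω [21] * wd hω [21] := Units.ext (by
        rw [hgc]; simp [wd, (coe_scalar hω).1, smul_smul])
      rw [this]; exact mul_mem h21 h21
  obtain ⟨H, ⟨e⟩, htr⟩ := exists_coset_perm L hidx (Subgroup.center _) hZL le_rfl
    (fun N hN => center_or_top hcG (orderOf_xElt hω) (normalClosure_xElt hω) N) hL
  have hcard : Nat.card H = 50232960 := (Nat.card_congr e.toEquiv).symm.trans (card_J3 hω hF)
  refine ⟨H, ⟨?_, hcard⟩, htr, ?_⟩
  · haveI := isSimpleGroup_J3 hω hF
    exact e.symm.isSimpleGroup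
  · have h := (MulAction.stabilizer H (0 : Fin 6156)).card_mul_index
    haveI := htr
    rw [MulAction.index_stabilizer_of_transitive, Nat.card_fin, hcard] at h
    omega

end

end Cfsg.Lib.Spor.J3
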