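import Cfsg.Agent.Spor.J3.Simple
import Cfsg.Prelude.Def_Classical

/-!
The triple cover inside the special unitary group of dimension nine.
-/

set_option autoImplicit false
set_option Elab.async false

namespace Cfsg.Lib.Spor.J3

open Cfsg Cfsg.Spor Matrix

/-- The index set as nine numbers. -/
def nineEquiv : F9 ≃ Fin 9 := finProdFinEquiv

/-- A field with four elements and a primitive cube root of unity. -/
theorem exists_field_four : ∃ (F : Type) (_ : Field F) (_ : Fintype F) (ω : F),
    Fintype.card F = 4 ∧ ω ^ 2 + ω + 1 = 0 := by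
  classical
  haveI : Fact (Nat.Prime 2) := ⟨by norm_num⟩
  letI : Fintype (GaloisField 2 2) := Fintype.ofFinite _
  have hF : Fintype.card (GaloisField 2 2) = 4 := by
    rw [← Nat.card_eq_fintype_card, GaloisField.card 2 2 (by norm_num)]; norm_num
  obtain ⟨w, -, hw⟩ := Finset.exists_mem_notMem_of_card_lt_card
    (s := ({0, 1} : Finset (GaloisField 2 2))) (t := Finset.univ)
    (by rw [Finset.card_univ, hF, Finset.card_insert_of_notMem (by simp)]; simp)
  simp only [Finset.mem_insert, Finset.mem_singleton, not_or] at hw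
  refine ⟨GaloisField 2 2, inferInstance, inferInstance, w, hF, ?_⟩
  have h3 : w ^ 3 = 1 := by simpa [hF] using FiniteField.pow_card_sub_one_eq_one w hw.1
  have : (w - 1) * (w ^ 2 + w + 1) = 0 := by linear_combination h3
  exact (mul_eq_zero.mp this).resolve_left (sub_ne_zero.mpr hw.2)

section
variable {F : Type*} [Field F] [Fintype F] [CharP F 2] {ω : F} (hω : ω ^ 2 + ω + 1 = 0)

include hω in
theorem det_eq_one (hF : Fintype.card F = 4) (g : threeJ3 F ω) : ((g : GL F9 F) : Matrix F9 F9 F).det = 1 := by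
  classical
  let d : threeJ3 F ω →* Fˣ := Matrix.GeneralLinearGroup.det.comp (threeJ3 F ω).subtype
  have hx : xElt hω ∈ d.ker := by
    have h19 : d (xElt hω) ^ 19 = 1 := by
      have := congrArg d (pow_orderOf_eq_one (xElt hω))
      rwa [orderOf_xElt hω, map_pow, map_one] at this
    have h3 : d (xElt hω) ^ 3 = 1 := by
      have := pow_card_eq_one (x := d (xElt hω))
      rwa [Fintype.card_units, hF] at this
    have h1 : d (xElt hω) ^ 19 = (d (xElt hω) ^ 3) ^ 6 * d (xElt hω) := by
      rw [← pow_mul, ← pow_succ]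
    rw [h19, h3, one_pow, one_mul] at h1
    exact MonoidHom.mem_ker.mpr h1.symm
  have hg : g ∈ d.ker := by
    have : Subgroup.normalClosure ({xElt hω} : Set (threeJ3 F ω)) ≤ d.ker :=
      Subgroup.normalClosure_le_normal (by simpa using hx)
    exact this ((normalClosure_xElt hω).symm ▸ Subgroup.mem_top g)
  have h1 : d g = 1 := MonoidHom.mem_ker.mp hg
  have h2 : ((Matrix.GeneralLinearGroup.det (g : GL F9 F) : Fˣ) : F) = 1 := by
    rw [show Matrix.GeneralLinearGroup.det (g : GL F9 F) = 1 from h1, Units.val_one]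
  rwa [Matrix.GeneralLinearGroup.val_det_apply] at h2

/-- The embedding in the special linear group. -/
def toSL (hω : ω ^ 2 + ω + 1 = 0) (hF : Fintype.card F = 4) : threeJ3 F ω →* Matrix.SpecialLinearGroup (Fin 9) F where
  toFun g := ⟨Matrix.reindex nineEquiv nineEquiv ((g : GL F9 F) : Matrix F9 F9 F), by
    rw [Matrix.det_reindex_self, det_eq_one hω hF g]⟩
  map_one' := Subtype.ext (by
    show Matrix.reindex nineEquiv nineEquiv ((1 : GL F9 F) : Matrix F9 F9 F) = 1
    rw [Units.val_one, Matrix.reindex_apply, Matrix.submatrix_one_equiv])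
  map_mul' g h := Subtype.ext (by
    show Matrix.reindex nineEquiv nineEquiv (((g : GL F9 F) : Matrix F9 F9 F) * ((h : GL F9 F) : Matrix F9 F9 F)) =
      Matrix.reindex nineEquiv nineEquiv ((g : GL F9 F) : Matrix F9 F9 F) *
        Matrix.reindex nineEquiv nineEquiv ((h : GL F9 F) : Matrix F9 F9 F)
    rw [Matrix.reindex_apply, Matrix.reindex_apply, Matrix.reindex_apply, Matrix.submatrix_mul_equiv])

theorem toSL_injective (hF : Fintype.card F = 4) : Function.Injective (toSL (ω := ω) hω hF) := by
  intro g h e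
  exact Subtype.ext (Units.ext ((Matrix.reindex nineEquiv nineEquiv).injective (congrArg Subtype.val e)))

theorem toSL_mulVec (hF : Fintype.card F = 4) (g : threeJ3 F ω) (u : Fin 9 → F) :
    ((toSL hω hF g : Matrix.SpecialLinearGroup (Fin 9) F) : Matrix (Fin 9) (Fin 9) F) *ᵥ u =
      (((g : GL F9 F) : Matrix F9 F9 F) *ᵥ (u ∘ nineEquiv)) ∘ nineEquiv.symm := by
  show (Matrix.reindex nineEquiv nineEquiv _) *ᵥ u = _
  rw [Matrix.reindex_apply, Matrix.submatrix_mulVec_equiv]
  simp

theorem hermForm_toSL (hF : Fintype.card F = 4) (g : threeJ3 F ω) (u v : Fin 9 → F) :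
    hermForm 9 F 2 (((toSL hω hF g : Matrix.SpecialLinearGroup (Fin 9) F) : Matrix (Fin 9) (Fin 9) F) *ᵥ u)
      (((toSL hω hF g : Matrix.SpecialLinearGroup (Fin 9) F) : Matrix (Fin 9) (Fin 9) F) *ᵥ v) =
      hermForm 9 F 2 u v := by
  have hh : ∀ a b : F9 → F, hermForm 9 F 2 (a ∘ nineEquiv.symm) (b ∘ nineEquiv.symm) = hermF9 a b := fun a b => by
    simp only [hermForm, hermF9, Function.comp_apply]
    exact Equiv.sum_comp nineEquiv.symm (fun z => a z * b z ^ 2)
  rw [toSL_mulVec, toSL_mulVec, hh, threeJ3_preserves hω g.2, ← hh]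
  simp [Function.comp_assoc]

end

end Cfsg.Lib.Spor.J3
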