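import Cfsg.Agent.Spor.J3.Isotropic

/-!
The triple cover preserves the standard Hermitian form.
-/

set_option autoImplicit false
set_option Elab.async false

namespace Cfsg.Lib.Spor.J3

open Cfsg.Spor Matrix

/-- The inverse of an atom is its conjugate transpose. -/
def adjOK (k : ℕ) : Bool :=
  allF9.all fun i => allF9.all fun w =>
    let v := (atomCols.getD k []).getD (idx i) 0
    let u := (atomInvCols.getD k []).getD (idx w) 0
    (u.testBit (idx i) == (v.testBit (idx w) ^^ v.testBit (9 + idx w))) &&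
      (u.testBit (9 + idx i) == v.testBit (9 + idx w))

theorem gens_adjoint : gens6.all adjOK = true := by decide +kernel

section
variable {F : Type*} [Field F] [Fintype F] [CharP F 2] {ω : F} (hω : ω ^ 2 + ω + 1 = 0)

/-- The standard Hermitian form. -/
def hermF9 (x y : F9 → F) : F := ∑ z, x z * (y z) ^ 2

include hω in
omit [Fintype F] in
theorem phi_sq (a b : Bool) : (phi ω a b) ^ 2 = phi ω (a ^^ b) b := by
  have h := omega_sq hω
  rw [phi, phi, sq, CharTwo.add_mul_self]
  cases a <;> cases b <;> simp [h, ← add_assoc, CharTwo.add_self_eq_zero]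

theorem gen_preserves {k : ℕ} (hk : k ∈ gens6) (x y : F9 → F) :
    hermF9 ((at' hω k : Matrix F9 F9 F) *ᵥ x) ((at' hω k : Matrix F9 F9 F) *ᵥ y) = hermF9 x y := by
  classical
  have hlt : k < 33 := by
    simp only [gens6, List.mem_cons, List.not_mem_nil, or_false] at hk
    omega
  set A : Matrix F9 F9 F := ((at' hω k : GL F9 F) : Matrix F9 F9 F) with hA
  have hadj : ∀ i w, ((at' hω k)⁻¹ : GL F9 F).1 i w = (A w i) ^ 2 := by
    intro i w
    have h := List.all_eq_true.mp gens_adjoint k hk
    simp only [adjOK, List.all_eq_true, Bool.and_eq_true, beq_iff_eq] at h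
    obtain ⟨h1, h2⟩ := h i (mem_allF9 i) w (mem_allF9 w)
    simp only [hA, at', hlt, dif_pos]
    show toM ω (atomInvCols.getD k []) i w = _ ^ 2
    simp only [atomGL, toM, Matrix.of_apply, vec, phi_sq hω, h1, h2]
  have horth : ∀ i j, ∑ w, A w i * (A w j) ^ 2 = if i = j then 1 else 0 := by
    intro i j
    have h := congrFun (congrFun (congrArg (fun g : GL F9 F => (g : Matrix F9 F9 F)) (inv_mul_cancel (at' hω k))) j) i
    simp only [Units.val_mul, Units.val_one, Matrix.mul_apply, hadj, Matrix.one_apply] at h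
    simpa [mul_comm, eq_comm] using h
  simp only [hermF9, Matrix.mulVec, dotProduct, CharTwo.sum_sq, mul_pow, Finset.sum_mul, Finset.mul_sum]
  calc ∑ w, ∑ j, ∑ i, A w i * x i * (A w j ^ 2 * y j ^ 2)
      = ∑ j, ∑ i, (∑ w, A w i * A w j ^ 2) * (x i * y j ^ 2) := by
        rw [Finset.sum_comm]
        refine Finset.sum_congr rfl fun i _ => ?_
        rw [Finset.sum_comm]
        refine Finset.sum_congr rfl fun j _ => ?_
        rw [Finset.sum_mul]
        exact Finset.sum_congr rfl fun w _ => by ring
    _ = ∑ i, x i * y i ^ 2 := by simp [horth]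

include hω in
theorem threeJ3_preserves {g : GL F9 F} (hg : g ∈ threeJ3 F ω) (x y : F9 → F) :
    hermF9 ((g : Matrix F9 F9 F) *ᵥ x) ((g : Matrix F9 F9 F) *ᵥ y) = hermF9 x y := by
  rw [threeJ3_eq hω, ← Subgroup.mem_toSubmonoid, Subgroup.closure_toSubmonoid_of_finite] at hg
  induction hg using Submonoid.closure_induction_left generalizing x y with
  | one => simp
  | mul_left a ha b hb ih =>
    obtain ⟨k, hk, rfl⟩ := ha
    rw [Units.val_mul, ← Matrix.mulVec_mulVec, ← Matrix.mulVec_mulVec, gen_preserves hω hk, ih]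

include hω in
theorem isIso_image (hF : Fintype.card F = 4) {g : GL F9 F} (hg : g ∈ threeJ3 F ω) {v : F9 → F} (hv : IsIso v)
    {c : F} (hc : c ≠ 0) : IsIso (c • ((g : Matrix F9 F9 F) *ᵥ v)) := by
  have hrel : ∀ u : F9 → F, ∑ z, u z ^ 3 = hermF9 u u := fun u => by
    simp only [hermF9]; exact Finset.sum_congr rfl fun z _ => by ring
  have hinj := Matrix.mulVec_injective_iff_isUnit.mpr (Units.isUnit g)
  refine ⟨fun h0 => hv.1 (hinj (((smul_eq_zero.mp h0).resolve_left hc).trans (Matrix.mulVec_zero _).symm)), ?_⟩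
  have h3 : c ^ 3 = 1 := by simpa [hF] using FiniteField.pow_card_sub_one_eq_one c hc
  simp only [Pi.smul_apply, smul_eq_mul, mul_pow, h3, one_mul]
  rw [hrel, threeJ3_preserves hω hg, ← hrel]
  exact hv.2

include hω in
/-- The orbit of the base isotropic vector consists of all isotropic vectors. -/
theorem isoOrbit_eq (hF : Fintype.card F = 4) : isoOrbitVecs (ω := ω) = {u : F9 → F | IsIso u} := by
  refine Set.eq_of_subset_of_ncard_le ?_ ((card_isotropic_le hω hF).trans (isoOrbit_lower hω hF)) (Set.toFinite _)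
  rintro v ⟨g, hg, c, hc, rfl⟩
  exact isIso_image hω hF hg (base_is_isotropic hω hF) hc

end

end Cfsg.Lib.Spor.J3
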