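import Cfsg.Agent.Spor.J3.CentFinal
import Cfsg.Agent.Fusion.OneInvolutionClass

/-!
The 2-fusion system of the third Janko group is simple.
-/

set_option autoImplicit false
set_option Elab.async false

namespace Cfsg.Lib.Spor.J3

open Cfsg.Spor Equiv

theorem alt_two_invol : ∀ π : Perm (Fin 5), Perm.sign π = 1 →
    ∃ ρ : Perm (Fin 5), Perm.sign ρ = 1 ∧ ρ * ρ = 1 ∧ ρ * π * (ρ * π) = 1 := by decide +kernel

section
variable {F : Type*} [Field F] [Fintype F] [CharP F 2] {ω : F} (hω : ω ^ 2 + ω + 1 = 0)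

include hω in
theorem SJ_centre (hF : Fintype.card F = 4) {x : Cfsg.Spor.J3 F ω} (hx : x ∈ SJ hω)
    (h : ∀ q ∈ QJ hω, Commute x q) : x = 1 ∨ x = tJ hω := by
  classical
  haveI := alternatingGroup.isSimpleGroup_five
  set Q := QJ hω
  set D := Subgroup.centralizer (Q : Set (Cfsg.Spor.J3 F ω))
  have hDn : ∀ a ∈ Subgroup.normalizer (Q : Set (Cfsg.Spor.J3 F ω)), ∀ d ∈ D, a * d * a⁻¹ ∈ D := by
    intro a ha d hd
    refine Subgroup.mem_centralizer_iff.mpr fun q hq => ?_
    have h1 := Subgroup.mem_centralizer_iff.mp hd _ ((Subgroup.mem_normalizer_iff''.mp ha q).mp hq)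
    calc q * (a * d * a⁻¹) = a * ((a⁻¹ * q * a) * d) * a⁻¹ := by group
      _ = a * (d * (a⁻¹ * q * a)) * a⁻¹ := by rw [h1]
      _ = _ := by group
  let V : Subgroup (alternatingGroup (Fin 5)) := (D ⊔ Q).comap (altHom hω)
  haveI hVn : V.Normal := ⟨fun a ha b => by
    rw [Subgroup.mem_comap] at ha ⊢
    rw [map_mul, map_mul, map_inv]
    set g := altHom hω b
    have hle : (D ⊔ Q).map (MulAut.conj g).toMonoidHom ≤ D ⊔ Q := by
      rw [Subgroup.map_sup]
      refine sup_le_sup ?_ ?_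
      · rintro _ ⟨d, hd, rfl⟩; exact hDn g (altHom_normalises hω b) d hd
      · rintro _ ⟨q, hq, rfl⟩; exact (Subgroup.mem_normalizer_iff.mp (altHom_normalises hω b) q).mp hq
    exact hle ⟨_, ha, rfl⟩⟩
  rcases Subgroup.Normal.eq_bot_or_eq_top hVn with e | e
  · obtain ⟨π, -, q, hq, rfl⟩ := hx
    have hxD : altHom hω π * q ∈ D := Subgroup.mem_centralizer_iff.mpr fun r hr => (h r hr).eq.symm
    have hπ : π ∈ V := by
      show altHom hω π ∈ D ⊔ Q
      rw [show altHom hω π = altHom hω π * q * q⁻¹ by group]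
      exact mul_mem (Subgroup.mem_sup_left hxD) (Subgroup.mem_sup_right (inv_mem hq))
    rw [e, Subgroup.mem_bot] at hπ
    subst hπ
    rw [map_one, one_mul] at h ⊢
    exact QJ_center hω hF hq fun a ha => (h a ha).symm
  · exfalso
    obtain ⟨k, hk, hne⟩ := List.any_eq_true.mp q_outer
    simp only [Bool.and_eq_true, Bool.not_eq_true'] at hne
    have hk' := List.mem_range.mp hk
    let Y : Subgroup (Cfsg.Spor.J3 F ω) :=
      { carrier := {y | Commute y (tJ hω) ∧ ∀ q ∈ Q, y * q * y⁻¹ = q ∨ y * q * y⁻¹ = tJ hω * q}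
        one_mem' := ⟨Commute.one_left _, fun q _ => Or.inl (by group)⟩
        mul_mem' := by
          rintro a b ⟨hat, ha⟩ ⟨hbt, hb⟩
          refine ⟨hat.mul_left hbt, fun q hq => ?_⟩
          have e1 : a * b * q * (a * b)⁻¹ = a * (b * q * b⁻¹) * a⁻¹ := by group
          rw [e1]
          rcases hb q hq with r | r
          · rw [r]; exact ha q hq
          · rw [r, show a * (tJ hω * q) * a⁻¹ = (a * tJ hω) * q * a⁻¹ by group, hat.eq,
              show tJ hω * a * q * a⁻¹ = tJ hω * (a * q * a⁻¹) by group]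
            rcases ha q hq with r' | r'
            · right; rw [r']
            · left; rw [r', ← mul_assoc, tJ_sq, one_mul]
        inv_mem' := by
          rintro a ⟨hat, ha⟩
          refine ⟨hat.inv_left, fun q hq => ?_⟩
          rcases ha q hq with r | r
          · left
            conv_lhs => rw [← r]
            group
          · right
            conv_rhs => rw [show q = a⁻¹ * (a * q * a⁻¹) * a by group, r]
            rw [show a⁻¹ * (tJ hω * q) * a = (a⁻¹ * tJ hω) * q * a by group, hat.inv_left.eq,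
              show tJ hω * (tJ hω * a⁻¹ * q * a) = (tJ hω * tJ hω) * (a⁻¹ * q * a) by group, tJ_sq]
            group }
    have hY : D ⊔ Q ≤ Y := by
      refine sup_le (fun d hd => ⟨(Subgroup.mem_centralizer_iff.mp hd _ (tJ_mem_QJ hω)).symm, fun q hq => Or.inl ?_⟩)
        (fun a ha => ⟨qe_comm_tJ hω ha, fun q hq => ?_⟩)
      · rw [← Subgroup.mem_centralizer_iff.mp hd q hq]; group
      · rcases QJ_comm hω ha hq with r | r
        · left; rw [r]; group
        · right; rw [r]; group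
    have h0 : altHom hω (altEl 0 (by norm_num)) ∈ Y :=
      hY (show altEl 0 (by norm_num) ∈ V from e ▸ Subgroup.mem_top _)
    obtain ⟨he, hlt⟩ := gen_normalises hω (show 0 < 2 by norm_num) hk'
    have hkl : lettersOK (qGens.getD k []) = true := by
      have hlen : k < qGens.length := by rw [q_basic.2.2.1]; exact hk'
      rw [List.getD_eq_getElem _ _ hlen]
      exact List.all_eq_true.mp q_basic.2.2.2.2.2.2.2.1 _ (List.getElem_mem hlen)
    rcases h0.2 _ (qg_mem hω hk') with r | r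
    · exact ne_of_same3_false hω hF (qList_letters hlt) hkl hne.1 (he.symm.trans r)
    · refine ne_of_same3_false hω hF (qList_letters hlt) ?_ hne.2 ((he.symm.trans r).trans (eJ_cons hω _ _).symm)
      simp only [lettersOK, List.all_cons, Bool.and_eq_true, decide_eq_true_eq] at hkl ⊢
      exact ⟨by norm_num, hkl⟩

include hω in
/-- The fusion system is simple, for any isomorphic group. -/
theorem fusion_simple (hF : Fintype.card F = 4) {L : Type*} [Group L] [Finite L]
    (e : Cfsg.Spor.J3 F ω ≃* L) (S : Sylow 2 L) : (Cfsg.groupFusionSystem (S : Subgroup L)).IsSimple 2 := by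
  haveI : Fact (Nat.Prime 2) := ⟨Nat.prime_two⟩
  have hfac : Nat.card (SJ hω) = 2 ^ (Nat.card (Cfsg.Spor.J3 F ω)).factorization 2 := by
    rw [card_SJ hω hF, card_J3 hω hF,
      show (50232960 : ℕ) = 2 ^ 7 * 392445 by norm_num,
      Nat.factorization_mul (by norm_num) (by norm_num), Finsupp.add_apply,
      Nat.Prime.factorization_pow Nat.prime_two, Finsupp.single_eq_same,
      Nat.factorization_eq_zero_of_not_dvd (by norm_num : ¬ 2 ∣ 392445)]
    norm_num
  let S₀ : Sylow 2 L := (Sylow.ofCard (SJ hω) hfac).mapSurjective (f := e.toMonoidHom) e.surjective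
  have hS₀ : (S₀ : Subgroup L) = (SJ hω).map e.toMonoidHom := by
    show (Sylow.ofCard (SJ hω) hfac : Subgroup (Cfsg.Spor.J3 F ω)).map _ = _
    rw [Sylow.coe_ofCard]
  have hcomm : ∀ {c : Cfsg.Spor.J3 F ω}, Commute (e c) (e (tJ hω)) → Commute c (tJ hω) := fun {c} hc =>
    e.injective (by rw [map_mul, map_mul]; exact hc.eq)
  refine Cfsg.Lib.Fusion.isSimple_of_one_class (t := e (tJ hω)) ((QJ hω).map e.toMonoidHom) S₀ S ?_ ?_ ?_ ?_ ?_ ?_
    ?_ ?_ ?_
  · intro h
    exact tJ_ne hω hF (e.injective (h.trans (map_one e).symm))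
  · rw [hS₀]; exact Subgroup.map_mono (QJ_le_SJ hω)
  · exact ⟨_, tJ_mem_QJ hω, rfl⟩
  · rw [hS₀]
    rintro _ ⟨x, hx, rfl⟩
    exact ((mem_CJ hω).mp (SJ_le_CJ hω hx)).map e
  · rw [hS₀]
    rintro _ ⟨x, hx, rfl⟩ h
    rcases SJ_centre hω hF hx fun q hq => e.injective (by
      rw [map_mul, map_mul]; exact (h (e q) ⟨q, hq, rfl⟩).eq) with r | r
    · left; rw [r]; exact map_one e
    · right; rw [r]; rfl
  · intro c hc
    obtain ⟨c, rfl⟩ := e.surjective c
    exact Subgroup.le_normalizer_map e.toMonoidHom ⟨c, CJ_normalises hω hF ((mem_CJ hω).mpr (hcomm hc)), rfl⟩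
  · intro x hxx hx1
    obtain ⟨x, rfl⟩ := e.surjective x
    have h2 : orderOf x = 2 := orderOf_eq_prime
      (e.injective (by rw [pow_two, map_mul, map_one]; exact hxx)) (fun h => hx1 (by rw [h, map_one]))
    obtain ⟨g, hg⟩ := invol_conj hω hF h2
    refine ⟨(e g)⁻¹, ?_⟩
    rw [← hg, map_mul, map_mul, map_inv]
    group
  · rw [hS₀]
    rintro _ ⟨x, hx, rfl⟩
    obtain ⟨π, hπ, q, hq, rfl⟩ := hx
    rw [map_mul]
    refine mul_mem (Subgroup.subset_closure ⟨⟨altHom hω π, ⟨π, hπ, 1, one_mem _, (mul_one _).symm⟩, rfl⟩, ?_⟩) ?_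
    · have h2 : π * π = 1 := by
        simp only [inFour, Bool.and_eq_true, decide_eq_true_eq] at hπ
        exact Subtype.ext hπ.1
      rw [← map_mul, ← map_mul, h2, map_one, map_one]
    · induction hq using Subgroup.closure_induction with
      | mem y hy =>
        obtain ⟨k, hk, rfl⟩ := hy
        refine Subgroup.subset_closure ⟨⟨_, QJ_le_SJ hω (qg_mem hω hk), rfl⟩, ?_⟩
        show e (qg hω k) * e (qg hω k) = 1
        rw [← map_mul, qg_sq hω hk, map_one]
      | one => rw [map_one]; exact one_mem _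
      | mul a b _ _ ha hb => rw [map_mul]; exact mul_mem ha hb
      | inv a _ ha => rw [map_inv]; exact inv_mem ha
  · intro c hc
    obtain ⟨c, rfl⟩ := e.surjective c
    obtain ⟨q, hq, π, rfl⟩ := (exists_prod hω hF).2 c ((mem_CJ hω).mpr (hcomm hc))
    rw [map_mul]
    refine mul_mem (Subgroup.subset_closure ⟨(qe_comm_tJ hω hq).map e, ?_⟩) ?_
    · obtain ⟨k, hk⟩ := (IsPGroup.of_card (n := 5) (p := 2) (by rw [card_QJ hω hF]; norm_num) :
        IsPGroup 2 (QJ hω)) ⟨q, hq⟩
      exact ⟨k, by rw [← map_pow, show q ^ 2 ^ k = 1 from congrArg Subtype.val hk, map_one]⟩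
    · obtain ⟨ρ, hρ, hρ2, hρπ⟩ := alt_two_invol π.1 (Perm.mem_alternatingGroup.mp π.2)
      let r : alternatingGroup (Fin 5) := ⟨ρ, Perm.mem_alternatingGroup.mpr hρ⟩
      have hinv : ∀ a : alternatingGroup (Fin 5), a * a = 1 → e (altHom hω a) ∈
          {x : L | Commute x (e (tJ hω)) ∧ ∃ k : ℕ, x ^ 2 ^ k = 1} := fun a ha =>
        ⟨(altHom_comm_tJ hω a).map e, 1, by rw [pow_one, pow_two, ← map_mul, ← map_mul, ha, map_one, map_one]⟩
      have := mul_mem (inv_mem (Subgroup.subset_closure (hinv r (Subtype.ext hρ2))))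
        (Subgroup.subset_closure (hinv (r * π) (Subtype.ext hρπ)))
      rwa [← map_inv, ← map_inv, ← map_mul, ← map_mul, inv_mul_cancel_left] at this

end

end Cfsg.Lib.Spor.J3
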