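import Cfsg.Agent.Spor.J3.CentData

/-!
Checks for the centraliser of an involution.
-/

set_option autoImplicit false
set_option Elab.async false

namespace Cfsg.Lib.Spor.J3

/-- Two words are equal up to a scalar. -/
def same3 (w u : List ℕ) : Bool :=
  lettersOK w && lettersOK u &&
    let c := wcols w
    c == wcols u || c == wcols (21 :: u) || c == wcols (22 :: u)

/-- The key of a word up to scalars. -/
def key3 (w : List ℕ) : ℕ := min (colsKey (wcols w)) (min (colsKey (wcols (21 :: w))) (colsKey (wcols (22 :: w))))

/-- Lookup in a table indexed by codes. -/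
def lookupW (tbl : List (ℕ × List ℕ)) (c : ℕ) : List ℕ := ((tbl.find? fun e => e.1 == c).map Prod.snd).getD []

/-- The code of a permutation of five points. -/
def permCode (π : Equiv.Perm (Fin 5)) : ℕ :=
  (π 0).val * 125 + (π 1).val * 25 + (π 2).val * 5 + (π 3).val

/-- The element of the complement for a permutation. -/
def altOf (π : Equiv.Perm (Fin 5)) : List ℕ := lookupW altTable (permCode π)

/-- Elements moved to fixed lines. -/
def fixOK (i : ℕ) : Bool :=
  decide (((monoImages (linePts.getD i 0)).filter fun v => sameLine (stepVec 13 v) v).length ≤ fixCount.getD i 0)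

theorem fix_ok0 : (List.range' 0 5).all fixOK = true := by decide +kernel
theorem fix_ok1 : (List.range' 5 5).all fixOK = true := by decide +kernel
theorem fix_ok2 : (List.range' 10 5).all fixOK = true := by decide +kernel
theorem fix_ok3 : (List.range' 15 5).all fixOK = true := by decide +kernel

theorem fix_ok (i : Fin 20) : fixOK i = true := by
  rcases Nat.lt_or_ge (i : ℕ) 5 with h | h
  · exact List.all_eq_true.mp fix_ok0 i (List.mem_range'_1.mpr ⟨by omega, by omega⟩)
  rcases Nat.lt_or_ge (i : ℕ) 10 with h' | h'
  · exact List.all_eq_true.mp fix_ok1 i (List.mem_range'_1.mpr ⟨by omega, by omega⟩)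
  rcases Nat.lt_or_ge (i : ℕ) 15 with h'' | h''
  · exact List.all_eq_true.mp fix_ok2 i (List.mem_range'_1.mpr ⟨by omega, by omega⟩)
  · exact List.all_eq_true.mp fix_ok3 i (List.mem_range'_1.mpr ⟨by omega, by omega⟩)

theorem fix_sum : ∑ i : Fin 20, fixCount.getD i 0 * 6480 / interSize i = 881280 ∧
    ∀ i : Fin 20, interSize i ∣ fixCount.getD i 0 * 6480 := by decide +kernel

theorem class_ok : classMembers.all (fun p => lettersOK p.1 && stabLetters p.2 && lettersOK p.2 &&
    eqw (p.1 ++ p.2) (13 :: p.1)) = true := by decide +kernel

theorem class_keys : (match classMembers.map (fun p => colsKey (wcols p.2)) with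
    | [] => true
    | a :: l => incrFrom a l) = true ∧ classMembers.length = 153 := by decide +kernel

theorem q_basic : qList.length = 32 ∧ qIdx.length = 32 ∧ qGens.length = qPos.length ∧ qCentre < 32 ∧
    qList.head? = some [] ∧ qIdx.head? = some [] ∧
    qList.all (fun q => lettersOK q && same3 (13 :: q) (q ++ [13])) = true ∧
    qGens.all lettersOK = true ∧ same3 (qList.getD qCentre []) [13] = true ∧
    (List.range qPos.length).all (fun k => decide (qPos.getD k 0 < 32) &&
      same3 (qGens.getD k []) (qList.getD (qPos.getD k 0) [])) = true ∧
    (List.range 32).all (fun i => (qIdx.getD i []).all (fun k => decide (k < qPos.length)) &&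
      same3 (qList.getD i []) (flatIdx qGens (qIdx.getD i []))) = true := by decide +kernel

theorem q_mul : (List.range qPos.length).all (fun k => (List.range 32).all fun i =>
    decide ((qMul.getD k []).getD i 0 < 32) &&
      same3 (qGens.getD k [] ++ qList.getD i []) (qList.getD ((qMul.getD k []).getD i 0) [])) = true := by
  decide +kernel

theorem q_keys : ((List.range 32).all fun i => (List.range i).all fun j =>
    !(key3 (qList.getD i []) == key3 (qList.getD j []))) = true := by decide +kernel

theorem q_gens_rel : (List.range qPos.length).all (fun k => (same3 (qGens.getD k [] ++ qGens.getD k []) [] ||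
      same3 (qGens.getD k [] ++ qGens.getD k []) [13]) && (List.range qPos.length).all fun l =>
    same3 (qGens.getD k [] ++ qGens.getD l []) (qGens.getD l [] ++ qGens.getD k []) ||
      same3 (qGens.getD k [] ++ qGens.getD l []) (13 :: (qGens.getD l [] ++ qGens.getD k []))) = true := by
  decide +kernel

theorem q_noncentral : (List.range 32).all (fun i =>
    same3 (qList.getD i []) [] || same3 (qList.getD i []) [13] ||
      decide (qNoncomm.getD i 0 < qPos.length) &&
        !same3 (qGens.getD (qNoncomm.getD i 0) [] ++ qList.getD i [])
          (qList.getD i [] ++ qGens.getD (qNoncomm.getD i 0) [])) = true := by decide +kernel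

theorem q_invols : (List.range 32).all (fun i => decide (i = 0) || decide (i ∈ qInvols) ||
    !same3 (qList.getD i [] ++ qList.getD i []) []) = true := by decide +kernel

theorem q_no_eight : qInvols.all (fun i => qInvols.all fun j =>
    decide (i = qCentre) || decide (j = i) || decide (j = qCentre) ||
      same3 (qList.getD j []) (13 :: qList.getD i []) ||
      !same3 (qList.getD i [] ++ qList.getD j []) (qList.getD j [] ++ qList.getD i [])) = true := by decide +kernel

/-- The two generators of the alternating group. -/
def altGen (c : ℕ) : Equiv.Perm (Fin 5) :=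
  if c = 0 then Equiv.swap 0 1 * Equiv.swap 2 3 else Equiv.swap 1 2 * Equiv.swap 2 4

/-- A product of the two generators. -/
def altProd (w : List ℕ) : Equiv.Perm (Fin 5) := (w.map altGen).prod

/-- The four group. -/
def inFour (π : Equiv.Perm (Fin 5)) : Bool := decide (π * π = 1) && decide (π 4 = 4)

theorem q_conj : ([0, 1] : List ℕ).all (fun c => (List.range qPos.length).all fun k =>
    decide ((qConj.getD c []).getD k 0 < 32) &&
      same3 (altOf (altGen c) ++ qGens.getD k []) (qList.getD ((qConj.getD c []).getD k 0) [] ++ altOf (altGen c))) =
    true := by decide +kernel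

theorem alt_table : ∀ π : Equiv.Perm (Fin 5), Equiv.Perm.sign π = 1 →
    (lettersOK (altOf π) && same3 (13 :: altOf π) (altOf π ++ [13]) &&
      decide (altProd (lookupW altWord (permCode π)) = π) &&
      (lookupW altWord (permCode π)).all (fun c => decide (c < 2))) = true := by decide +kernel

theorem alt_hom : ∀ π : Equiv.Perm (Fin 5), Equiv.Perm.sign π = 1 →
    (same3 (altOf (altGen 0) ++ altOf π) (altOf (altGen 0 * π)) &&
      same3 (altOf (altGen 1) ++ altOf π) (altOf (altGen 1 * π))) = true := by decide +kernel

theorem alt_one : same3 (altOf 1) [] = true ∧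
    (List.range 32).all (fun i => !same3 qFive (qList.getD i [])) = true ∧ same3 qFive [] = false ∧
    eqw (List.replicate 5 qFive).flatten [] = true ∧
    altTable.any (fun e => e.2 == qFive) = true ∧ altTable.length = 60 := by decide +kernel

theorem syl_count : sylV.length = 4 ∧ sylConj.length = 128 ∧ sylSort.length = 128 := by decide +kernel

/-- The elements of the Sylow group in the listed order. -/
def sylList : List (List ℕ) := sylV.flatMap fun c => qList.map fun q => lookupW altTable c ++ q

theorem syl_letters : sylList.length = 128 := by decide +kernel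

theorem syl_invols : (List.range 128).all (fun i =>
    let s := sylList.getD i []
    lettersOK s && (same3 s [] || !same3 (s ++ s) [] ||
      (lettersOK (sylConj.getD i []) && same3 (sylConj.getD i [] ++ s) (13 :: sylConj.getD i [])))) = true := by
  decide +kernel

theorem four_codes : ∀ π : Equiv.Perm (Fin 5), Equiv.Perm.sign π = 1 → inFour π = true →
    permCode π ∈ sylV := by decide +kernel

theorem four_card : (Finset.univ.filter fun π : Equiv.Perm (Fin 5) =>
    Equiv.Perm.sign π = 1 ∧ inFour π = true).card = 4 := by decide +kernel

theorem four_mul : ∀ π ρ : Equiv.Perm (Fin 5), Equiv.Perm.sign π = 1 → Equiv.Perm.sign ρ = 1 →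
    inFour π = true → inFour ρ = true → inFour (π * ρ) = true := by decide +kernel

theorem q_gens_invol : (List.range qPos.length).all (fun k =>
    same3 (qGens.getD k [] ++ qGens.getD k []) [] && !same3 (qGens.getD k []) []) = true := by decide +kernel

theorem q_outer : (List.range qPos.length).any (fun k =>
    let r := qList.getD ((qConj.getD 0 []).getD k 0) []
    !same3 r (qGens.getD k []) && !same3 r (13 :: qGens.getD k [])) = true := by decide +kernel

theorem t_invol : same3 [13, 13] [] = true ∧ same3 [13] [] = false ∧ eqw [13, 13] [] = true := by decide +kernel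

end Cfsg.Lib.Spor.J3
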