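import Cfsg.Agent.Spor.J3.CentCert

/-!
The centraliser of the involution in the triple cover has order at most 5760.
-/

set_option autoImplicit false
set_option Elab.async false

namespace Cfsg.Lib.Spor.J3

open Cfsg.Spor Matrix

section
variable {F : Type*} [Field F] [Fintype F] [CharP F 2] {ω : F} (hω : ω ^ 2 + ω + 1 = 0)

theorem coe_at_wvec (v : ℕ) :
    (at' hω 13 : Matrix F9 F9 F) *ᵥ vec ω v = vec ω (stepVec 13 v) := (coe_stepVec hω (by norm_num) v).symm

include hω in
theorem linePts_eq_getD (i : Fin 20) :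
    vec ω (linePts.getD i 0) = (wd hω (repsT.getD i []) : Matrix F9 F9 F) *ᵥ vec ω 1 := by
  have hi : (i : ℕ) < repsT.length := by rw [repsT_length]; exact i.2
  have ht := List.all_eq_true.mp repsT_letters _ (List.getElem_mem hi)
  rw [← vec_wvec hω (by rw [List.getD_eq_getElem _ _ hi]; exact ht)]
  simp only [linePts_eq, List.getD_eq_getElem?_getD, List.getElem?_map, List.getElem?_eq_getElem hi,
    Option.map_some, Option.getD_some]

/-- Elements of one double coset whose line is fixed by the involution. -/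
def fixedPart (i : Fin 20) : Set (GL F9 F) :=
  {g | ∃ m ∈ subM hω, ∃ h ∈ subH hω, g = m * wd hω (repsT.getD i []) * h ∧
    at' hω 13 * g ∈ (fun k => g * k) '' (lineStab (vec ω 1) : Set (GL F9 F))}

theorem fixedPart_card (hF : Fintype.card F = 4) (i : Fin 20) :
    (fixedPart hω i).ncard * interSize i ≤ fixCount.getD i 0 * 6480 := by
  classical
  set t := wd hω (repsT.getD i []) with ht
  set p := linePts.getD i 0 with hp
  have hpv : vec ω p = (t : Matrix F9 F9 F) *ᵥ vec ω 1 := linePts_eq_getD hω i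
  have hplt : p < 262144 := by
    have h := lineOrbit_ok i
    simp only [orbitOK, Bool.and_eq_true, decide_eq_true_eq] at h
    exact h.1.1.1
  have hH : subH hω ≤ lineStab (vec ω 1) := genBy_le_lineStab hω (by decide) h0_fixes
  let P : GL F9 F → Prop := fun m => LineRel
    ((at' hω 13 : Matrix F9 F9 F) *ᵥ ((m : Matrix F9 F9 F) *ᵥ vec ω p)) ((m : Matrix F9 F9 F) *ᵥ vec ω p)
  let W : Set (GL F9 F) := {m | m ∈ subM hω ∧ P m}
  have hW : W.ncard ≤ fixCount.getD i 0 := by
    have h := fix_ok i
    simp only [fixOK, decide_eq_true_eq, monoImages_eq] at h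
    rw [List.filter_map, List.length_map] at h
    refine le_trans ?_ h
    set L := ((prodList repsM wordsM0).filter
      ((fun v => sameLine (stepVec 13 v) v) ∘ fun w => wvec w (linePts.getD i 0))) with hL
    calc W.ncard ≤ (Set.range fun j : Fin L.length => wd hω L[j]).ncard := by
          refine Set.ncard_le_ncard ?_ (Set.toFinite _)
          rintro m ⟨hm, hPm⟩
          obtain ⟨w, hw, rfl⟩ := listedM hω m hm
          have hmem : w ∈ L := by
            refine List.mem_filter.mpr ⟨hw, ?_⟩
            simp only [Function.comp_apply]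
            refine sameLine_of_lineRel hω hF (stepVec_lt _ _) (wvec_lt hplt) ?_
            rw [coe_stepVec hω (by norm_num), vec_wvec hω (wordsMono_letters hw)]
            exact hPm
          obtain ⟨j, hj, he⟩ := List.mem_iff_getElem.mp hmem
          exact ⟨⟨j, hj⟩, by simp [he]⟩
      _ ≤ L.length := by
          rw [← Nat.card_coe_set_eq]
          exact (Nat.card_le_card_of_surjective _ Set.rangeFactorization_surjective).trans (by simp)
  set I := subM hω ⊓ (subH hω).map (MulAut.conj t).toMonoidHom with hI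
  have hcI := interSize_le hω i
  let X := fixedPart hω i
  have hpick : ∀ x : X, ∃ m ∈ subM hω, ∃ h ∈ subH hω, (x : GL F9 F) = m * t * h ∧ P m := by
    rintro ⟨g, m, hm, h, hh, rfl, k, hk, he⟩
    refine ⟨m, hm, h, hh, rfl, ?_⟩
    obtain ⟨c, hc, hcc⟩ := hH hh
    obtain ⟨d, hd, hdd⟩ := hk
    have h1 : (at' hω 13 : Matrix F9 F9 F) *ᵥ (((m * t * h : GL F9 F) : Matrix F9 F9 F) *ᵥ vec ω 1) =
        d • (((m * t * h : GL F9 F) : Matrix F9 F9 F) *ᵥ vec ω 1) := by
      have he' : m * t * h * k = at' hω 13 * (m * t * h) := he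
      rw [Matrix.mulVec_mulVec, ← Units.val_mul, ← he', Units.val_mul (m * t * h) k, ← Matrix.mulVec_mulVec, hdd,
        Matrix.mulVec_smul]
    have h2 : ((m * t * h : GL F9 F) : Matrix F9 F9 F) *ᵥ vec ω 1 = c • ((m : Matrix F9 F9 F) *ᵥ vec ω p) := by
      rw [Units.val_mul (m * t) h, ← Matrix.mulVec_mulVec, hcc, Matrix.mulVec_smul, Units.val_mul,
        ← Matrix.mulVec_mulVec, ← hpv]
    rw [h2, Matrix.mulVec_smul, smul_comm] at h1
    exact ⟨d, hd, smul_right_injective _ hc h1⟩
  choose mf hmf hf hhf hxe hPf using hpick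
  have hPk : ∀ x : X, ∀ k : I, P (mf x * k.1) := by
    intro x k
    obtain ⟨h0, hh0, hk⟩ := (Subgroup.mem_inf.mp k.2).2
    obtain ⟨c, hc, hcc⟩ := hH hh0
    have hkp : ((k.1 : GL F9 F) : Matrix F9 F9 F) *ᵥ vec ω p = c • vec ω p := by
      have : (k.1 : GL F9 F) * t = t * h0 := by
        rw [← hk]; simp [MulAut.conj_apply, mul_assoc]
      rw [hpv, Matrix.mulVec_mulVec, ← Units.val_mul, this, Units.val_mul, ← Matrix.mulVec_mulVec, hcc,
        Matrix.mulVec_smul]
    obtain ⟨d, hd, hdd⟩ := hPf x
    refine ⟨d, hd, ?_⟩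
    rw [Units.val_mul, ← Matrix.mulVec_mulVec, hkp, Matrix.mulVec_smul, Matrix.mulVec_smul, hdd, smul_comm]
  let f : X × I → W × subH hω := fun a =>
    (⟨mf a.1 * a.2.1, mul_mem (hmf a.1) (Subgroup.mem_inf.mp a.2.2).1, hPk a.1 a.2⟩,
      ⟨t⁻¹ * (a.2.1 : GL F9 F)⁻¹ * t * hf a.1, by
        obtain ⟨h0, hh0, hk⟩ := (Subgroup.mem_inf.mp a.2.2).2
        rw [← hk]
        simp only [MulEquiv.toMonoidHom_eq_coe, MonoidHom.coe_coe, MulAut.conj_apply]
        rw [show t⁻¹ * (t * h0 * t⁻¹)⁻¹ * t = h0⁻¹ by group]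
        exact mul_mem (inv_mem hh0) (hhf a.1)⟩)
  have hfi : Function.Injective f := by
    rintro ⟨x, k⟩ ⟨y, l⟩ h
    simp only [f, Prod.mk.injEq, Subtype.mk.injEq] at h
    obtain ⟨h1, h2⟩ := h
    have hx : ∀ (x : X) (k : I), mf x * k.1 * t * (t⁻¹ * (k.1 : GL F9 F)⁻¹ * t * hf x) = x.1 := fun x k => by
      rw [hxe x]; group
    obtain rfl : x = y := Subtype.ext (by rw [← hx x k, ← hx y l, h1, h2])
    exact Prod.ext rfl (Subtype.ext (mul_left_cancel h1))
  have := Nat.card_le_card_of_injective f hfi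
  rw [Nat.card_prod, Nat.card_prod, Nat.card_coe_set_eq, Nat.card_coe_set_eq] at this
  exact (Nat.mul_le_mul_left _ hcI).trans (this.trans (Nat.mul_le_mul hW (card_subH_le hω)))

include hω in
theorem centralizer_le (hF : Fintype.card F = 4) :
    Nat.card ↥(threeJ3 F ω ⊓ Subgroup.centralizer ({at' hω 13} : Set (GL F9 F))) ≤ 5760 := by
  classical
  set C := threeJ3 F ω ⊓ Subgroup.centralizer ({at' hω 13} : Set (GL F9 F))
  have hstab : subH hω ≤ lineStab (vec ω 1) := genBy_le_lineStab hω (by decide) h0_fixes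
  let U : Set (GL F9 F) := ⋃ i ∈ (Finset.univ : Finset (Fin 20)), fixedPart hω i
  have hU : U.ncard ≤ 881280 := by
    refine (Finset.set_ncard_biUnion_le _ _).trans ?_
    rw [← fix_sum.1]
    refine Finset.sum_le_sum fun i _ => ?_
    rw [Nat.le_div_iff_mul_le (interSize_sum.1 i)]
    exact fixedPart_card hω hF i
  have hcl : ∀ j : Fin classMembers.length, lettersOK classMembers[j].1 = true ∧
      stabLetters classMembers[j].2 = true ∧ lettersOK classMembers[j].2 = true ∧
      eqw (classMembers[j].1 ++ classMembers[j].2) (13 :: classMembers[j].1) = true := fun j => by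
    have h := List.all_eq_true.mp class_ok classMembers[j.1] (List.getElem_mem j.2)
    simp only [Bool.and_eq_true] at h
    exact ⟨h.1.1.1, h.1.1.2, h.1.2, h.2⟩
  let f : C × Fin classMembers.length → U := fun a => ⟨a.1.1 * wd hω classMembers[a.2].1, by
    have hg : a.1.1 * wd hω classMembers[a.2].1 ∈ threeJ3 F ω :=
      mul_mem (Subgroup.mem_inf.mp a.1.2).1 (wd_mem hω (hcl a.2).1)
    obtain ⟨i, m, hm, h, hh, he⟩ := threeJ3_subset hω hg
    refine Set.mem_biUnion (Finset.mem_univ i) ⟨m, hm, h, hh, he, wd hω classMembers[a.2].2,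
      hstab (wd_mem_subH hω (hcl a.2).2.1), ?_⟩
    have h2 := eqw_sound hω (hcl a.2).2.2.2
    rw [wd_append, wd_cons] at h2
    have hc : a.1.1 * at' hω 13 = at' hω 13 * a.1.1 :=
      Subgroup.mem_centralizer_singleton_iff.mp (Subgroup.mem_inf.mp a.1.2).2
    show a.1.1 * wd hω classMembers[a.2].1 * wd hω classMembers[a.2].2 = _
    rw [mul_assoc, h2, ← mul_assoc, hc, mul_assoc]⟩
  have hn : (classMembers.map fun p => colsKey (wcols p.2)).Nodup := by
    have h := class_keys.1
    revert h
    cases classMembers.map fun p => colsKey (wcols p.2) with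
    | nil => intro; exact List.nodup_nil
    | cons a l => exact fun h => (nodup_of_incrFrom h).1
  have hf : Function.Injective f := by
    rintro ⟨c, j⟩ ⟨d, k⟩ h
    have hv : c.1 * wd hω classMembers[j].1 = d.1 * wd hω classMembers[k].1 := congrArg Subtype.val h
    have hstep : ∀ (e : C) (l : Fin classMembers.length),
        e.1 * wd hω classMembers[l].1 * wd hω classMembers[l].2 =
          at' hω 13 * (e.1 * wd hω classMembers[l].1) := by
      intro e l
      have h2 := eqw_sound hω (hcl l).2.2.2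
      rw [wd_append, wd_cons] at h2
      have hc : e.1 * at' hω 13 = at' hω 13 * e.1 :=
        Subgroup.mem_centralizer_singleton_iff.mp (Subgroup.mem_inf.mp e.2).2
      rw [mul_assoc, h2, ← mul_assoc, hc, mul_assoc]
    have h2 : wd hω classMembers[j].2 = wd hω classMembers[k].2 := by
      have := hstep c j
      rw [hv, ← hstep d k] at this
      exact mul_left_cancel this
    obtain rfl : j = k := Fin.ext ((List.Nodup.getElem_inj_iff hn (i := j.1) (hi := by simp) (j := k.1)
      (hj := by simp)).mp (by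
        simp only [List.getElem_map]
        exact congrArg colsKey (wcols_eq_of_wd_eq hω (hcl j).2.2.1 (hcl k).2.2.1 h2)))
    exact Prod.ext (Subtype.ext (mul_right_cancel hv)) rfl
  have h := Nat.card_le_card_of_injective f hf
  rw [Nat.card_prod, Nat.card_fin, class_keys.2, Nat.card_coe_set_eq] at h
  have := h.trans hU
  omega

end

end Cfsg.Lib.Spor.J3
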