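import Cfsg.Agent.Spor.J3.CentElems
import Cfsg.Agent.LargeExtra.Coprime

/-!
The centraliser of the involution: an extraspecial group of order 32 extended by the alternating
group of degree five, split; one class of involutions.
-/

set_option autoImplicit false
set_option Elab.async false

namespace Cfsg.Lib.Spor.J3

open Cfsg.Spor Equiv

section
variable {F : Type*} [Field F] [Fintype F] [CharP F 2] {ω : F} (hω : ω ^ 2 + ω + 1 = 0)

/-- The centraliser. -/
def CJ : Subgroup (Cfsg.Spor.J3 F ω) := Subgroup.centralizer ({tJ hω} : Set (Cfsg.Spor.J3 F ω))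

theorem mem_CJ {x : Cfsg.Spor.J3 F ω} : x ∈ CJ hω ↔ Commute x (tJ hω) := Subgroup.mem_centralizer_singleton_iff

theorem QJ_le_CJ : QJ hω ≤ CJ hω := fun _ hx => (mem_CJ hω).mpr (qe_comm_tJ hω hx)

theorem altHom_mem_CJ (π : alternatingGroup (Fin 5)) : altHom hω π ∈ CJ hω := (mem_CJ hω).mpr (altHom_comm_tJ hω π)

/-- The generators of the alternating group. -/
def altEl (c : ℕ) (hc : c < 2) : alternatingGroup (Fin 5) :=
  ⟨altGen c, Perm.mem_alternatingGroup.mpr (altGen_sign c hc)⟩

theorem altHom_normalises (π : alternatingGroup (Fin 5)) :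
    altHom hω π ∈ Subgroup.normalizer (QJ hω : Set (Cfsg.Spor.J3 F ω)) := by
  have hgen : ∀ c (hc : c < 2), altHom hω (altEl c hc) ∈ Subgroup.normalizer (QJ hω : Set (Cfsg.Spor.J3 F ω)) := by
    intro c hc
    set g := altHom hω (altEl c hc)
    have hle : (QJ hω).map (MulAut.conj g).toMonoidHom ≤ QJ hω := by
      rw [QJ, MonoidHom.map_closure, Subgroup.closure_le]
      rintro _ ⟨_, ⟨k, hk, rfl⟩, rfl⟩
      show g * qg hω k * g⁻¹ ∈ QJ hω
      obtain ⟨he, hlt⟩ := gen_normalises hω hc hk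
      show altFun hω (altGen c) * qg hω k * (altFun hω (altGen c))⁻¹ ∈ _
      rw [he]
      exact qe_mem hω hlt
    refine Subgroup.mem_normalizer_iff_map_conj_eq.mpr (Subgroup.eq_of_le_of_card_ge hle ?_)
    rw [Subgroup.card_map_of_injective (MulAut.conj g).injective]
  obtain ⟨π, hπ⟩ := π
  obtain ⟨w, hw, rfl⟩ := altProd_word π (Perm.mem_alternatingGroup.mp hπ)
  have hsplit : altHom hω ⟨altProd w, hπ⟩ = altFun hω (altProd w) := rfl
  rw [hsplit]
  clear hsplit hπ
  induction w with
  | nil =>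
    rw [show altProd [] = 1 from rfl, altFun_one]
    exact one_mem _
  | cons c w ih =>
    have hc := hw c List.mem_cons_self
    have hw' : ∀ d ∈ w, d < 2 := fun d hd => hw d (List.mem_cons_of_mem _ hd)
    have hs : ∀ v : List ℕ, (∀ d ∈ v, d < 2) → Perm.sign (altProd v) = 1 := by
      intro v hv
      induction v with
      | nil => simp [altProd]
      | cons d v ihv =>
        rw [altProd, List.map_cons, List.prod_cons, map_mul, altGen_sign d (hv d List.mem_cons_self), one_mul]
        exact ihv fun e he => hv e (List.mem_cons_of_mem _ he)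
    rw [show altProd (c :: w) = altGen c * altProd w from List.prod_cons, altFun_gen_mul hω hc (hs w hw')]
    exact mul_mem (hgen c hc) (ih hw')

include hω in
theorem altHom_mem_QJ (hF : Fintype.card F = 4) (π : alternatingGroup (Fin 5)) (h : altHom hω π ∈ QJ hω) :
    π = 1 := by
  classical
  haveI := alternatingGroup.isSimpleGroup_five
  haveI : ((QJ hω).comap (altHom hω)).Normal := ⟨fun a ha b => by
    rw [Subgroup.mem_comap] at ha ⊢
    rw [map_mul, map_mul, map_inv]
    exact (Subgroup.mem_normalizer_iff.mp (altHom_normalises hω b) _).mp ha⟩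
  rcases Subgroup.Normal.eq_bot_or_eq_top (inferInstance : ((QJ hω).comap (altHom hω)).Normal) with e | e
  · have : π ∈ (QJ hω).comap (altHom hω) := h
    rw [e, Subgroup.mem_bot] at this
    exact this
  · exfalso
    obtain ⟨-, hn, -, -, hany, -⟩ := alt_one
    obtain ⟨⟨code, w⟩, hmem, hw⟩ := List.any_eq_true.mp hany
    have hw' : w = qFive := beq_iff_eq.mp hw
    have hl : lettersOK qFive = true := by decide +kernel
    have hex : ∃ σ : Perm (Fin 5), Perm.sign σ = 1 ∧ altOf σ = qFive := by decide +kernel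
    obtain ⟨σ, hσ, hσ5⟩ := hex
    have hq : altHom hω ⟨σ, Perm.mem_alternatingGroup.mpr hσ⟩ ∈ QJ hω :=
      (Subgroup.mem_comap).mp (e ▸ Subgroup.mem_top _)
    obtain ⟨i, hi, he⟩ := (mem_QJ hω).mp hq
    have hne := List.all_eq_true.mp hn i (List.mem_range.mpr hi)
    rw [Bool.not_eq_true'] at hne
    refine ne_of_same3_false hω hF hl (qList_letters hi) hne ?_
    rw [← hσ5]; exact he

include hω in
theorem altHom_injective (hF : Fintype.card F = 4) : Function.Injective (altHom hω) :=
  (injective_iff_map_eq_one _).mpr fun π h => altHom_mem_QJ hω hF π (by rw [h]; exact one_mem _)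

theorem card_alt : Nat.card (alternatingGroup (Fin 5)) = 60 := by
  rw [nat_card_alternatingGroup, Nat.card_fin]; rfl

include hω in
theorem card_CJ_le (hF : Fintype.card F = 4) : Nat.card (CJ hω) ≤ 1920 := by
  set π := QuotientGroup.mk' (Subgroup.center (threeJ3 F ω))
  have hc : Nat.card ((CJ hω).comap π) = 3 * Nat.card (CJ hω) := by
    have h1 := ((CJ hω).comap π).card_mul_index
    rw [Subgroup.index_comap_of_surjective _ (QuotientGroup.mk'_surjective _),
      (first_orbit_and_order hω hF).1] at h1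
    have h2 := (CJ hω).card_mul_index
    rw [card_J3 hω hF] at h2
    have hi : 0 < (CJ hω).index := Nat.pos_of_ne_zero Subgroup.index_ne_zero_of_finite
    refine Nat.eq_of_mul_eq_mul_right hi ?_
    rw [h1, mul_assoc, h2]; norm_num
  have hle : ((CJ hω).comap π).map (threeJ3 F ω).subtype ≤
      threeJ3 F ω ⊓ Subgroup.centralizer ({at' hω 13} : Set (GL F9 F)) := by
    rintro _ ⟨g, hg, rfl⟩
    refine Subgroup.mem_inf.mpr ⟨g.2, Subgroup.mem_centralizer_singleton_iff.mpr ?_⟩
    set t := gel hω [13]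
    have hcm : Commute (π g) (π t) := (mem_CJ hω).mp hg
    have hz : g * t * g⁻¹ * t⁻¹ ∈ Subgroup.center (threeJ3 F ω) := by
      refine (QuotientGroup.eq_one_iff _).mp ?_
      show π (g * t * g⁻¹ * t⁻¹) = 1
      rw [map_mul, map_mul, map_mul, map_inv, map_inv, hcm.eq]
      group
    set z := g * t * g⁻¹ * t⁻¹
    have ht2 : t * t = 1 := Subtype.ext (by
      have := eqw_sound hω t_invol.2.2
      simpa [t, gel, wd] using this)
    have hti : t⁻¹ = t := inv_eq_of_mul_eq_one_right ht2
    have hgt : g * t * g⁻¹ = z * t := by simp [z, mul_assoc]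
    have hz2 : z * z = 1 := by
      have h1 : (g * t * g⁻¹) * (g * t * g⁻¹) = 1 := by
        rw [show (g * t * g⁻¹) * (g * t * g⁻¹) = g * (t * t) * g⁻¹ by group, ht2]; group
      rw [hgt] at h1
      have hzt : z * t = t * z := (Subgroup.mem_center_iff.mp hz t).symm
      rw [show z * t * (z * t) = z * (t * z) * t by group, ← hzt, show z * (z * t) * t = z * z * (t * t) by group,
        ht2, mul_one] at h1
      exact h1
    have hz3 : z ^ 3 = 1 := by
      have := pow_card_eq_one' (G := Subgroup.center (threeJ3 F ω)) (x := ⟨z, hz⟩)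
      rw [card_center hω hF] at this
      exact congrArg Subtype.val this
    have hz1 : z = 1 := by
      rw [pow_succ, pow_two, hz2, one_mul] at hz3; exact hz3
    rw [hz1, one_mul, mul_inv_eq_iff_eq_mul] at hgt
    have := congrArg Subtype.val hgt
    simpa [t, gel, wd] using this
  have h3 := Subgroup.card_le_of_le hle
  rw [Subgroup.card_map_of_injective (threeJ3 F ω).subtype_injective, hc] at h3
  have := h3.trans (centralizer_le hω hF)
  omega

include hω in
theorem exists_prod (hF : Fintype.card F = 4) :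
    Nat.card (CJ hω) = 1920 ∧ ∀ x ∈ CJ hω, ∃ q ∈ QJ hω, ∃ π, x = q * altHom hω π := by
  let f : QJ hω × alternatingGroup (Fin 5) → CJ hω := fun a =>
    ⟨a.1.1 * altHom hω a.2, mul_mem (QJ_le_CJ hω a.1.2) (altHom_mem_CJ hω a.2)⟩
  have hf : Function.Injective f := by
    rintro ⟨q, π⟩ ⟨r, ρ⟩ h
    have h1 : q.1 * altHom hω π = r.1 * altHom hω ρ := congrArg Subtype.val h
    have h2 : altHom hω (π * ρ⁻¹) ∈ QJ hω := by
      have : altHom hω (π * ρ⁻¹) = q.1⁻¹ * r.1 := by
        rw [map_mul, map_inv, eq_inv_mul_iff_mul_eq, ← mul_assoc, h1, mul_inv_cancel_right]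
      rw [this]; exact mul_mem (inv_mem q.2) r.2
    obtain rfl : π = ρ := mul_inv_eq_one.mp (altHom_mem_QJ hω hF _ h2)
    exact Prod.ext (Subtype.ext (mul_right_cancel h1)) rfl
  have hcard : Nat.card (QJ hω × alternatingGroup (Fin 5)) = 1920 := by
    rw [Nat.card_prod, card_QJ hω hF, card_alt]
  have h1 := Nat.card_le_card_of_injective f hf
  rw [hcard] at h1
  have heq : Nat.card (CJ hω) = 1920 := le_antisymm (card_CJ_le hω hF) h1
  refine ⟨heq, fun x hx => ?_⟩
  obtain ⟨⟨q, π⟩, he⟩ := (hf.bijective_of_nat_card_le (by rw [heq, hcard])).2 ⟨x, hx⟩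
  exact ⟨q.1, q.2, π, (congrArg Subtype.val he).symm⟩

include hω in
theorem CJ_normalises (hF : Fintype.card F = 4) :
    CJ hω ≤ Subgroup.normalizer (QJ hω : Set (Cfsg.Spor.J3 F ω)) := fun x hx => by
  obtain ⟨q, hq, π, rfl⟩ := (exists_prod hω hF).2 x hx
  exact mul_mem (Subgroup.le_normalizer hq) (altHom_normalises hω π)

theorem qg_pair {k l : ℕ} (hk : k < qPos.length) (hl : l < qPos.length) :
    qg hω k * qg hω l = qg hω l * qg hω k ∨ qg hω k * qg hω l = tJ hω * (qg hω l * qg hω k) := by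
  have h := List.all_eq_true.mp q_gens_rel k (List.mem_range.mpr hk)
  simp only [Bool.and_eq_true] at h
  have h2 := List.all_eq_true.mp h.2 l (List.mem_range.mpr hl)
  rw [qg, qg, tJ, ← eJ_append, ← eJ_append, ← eJ_append]
  simp only [Bool.or_eq_true] at h2
  rcases h2 with h2 | h2
  · exact Or.inl (same3_sound hω h2)
  · exact Or.inr (same3_sound hω h2)

theorem qg_sq {k : ℕ} (hk : k < qPos.length) : qg hω k * qg hω k = 1 := by
  have h := List.all_eq_true.mp q_gens_invol k (List.mem_range.mpr hk)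
  simp only [Bool.and_eq_true] at h
  rw [qg, ← eJ_append, ← eJ_nil hω]
  exact same3_sound hω h.1

theorem QJ_comm {a b : Cfsg.Spor.J3 F ω} (ha : a ∈ QJ hω) (hb : b ∈ QJ hω) :
    a * b = b * a ∨ a * b = tJ hω * (b * a) := by
  have hmul : ∀ {y x x' : Cfsg.Spor.J3 F ω}, x ∈ QJ hω → (y * x = x * y ∨ y * x = tJ hω * (x * y)) →
      (y * x' = x' * y ∨ y * x' = tJ hω * (x' * y)) →
      (y * (x * x') = x * x' * y ∨ y * (x * x') = tJ hω * (x * x' * y)) := by
    intro y x x' hx h h'
    have hxt : x * tJ hω = tJ hω * x := (qe_comm_tJ hω hx).eq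
    rcases h with h | h <;> rcases h' with h' | h'
    · left; rw [← mul_assoc, h, mul_assoc, h', mul_assoc]
    · right; rw [← mul_assoc, h, mul_assoc, h', ← mul_assoc x, hxt]; simp only [mul_assoc]
    · right; rw [← mul_assoc, h, mul_assoc, mul_assoc, h']; simp only [mul_assoc]
    · left
      rw [← mul_assoc, h, mul_assoc, mul_assoc, h', ← mul_assoc x, hxt, mul_assoc, ← mul_assoc, tJ_sq, one_mul,
        mul_assoc]
  have step : ∀ k, k < qPos.length → ∀ b ∈ QJ hω,
      qg hω k * b = b * qg hω k ∨ qg hω k * b = tJ hω * (b * qg hω k) := by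
    intro k hk b hb
    rw [QJ, ← Subgroup.mem_toSubmonoid, Subgroup.closure_toSubmonoid_of_finite] at hb
    induction hb using Submonoid.closure_induction_left with
    | one => simp
    | mul_left g hg y _ ih =>
      obtain ⟨l, hl, rfl⟩ := hg
      exact hmul (qg_mem hω hl) (qg_pair hω hk hl) ih
  have hswap : ∀ {x y : Cfsg.Spor.J3 F ω}, (x * y = y * x ∨ x * y = tJ hω * (y * x)) →
      (y * x = x * y ∨ y * x = tJ hω * (x * y)) := by
    intro x y h
    rcases h with h | h
    · exact Or.inl h.symm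
    · exact Or.inr (by rw [h, ← mul_assoc, tJ_sq, one_mul])
  refine hswap ?_
  rw [QJ, ← Subgroup.mem_toSubmonoid, Subgroup.closure_toSubmonoid_of_finite] at ha
  induction ha using Submonoid.closure_induction_left with
  | one => simp
  | mul_left g hg y _ ih =>
    obtain ⟨l, hl, rfl⟩ := hg
    exact hmul (qg_mem hω hl) (hswap (step l hl b hb)) ih

theorem QJ_sq {a : Cfsg.Spor.J3 F ω} (ha : a ∈ QJ hω) : a * a = 1 ∨ a * a = tJ hω := by
  rw [QJ, ← Subgroup.mem_toSubmonoid, Subgroup.closure_toSubmonoid_of_finite] at ha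
  induction ha using Submonoid.closure_induction_left with
  | one => simp
  | mul_left g hg y hy ih =>
    obtain ⟨l, hl, rfl⟩ := hg
    have hyQ : y ∈ QJ hω := by
      rw [QJ, ← Subgroup.mem_toSubmonoid, Subgroup.closure_toSubmonoid_of_finite]; exact hy
    have hc := QJ_comm hω hyQ (qg_mem hω hl)
    have hgt : qg hω l * tJ hω = tJ hω * qg hω l := (qe_comm_tJ hω (qg_mem hω hl)).eq
    rcases hc with hc | hc
    · have e : qg hω l * y * (qg hω l * y) = y * y := by
        rw [mul_assoc, ← mul_assoc y, hc, mul_assoc, ← mul_assoc, qg_sq hω hl, one_mul]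
      rw [e]; exact ih
    · have e : qg hω l * y * (qg hω l * y) = tJ hω * (y * y) := by
        rw [mul_assoc, ← mul_assoc y, hc, mul_assoc, mul_assoc, ← mul_assoc (qg hω l) (tJ hω), hgt, mul_assoc,
          ← mul_assoc (qg hω l) (qg hω l), qg_sq hω hl, one_mul]
      rw [e]
      rcases ih with e' | e'
      · right; rw [e', mul_one]
      · left; rw [e', tJ_sq]

theorem qCentre_lt : qCentre < 32 := q_basic.2.2.2.1

theorem tJ_mem_QJ : tJ hω ∈ QJ hω := qe_centre hω ▸ qe_mem hω qCentre_lt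

include hω in
theorem QJ_center (hF : Fintype.card F = 4) {c : Cfsg.Spor.J3 F ω} (hc : c ∈ QJ hω)
    (h : ∀ a ∈ QJ hω, Commute a c) : c = 1 ∨ c = tJ hω := by
  obtain ⟨i, hi, rfl⟩ := (mem_QJ hω).mp hc
  have hn := List.all_eq_true.mp q_noncentral i (List.mem_range.mpr hi)
  simp only [Bool.or_eq_true, Bool.and_eq_true, decide_eq_true_eq, Bool.not_eq_true'] at hn
  rcases hn with (e | e) | ⟨hk, e⟩
  · exact Or.inl (by rw [qe, same3_sound hω e, eJ_nil])
  · exact Or.inr (same3_sound hω e)
  · exfalso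
    have hkl : lettersOK (qGens.getD (qNoncomm.getD i 0) []) = true := by
      have hlen : qNoncomm.getD i 0 < qGens.length := by rw [q_basic.2.2.1]; exact hk
      rw [List.getD_eq_getElem _ _ hlen]
      exact List.all_eq_true.mp q_basic.2.2.2.2.2.2.2.1 _ (List.getElem_mem hlen)
    have hl2 : lettersOK (qGens.getD (qNoncomm.getD i 0) [] ++ qList.getD i []) = true ∧
        lettersOK (qList.getD i [] ++ qGens.getD (qNoncomm.getD i 0) []) = true := by
      simp only [lettersOK, List.all_append, Bool.and_eq_true] at hkl ⊢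
      have := qList_letters hi
      simp only [lettersOK] at this
      exact ⟨⟨hkl, this⟩, this, hkl⟩
    refine ne_of_same3_false hω hF hl2.1 hl2.2 e ?_
    rw [eJ_append, eJ_append]
    exact (h _ (qg_mem hω hk)).eq

include hω in
theorem QJ_extraspecial (hF : Fintype.card F = 4) : Cfsg.IsExtraspecial 2 (QJ hω) := by
  refine Cfsg.Lib.LargeExtra.isExtraspecial_of (z := tJ hω) (IsPGroup.of_card (n := 5) (by rw [card_QJ hω hF]; norm_num))
    (tJ_mem_QJ hω) (tJ_ne hω hF) (tJ_sq hω) (fun a ha => qe_comm_tJ hω ha) (fun a ha b hb => ?_)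
    (fun a ha => QJ_sq hω ha) (fun c hc h => QJ_center hω hF hc h) ?_
  · rcases QJ_comm hω ha hb with h | h
    · left; rw [commutatorElement_def, h]; group
    · right; rw [commutatorElement_def, h]; group
  · by_contra hcon
    push Not at hcon
    have hall : ∀ i < 32, qe hω i = 1 ∨ qe hω i = tJ hω := fun i hi =>
      QJ_center hω hF (qe_mem hω hi) fun a ha => hcon a ha _ (qe_mem hω hi)
    have hsub : ∀ i : Fin 32, (i : ℕ) = 0 ∨ (i : ℕ) = qCentre := fun i => by
      rcases hall i i.2 with e | e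
      · exact Or.inl (qe_injective hω hF i.2 (by norm_num) (e.trans (qe_zero hω).symm))
      · exact Or.inr (qe_injective hω hF i.2 qCentre_lt (e.trans (qe_centre hω).symm))
    have h1 := hsub 1
    have h2 := hsub 2
    simp only [Fin.val_one, Fin.val_two] at h1 h2
    omega

include hω in
/-- Elementary abelian subgroups of the normal 2-group are small. -/
theorem QJ_no_eight (hF : Fintype.card F = 4) (E : Subgroup (QJ hω)) (hE : Cfsg.IsElementaryAbelian 2 E) :
    Nat.card E ≤ 2 ^ 2 := by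
  classical
  obtain ⟨hcomm, hexp⟩ := hE
  haveI := hcomm
  have hel : ∀ a ∈ E, ∃ i, i < 32 ∧ (i = 0 ∨ i ∈ qInvols) ∧ (a : Cfsg.Spor.J3 F ω) = qe hω i := by
    intro a ha
    obtain ⟨i, hi, e⟩ := (mem_QJ hω).mp a.2
    refine ⟨i, hi, ?_, e⟩
    have hh := List.all_eq_true.mp q_invols i (List.mem_range.mpr hi)
    simp only [Bool.or_eq_true, decide_eq_true_eq, Bool.not_eq_true'] at hh
    rcases hh with (h | h) | h
    · exact Or.inl h
    · exact Or.inr h
    · exfalso
      have hl := qList_letters hi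
      refine ne_of_same3_false hω hF ?_ rfl h ?_
      · simp only [lettersOK, List.all_append, Bool.and_eq_true] at hl ⊢; exact ⟨hl, hl⟩
      · rw [eJ_append, eJ_nil]
        have := congrArg Subtype.val (hexp a ha)
        simp only [SubgroupClass.coe_pow, OneMemClass.coe_one, pow_two, Subgroup.coe_mul] at this
        rw [e] at this
        exact this
  by_cases hex : ∃ a ∈ E, (a : Cfsg.Spor.J3 F ω) ≠ 1 ∧ (a : Cfsg.Spor.J3 F ω) ≠ tJ hω
  · obtain ⟨a, ha, ha1, hat⟩ := hex
    obtain ⟨i, hi, hiI, hai⟩ := hel a ha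
    have hiI' : i ∈ qInvols := hiI.resolve_left fun h => ha1 (by rw [hai, h, qe_zero])
    have hic : i ≠ qCentre := fun h => hat (by rw [hai, h, qe_centre])
    have hsub : ∀ b : E, ((b : QJ hω) : Cfsg.Spor.J3 F ω) ∈
        ({1, tJ hω, (a : Cfsg.Spor.J3 F ω), tJ hω * (a : Cfsg.Spor.J3 F ω)} : Finset (Cfsg.Spor.J3 F ω)) := by
      intro b
      obtain ⟨j, hj, hjI, hbj⟩ := hel b b.2
      rcases hjI with rfl | hjI
      · simp [hbj, qe_zero]
      have h8 := List.all_eq_true.mp (List.all_eq_true.mp q_no_eight i hiI') j hjI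
      simp only [Bool.or_eq_true, decide_eq_true_eq, Bool.not_eq_true'] at h8
      rcases h8 with (((h | h) | h) | h) | h
      · exact absurd h hic
      · simp [hbj, h, hai]
      · simp [hbj, h, qe_centre]
      · have := same3_sound hω h
        rw [eJ_cons] at this
        simp only [Finset.mem_insert, Finset.mem_singleton]
        exact Or.inr (Or.inr (Or.inr (by rw [hbj, hai]; exact this)))
      · exfalso
        have hli := qList_letters hi
        have hlj := qList_letters hj
        refine ne_of_same3_false hω hF ?_ ?_ h ?_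
        · simp only [lettersOK, List.all_append, Bool.and_eq_true] at hli hlj ⊢; exact ⟨hli, hlj⟩
        · simp only [lettersOK, List.all_append, Bool.and_eq_true] at hli hlj ⊢; exact ⟨hlj, hli⟩
        · rw [eJ_append, eJ_append]
          have := congrArg (fun x : E => ((x : QJ hω) : Cfsg.Spor.J3 F ω)) (mul_comm' (⟨a, ha⟩ : E) b)
          simp only [Subgroup.coe_mul] at this
          rw [hai, hbj] at this
          exact this
    let φ : E → ({1, tJ hω, (a : Cfsg.Spor.J3 F ω), tJ hω * (a : Cfsg.Spor.J3 F ω)} :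
        Finset (Cfsg.Spor.J3 F ω)) := fun b => ⟨_, hsub b⟩
    have hφ : Function.Injective φ := fun b c h => Subtype.ext (Subtype.ext (congrArg Subtype.val h :))
    have := Nat.card_le_card_of_injective φ hφ
    rw [Nat.card_eq_fintype_card (α := ({1, tJ hω, (a : Cfsg.Spor.J3 F ω), tJ hω * (a : Cfsg.Spor.J3 F ω)} :
        Finset (Cfsg.Spor.J3 F ω))), Fintype.card_coe] at this
    exact this.trans (Finset.card_le_four)
  · push Not at hex
    let φ : E → ({1, tJ hω} : Finset (Cfsg.Spor.J3 F ω)) := fun b => ⟨((b : QJ hω) : Cfsg.Spor.J3 F ω), by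
      by_cases h1 : ((b : QJ hω) : Cfsg.Spor.J3 F ω) = 1
      · simp [h1]
      · simp [hex b b.2 h1]⟩
    have hφ : Function.Injective φ := fun b c h => Subtype.ext (Subtype.ext (congrArg Subtype.val h :))
    have := Nat.card_le_card_of_injective φ hφ
    rw [Nat.card_eq_fintype_card (α := ({1, tJ hω} : Finset (Cfsg.Spor.J3 F ω))), Fintype.card_coe] at this
    exact (this.trans Finset.card_le_two).trans (by norm_num)

/-- The Sylow 2-subgroup inside the centraliser. -/
def SJ : Subgroup (Cfsg.Spor.J3 F ω) where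
  carrier := {x | ∃ π : alternatingGroup (Fin 5), inFour π.1 = true ∧ ∃ q ∈ QJ hω, x = altHom hω π * q}
  one_mem' := ⟨1, by decide, 1, one_mem _, by simp⟩
  mul_mem' := by
    rintro _ _ ⟨π, hπ, q, hq, rfl⟩ ⟨ρ, hρ, r, hr, rfl⟩
    refine ⟨π * ρ, four_mul _ _ (Perm.mem_alternatingGroup.mp π.2) (Perm.mem_alternatingGroup.mp ρ.2) hπ hρ,
      (altHom hω ρ)⁻¹ * q * altHom hω ρ * r, mul_mem ?_ hr, ?_⟩
    · exact (Subgroup.mem_normalizer_iff''.mp (altHom_normalises hω ρ) q).mp hq
    · rw [map_mul]; group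
  inv_mem' := by
    rintro _ ⟨π, hπ, q, hq, rfl⟩
    refine ⟨π⁻¹, ?_, altHom hω π * q⁻¹ * (altHom hω π)⁻¹,
      (Subgroup.mem_normalizer_iff.mp (altHom_normalises hω π) _).mp (inv_mem hq), ?_⟩
    · have h2 : π.1 * π.1 = 1 := by
        simp only [inFour, Bool.and_eq_true, decide_eq_true_eq] at hπ; exact hπ.1
      rw [Subgroup.coe_inv, inv_eq_of_mul_eq_one_right h2]; exact hπ
    · rw [map_inv]; group

theorem SJ_le_CJ : SJ hω ≤ CJ hω := by
  rintro _ ⟨π, -, q, hq, rfl⟩
  exact mul_mem (altHom_mem_CJ hω π) (QJ_le_CJ hω hq)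

theorem QJ_le_SJ : QJ hω ≤ SJ hω := fun q hq => ⟨1, by decide, q, hq, by simp⟩

include hω in
theorem card_SJ (hF : Fintype.card F = 4) : Nat.card (SJ hω) = 128 := by
  classical
  let V := {π : alternatingGroup (Fin 5) // inFour π.1 = true}
  have hV : Nat.card V = 4 := by
    rw [← four_card, ← Fintype.card_coe, ← Nat.card_eq_fintype_card]
    exact Nat.card_congr
      { toFun := fun a => ⟨a.1.1, Finset.mem_filter.mpr ⟨Finset.mem_univ _, Perm.mem_alternatingGroup.mp a.1.2, a.2⟩⟩
        invFun := fun b => ⟨⟨b.1, Perm.mem_alternatingGroup.mpr (Finset.mem_filter.mp b.2).2.1⟩,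
          (Finset.mem_filter.mp b.2).2.2⟩
        left_inv := fun a => rfl
        right_inv := fun b => rfl }
  let f : V × QJ hω → SJ hω := fun a => ⟨altHom hω a.1.1 * a.2.1, a.1.1, a.1.2, a.2.1, a.2.2, rfl⟩
  have hb : Function.Bijective f := by
    refine ⟨?_, fun ⟨x, π, hπ, q, hq, e⟩ => ⟨(⟨π, hπ⟩, ⟨q, hq⟩), Subtype.ext e.symm⟩⟩
    rintro ⟨⟨π, hπ⟩, q⟩ ⟨⟨ρ, hρ⟩, r⟩ h
    have h1 : altHom hω π * q.1 = altHom hω ρ * r.1 := congrArg Subtype.val h
    have h2 : altHom hω (ρ⁻¹ * π) ∈ QJ hω := by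
      have : altHom hω (ρ⁻¹ * π) = r.1 * q.1⁻¹ := by
        rw [map_mul, map_inv, eq_mul_inv_iff_mul_eq, mul_assoc, h1, inv_mul_cancel_left]
      rw [this]; exact mul_mem r.2 (inv_mem q.2)
    obtain rfl : ρ = π := inv_mul_eq_one.mp (altHom_mem_QJ hω hF _ h2)
    exact Prod.ext rfl (Subtype.ext (mul_left_cancel h1))
  rw [← Nat.card_eq_of_bijective f hb, Nat.card_prod, hV, card_QJ hω hF]

include hω in
theorem SJ_invol_conj (hF : Fintype.card F = 4) {x : Cfsg.Spor.J3 F ω} (hx : x ∈ SJ hω) (h2 : orderOf x = 2) :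
    ∃ g : Cfsg.Spor.J3 F ω, g * x * g⁻¹ = tJ hω := by
  obtain ⟨π, hπ, q, hq, rfl⟩ := hx
  obtain ⟨i, hi, rfl⟩ := (mem_QJ hω).mp hq
  have hc := four_codes π.1 (Perm.mem_alternatingGroup.mp π.2) hπ
  have hlist : altOf π.1 ++ qList.getD i [] ∈ sylList := by
    refine List.mem_flatMap.mpr ⟨permCode π.1, hc, List.mem_map.mpr ⟨qList.getD i [], ?_, rfl⟩⟩
    have hl : i < qList.length := by rw [q_basic.1]; exact hi
    rw [List.getD_eq_getElem _ _ hl]; exact List.getElem_mem hl
  obtain ⟨j, hj, hje⟩ := List.mem_iff_getElem.mp hlist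
  have h := List.all_eq_true.mp syl_invols j (List.mem_range.mpr (syl_letters ▸ hj))
  rw [List.getD_eq_getElem _ _ hj, hje] at h
  simp only [Bool.and_eq_true, Bool.or_eq_true, Bool.not_eq_true'] at h
  obtain ⟨hl, h⟩ := h
  have hxe : altHom hω π * qe hω i = eJ hω (altOf π.1 ++ qList.getD i []) := (eJ_append hω _ _).symm
  rw [hxe] at h2 ⊢
  rcases h with (h | h) | h
  · rw [same3_sound hω h, eJ_nil, orderOf_one] at h2; norm_num at h2
  · exfalso
    refine ne_of_same3_false hω hF ?_ rfl h ?_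
    · simp only [lettersOK, List.all_append, Bool.and_eq_true] at hl ⊢; exact ⟨hl, hl⟩
    · rw [eJ_append, eJ_nil, ← pow_two, ← h2, pow_orderOf_eq_one]
  · refine ⟨eJ hω (sylConj.getD j []), mul_inv_eq_iff_eq_mul.mpr ?_⟩
    have := same3_sound hω h.2
    rw [eJ_append, eJ_cons] at this
    exact this

include hω in
/-- One class of involutions. -/
theorem invol_conj (hF : Fintype.card F = 4) {x : Cfsg.Spor.J3 F ω} (hx : orderOf x = 2) :
    ∃ g : Cfsg.Spor.J3 F ω, g * x * g⁻¹ = tJ hω := by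
  haveI : Fact (Nat.Prime 2) := ⟨Nat.prime_two⟩
  have hfac : Nat.card (SJ hω) = 2 ^ (Nat.card (Cfsg.Spor.J3 F ω)).factorization 2 := by
    rw [card_SJ hω hF, card_J3 hω hF,
      show (50232960 : ℕ) = 2 ^ 7 * 392445 by norm_num,
      Nat.factorization_mul (by norm_num) (by norm_num), Finsupp.add_apply,
      Nat.Prime.factorization_pow Nat.prime_two, Finsupp.single_eq_same,
      Nat.factorization_eq_zero_of_not_dvd (by norm_num : ¬ 2 ∣ 392445)]
    norm_num
  have hP : IsPGroup 2 (Subgroup.zpowers x) := IsPGroup.of_card (n := 1) (by rw [Nat.card_zpowers, hx, pow_one])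
  obtain ⟨T, hT⟩ := hP.exists_le_sylow
  obtain ⟨g, hg⟩ := MulAction.exists_smul_eq (Cfsg.Spor.J3 F ω) T (Sylow.ofCard (SJ hω) hfac)
  have hgx : g * x * g⁻¹ ∈ SJ hω := by
    have h1 : g * x * g⁻¹ ∈ ((g • T : Sylow 2 (Cfsg.Spor.J3 F ω)) : Subgroup (Cfsg.Spor.J3 F ω)) := by
      rw [Sylow.coe_subgroup_smul]
      exact Subgroup.mem_map.mpr ⟨x, hT (Subgroup.mem_zpowers x), rfl⟩
    rw [hg] at h1
    simpa [Sylow.coe_ofCard] using h1
  obtain ⟨k, hk⟩ := SJ_invol_conj hω hF hgx (by
    rw [← hx]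
    exact orderOf_injective (MulAut.conj g).toMonoidHom (MulAut.conj g).injective x)
  exact ⟨k * g, by rw [← hk]; group⟩

end

end Cfsg.Lib.Spor.J3
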