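import Cfsg.Agent.Spor.J3.SubData

/-!
A subgroup generated by words is covered by certified cosets of a smaller one.
-/

set_option autoImplicit false
set_option Elab.async false

namespace Cfsg.Lib.Spor.J3

open Cfsg.Spor

/-- Flatten a list of indices into a word. -/
def flatIdx (gp : List (List ℕ)) (ks : List ℕ) : List ℕ := ks.flatMap fun i => gp.getD i []

/-- Certificate check for one step of a chain. -/
def coverOK (gp gs R : List (List ℕ)) (cert : List (List (ℕ × List ℕ))) : Bool :=
  R.head? == some [] && (List.range gs.length).all fun a => (List.range R.length).all fun b =>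
    let e := (cert.getD a []).getD b (0, [])
    decide (e.1 < R.length) && e.2.all (fun i => decide (i < gp.length)) &&
      eqw (gs.getD a [] ++ R.getD b []) (R.getD e.1 [] ++ flatIdx gp e.2)

/-- All products of a representative with a listed word. -/
def prodList (R W : List (List ℕ)) : List (List ℕ) := R.flatMap fun r => W.map fun w => r ++ w

section
variable {F : Type*} [Field F] [Fintype F] [CharP F 2] {ω : F} (hω : ω ^ 2 + ω + 1 = 0)

/-- The subgroup generated by the elements of some words. -/
def genBy (gs : List (List ℕ)) : Subgroup (GL F9 F) := Subgroup.closure {x | ∃ g ∈ gs, x = wd hω g}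

theorem wd_mem_genBy {gs : List (List ℕ)} {g : List ℕ} (h : g ∈ gs) : wd hω g ∈ genBy hω gs :=
  Subgroup.subset_closure ⟨g, h, rfl⟩

theorem flatIdx_mem {gp : List (List ℕ)} {ks : List ℕ} (h : ∀ i ∈ ks, i < gp.length) :
    wd hω (flatIdx gp ks) ∈ genBy hω gp := by
  induction ks with
  | nil => exact one_mem _
  | cons i ks ih =>
    simp only [flatIdx, List.flatMap_cons, wd_append]
    refine mul_mem (wd_mem_genBy hω ?_) (ih fun j hj => h j (List.mem_cons_of_mem _ hj))
    rw [List.getD_eq_getElem _ _ (h i List.mem_cons_self)]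
    exact List.getElem_mem _

/-- A certified step of the chain. -/
theorem cover_sound {gp gs R : List (List ℕ)} {cert : List (List (ℕ × List ℕ))}
    (h : coverOK gp gs R cert = true) {x : GL F9 F} (hx : x ∈ genBy hω gs) :
    ∃ r ∈ R, ∃ k ∈ genBy hω gp, x = wd hω r * k := by
  simp only [coverOK, Bool.and_eq_true, beq_iff_eq, List.all_eq_true, List.mem_range, decide_eq_true_eq] at h
  obtain ⟨h0, hstep⟩ := h
  have hnil : [] ∈ R := List.mem_of_mem_head? (Option.mem_def.mpr h0)
  rw [genBy, ← Subgroup.mem_toSubmonoid, Subgroup.closure_toSubmonoid_of_finite] at hx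
  induction hx using Submonoid.closure_induction_left with
  | one => exact ⟨[], hnil, 1, one_mem _, by simp⟩
  | mul_left g hg y hy ih =>
    obtain ⟨gw, hgw, rfl⟩ := hg
    obtain ⟨r, hr, k, hk, rfl⟩ := ih
    obtain ⟨a, ha, rfl⟩ := List.mem_iff_getElem.mp hgw
    obtain ⟨b, hb, rfl⟩ := List.mem_iff_getElem.mp hr
    obtain ⟨⟨h1, h2⟩, h3⟩ := hstep a ha b hb
    have h3' := eqw_sound hω h3
    rw [List.getD_eq_getElem _ _ ha, List.getD_eq_getElem _ _ hb, List.getD_eq_getElem _ _ h1] at h3'
    refine ⟨_, List.getElem_mem h1, _, mul_mem (flatIdx_mem hω h2) hk, ?_⟩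
    rw [← mul_assoc, ← wd_append, h3', wd_append, mul_assoc]

/-- Listing a subgroup step by step. -/
theorem listed_step {gp gs R W : List (List ℕ)} {cert : List (List (ℕ × List ℕ))}
    (h : coverOK gp gs R cert = true) (hW : ∀ x ∈ genBy hω gp, ∃ w ∈ W, x = wd hω w) :
    ∀ x ∈ genBy hω gs, ∃ w ∈ prodList R W, x = wd hω w := by
  intro x hx
  obtain ⟨r, hr, k, hk, rfl⟩ := cover_sound hω h hx
  obtain ⟨w, hw, rfl⟩ := hW k hk
  exact ⟨r ++ w, List.mem_flatMap.mpr ⟨r, hr, List.mem_map.mpr ⟨w, hw, rfl⟩⟩, (wd_append hω r w).symm⟩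

theorem listed_nil : ∀ x ∈ genBy hω [], ∃ w ∈ ([[]] : List (List ℕ)), x = wd hω w := by
  intro x hx
  have : x = 1 := by simpa [genBy] using hx
  exact ⟨[], List.mem_singleton_self _, by simp [this]⟩

theorem card_le_of_listed {K : Subgroup (GL F9 F)} {W : List (List ℕ)}
    (hW : ∀ x ∈ K, ∃ w ∈ W, x = wd hω w) : Nat.card K ≤ W.length := by
  have hf : Function.Surjective fun i : {i : Fin W.length // wd hω W[i] ∈ K} => (⟨wd hω W[i.1], i.2⟩ : K) := by
    rintro ⟨x, hx⟩
    obtain ⟨w, hw, rfl⟩ := hW x hx
    obtain ⟨i, hi, rfl⟩ := List.mem_iff_getElem.mp hw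
    exact ⟨⟨⟨i, hi⟩, hx⟩, rfl⟩
  refine (Nat.card_le_card_of_surjective _ hf).trans ?_
  exact (Nat.card_le_card_of_injective Subtype.val Subtype.val_injective).trans (by simp)

end

/-- A number coding packed columns. -/
def colsKey (c : List ℕ) : ℕ := c.foldl (fun a v => a * 262144 + v) 0

/-- Strictly increasing. -/
def incrFrom : ℕ → List ℕ → Bool
  | _, [] => true
  | a, b :: l => decide (a < b) && incrFrom b l

/-- The listed words have increasing keys in the given order. -/
def distinctOK (W : List (List ℕ)) (perm : List ℕ) : Bool :=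
  (perm.all fun i => decide (i < W.length) && lettersOK (W.getD i [])) &&
    match perm.map fun i => colsKey (wcols (W.getD i [])) with
    | [] => true
    | a :: l => incrFrom a l

theorem nodup_of_incrFrom : ∀ {a : ℕ} {l : List ℕ}, incrFrom a l = true → (a :: l).Nodup ∧ ∀ b ∈ l, a < b
  | _, [], _ => by simp
  | a, b :: l, h => by
    simp only [incrFrom, Bool.and_eq_true, decide_eq_true_eq] at h
    obtain ⟨hn, hlt⟩ := nodup_of_incrFrom h.2
    have hall : ∀ c ∈ b :: l, a < c := by
      intro c hc
      rcases List.mem_cons.mp hc with rfl | hc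
      · exact h.1
      · exact h.1.trans (hlt c hc)
    exact ⟨List.nodup_cons.mpr ⟨fun hm => lt_irrefl _ (hall a hm), hn⟩, hall⟩

section
variable {F : Type*} [Field F] [Fintype F] [CharP F 2] {ω : F} (hω : ω ^ 2 + ω + 1 = 0)

theorem vec_inj {u v : ℕ} (hu : u < 262144) (hv : v < 262144) (h : vec ω u = vec ω v)
    (hphi : ∀ a b a' b', phi ω a b = phi ω a' b' → a = a' ∧ b = b') : u = v := by
  refine Nat.eq_of_testBit_eq fun i => ?_
  by_cases hi : i < 18
  · have hz : ∃ z : F9, i = idx z ∨ i = 9 + idx z := by
      interval_cases i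
      all_goals decide
    obtain ⟨z, hz | hz⟩ := hz <;> subst hz
    · exact (hphi _ _ _ _ (congrFun h z)).1
    · exact (hphi _ _ _ _ (congrFun h z)).2
  · rw [Nat.testBit_eq_false_of_lt (hu.trans_le ?_), Nat.testBit_eq_false_of_lt (hv.trans_le ?_)] <;>
      exact le_trans (by norm_num) (Nat.pow_le_pow_right (by norm_num) (not_lt.mp hi))

include hω in
theorem phi_inj {a b a' b' : Bool} (h : phi ω a b = phi ω a' b') : a = a' ∧ b = b' := by
  have h0 : ω ≠ 0 := fun e => by rw [e] at hω; simp at hω
  have h1 : ω ≠ 1 := fun e => by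
    rw [e] at hω
    have : (1 : F) = 0 := by linear_combination hω - CharTwo.add_self_eq_zero (1 : F)
    exact one_ne_zero this
  have h2 : (1 : F) + ω ≠ 0 := fun e => h1 (by linear_combination e - CharTwo.add_self_eq_zero (1 : F))
  have h3 : (1 : F) + ω ≠ 1 := fun e => h0 (by linear_combination e)
  have h4 : (1 : F) + ω ≠ ω := fun e => one_ne_zero (show (1 : F) = 0 by linear_combination e)
  cases a <;> cases b <;> cases a' <;> cases b' <;>
    simp [phi, h0, h1, h2, h3, h4, h0.symm, h1.symm, h2.symm, h3.symm, h4.symm] at h ⊢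

theorem look_lt (T x : ℕ) : look T x < 2 ^ 18 := Nat.mod_lt _ (by norm_num)

theorem stepVec_lt (k v : ℕ) : stepVec k v < 262144 :=
  Nat.xor_lt_two_pow (Nat.xor_lt_two_pow (look_lt _ _) (look_lt _ _)) (look_lt _ _)

theorem wcols_lt (w : List ℕ) : ∀ v ∈ wcols w, v < 262144 := by
  cases w with
  | nil => decide
  | cons k w =>
    intro v hv
    obtain ⟨u, -, rfl⟩ := List.mem_map.mp hv
    exact stepVec_lt k u

include hω in
theorem wcols_eq_of_wd_eq {w u : List ℕ} (hw : lettersOK w = true) (hu : lettersOK u = true)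
    (h : wd hω w = wd hω u) : wcols w = wcols u := by
  refine List.ext_getElem (by rw [wcols_length, wcols_length]) fun i h1 h2 => ?_
  have hm := congrArg (fun g : GL F9 F => (g : Matrix F9 F9 F)) h
  simp only [coe_wd hω hw, coe_wd hω hu] at hm
  have hi : i < 9 := by rw [wcols_length] at h1; exact h1
  obtain ⟨z, rfl⟩ : ∃ z : F9, idx z = i := by interval_cases i <;> decide
  refine vec_inj (wcols_lt w _ (List.getElem_mem h1)) (wcols_lt u _ (List.getElem_mem h2)) (funext fun y => ?_)
    (fun _ _ _ _ => phi_inj hω)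
  have := congrFun (congrFun hm y) z
  simpa [toM, List.getD_eq_getElem?_getD, List.getElem?_eq_getElem h1, List.getElem?_eq_getElem h2] using this

include hω in
/-- A lower bound for a subgroup from listed distinct members. -/
theorem le_card_of_distinct {K : Subgroup (GL F9 F)} {W : List (List ℕ)} {perm : List ℕ}
    (hd : distinctOK W perm = true) (hmem : ∀ w ∈ W, wd hω w ∈ K) : perm.length ≤ Nat.card K := by
  simp only [distinctOK, Bool.and_eq_true, List.all_eq_true, decide_eq_true_eq] at hd
  obtain ⟨hp, hinc⟩ := hd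
  have hn : (perm.map fun i => colsKey (wcols (W.getD i []))).Nodup := by
    revert hinc
    cases perm.map fun i => colsKey (wcols (W.getD i [])) with
    | nil => intro; exact List.nodup_nil
    | cons a l => exact fun h => (nodup_of_incrFrom h).1
  let f : Fin perm.length → K := fun i => ⟨wd hω (W.getD perm[i] []), hmem _ (by
    have hb := (hp perm[i] (List.getElem_mem i.2)).1
    rw [List.getD_eq_getElem _ _ hb]; exact List.getElem_mem _)⟩
  have hf : Function.Injective f := by
    intro i j hij
    have hv : wd hω (W.getD perm[i] []) = wd hω (W.getD perm[j] []) := congrArg Subtype.val hij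
    have hc := wcols_eq_of_wd_eq hω (hp _ (List.getElem_mem i.2)).2 (hp _ (List.getElem_mem j.2)).2 hv
    have := (List.Nodup.getElem_inj_iff hn (i := i.val) (hi := by simp) (j := j.val) (hj := by simp)).mp
      (by simp only [List.getElem_map]; exact congrArg colsKey hc)
    exact Fin.ext this
  have := Nat.card_le_card_of_injective f hf
  simpa using this

end

end Cfsg.Lib.Spor.J3
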