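import Cfsg.Agent.Spor.J3.Words

/-!
Words for the generators and for the atoms.
-/

set_option autoImplicit false

namespace Cfsg.Lib.Spor.J3

/-- Words and columns for the generators of one kind, by the index of the parameter. -/
def wordsA : List (List ℕ × List ℕ) := [
  ([], [1, 2, 4, 8, 16, 32, 64, 128, 256]),
  ([1], [1, 1024, 2052, 8, 8192, 16416, 64, 65536, 131328]),
  ([2], [1, 1026, 2048, 8, 8208, 16384, 64, 65664, 131072]),
  ([3], [1, 2, 4, 4096, 8192, 16384, 32832, 65664, 131328]),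
  ([4], [1, 1024, 2052, 4096, 8208, 32, 32832, 128, 131072]),
  ([5], [1, 1026, 2048, 4096, 16, 16416, 32832, 65536, 256]),
  ([6], [1, 2, 4, 4104, 8208, 16416, 32768, 65536, 131072]),
  ([7], [1, 1024, 2052, 4104, 16, 16384, 32768, 65664, 256]),
  ([8], [1, 1026, 2048, 4104, 8192, 32, 32768, 128, 131328])]

/-- Words and columns for the generators of one kind, by the index of the parameter. -/
def wordsE : List (List ℕ × List ℕ) := [
  ([18], [1, 1024, 2048, 4096, 8208, 16416, 32768, 65664, 131328]),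
  ([18, 1, 21], [512, 2, 2048, 4104, 8192, 16416, 32832, 65536, 131328]),
  ([18, 2, 21], [512, 1024, 4, 4104, 8208, 16384, 32832, 65664, 131072]),
  ([18, 3, 21], [512, 1026, 2052, 8, 8192, 16384, 32768, 65664, 131328]),
  ([18, 4, 22], [513, 1024, 2052, 4096, 16, 16384, 32832, 65536, 131328]),
  ([18, 5, 22], [513, 1026, 2048, 4096, 8192, 32, 32832, 65664, 131072]),
  ([18, 6, 21], [512, 1026, 2052, 4096, 8208, 16416, 64, 65536, 131072]),
  ([18, 7, 22], [513, 1024, 2052, 4104, 8192, 16416, 32768, 128, 131072]),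
  ([18, 8, 22], [513, 1026, 2048, 4104, 8208, 16384, 32768, 65536, 256])]

/-- Words and columns for the generators of one kind, by the index of the parameter. -/
def wordsD : List (List ℕ × List ℕ) := [
  ([], [1, 2, 4, 8, 16, 32, 64, 128, 256]),
  ([24, 10, 18, 8, 21, 16, 18, 1, 22], [2, 4, 1, 16, 16416, 8, 128, 131072, 64]),
  ([25, 11, 15], [4, 1, 2, 32, 8, 8192, 256, 64, 65664]),
  ([26], [8, 16, 32, 64, 65536, 131328, 1, 2, 4]),
  ([27, 10, 16], [16, 32, 4096, 128, 256, 64, 1026, 4, 1]),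
  ([28, 12, 14], [32, 4104, 16, 256, 64, 128, 2048, 1, 2]),
  ([29, 1, 2], [64, 128, 256, 1, 2, 4, 8, 8208, 16384]),
  ([30, 10, 19, 21, 16, 19, 22], [128, 256, 32832, 1024, 4, 1, 16, 32, 8]),
  ([31, 10, 1, 16, 7], [256, 32768, 128, 2052, 1, 2, 32, 8, 16])]

/-- Words and columns for the generators of one kind, by the index of the parameter. -/
def wordsB : List (List ℕ × List ℕ) := [
  ([], []),
  ([15], [1, 64, 8, 2, 128, 16, 4, 256, 32]),
  ([11], [1, 8, 64, 4, 32, 256, 2, 16, 128]),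
  ([], [1, 2, 4, 8, 16, 32, 64, 128, 256]),
  ([10], [1, 128, 32, 16, 4, 64, 256, 8, 2]),
  ([12], [1, 16, 256, 32, 64, 2, 128, 4, 8]),
  ([13], [1, 4, 2, 64, 256, 128, 8, 32, 16]),
  ([16], [1, 256, 16, 128, 8, 4, 32, 2, 64]),
  ([14], [1, 32, 128, 256, 2, 8, 16, 64, 4])]

/-- Words and columns for the generators of one kind, by the index of the parameter. -/
def wordsC : List (List ℕ × List ℕ) := [
  ([], []),
  ([32, 11], [1, 70, 14, 76, 176, 400, 74, 304, 416]),
  ([32, 15], [1, 14, 70, 74, 416, 304, 76, 400, 176]),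
  ([32], [1, 74, 76, 70, 304, 176, 14, 416, 400]),
  ([32, 16], [1, 400, 304, 416, 70, 76, 176, 74, 14]),
  ([32, 14], [1, 176, 416, 400, 74, 70, 304, 14, 76]),
  ([32, 13], [1, 76, 74, 14, 400, 416, 70, 176, 304]),
  ([32, 10], [1, 416, 176, 304, 76, 14, 400, 70, 74]),
  ([32, 12], [1, 304, 400, 176, 14, 74, 416, 76, 70])]

/-- Each monomial atom as a word in five of them. -/
def baseWords : List (List ℕ) := [
  [],
  [1],
  [1, 1],
  [3],
  [1, 3],
  [1, 1, 3],
  [3, 3],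
  [1, 3, 3],
  [1, 1, 3, 3],
  [],
  [10],
  [10, 10],
  [10, 10, 10],
  [10, 10, 10, 10],
  [10, 10, 10, 10, 10],
  [10, 10, 10, 10, 10, 10],
  [10, 10, 10, 10, 10, 10, 10],
  [],
  [18],
  [18, 18],
  [],
  [26, 26, 3, 26, 1, 1, 3, 3],
  [26, 3, 26, 26, 1, 1, 3, 3],
  [],
  [10, 10, 10, 10, 10, 10, 26, 10, 10],
  [10, 10, 26, 10, 10, 10, 10, 10, 10],
  [26],
  [10, 26, 10, 10, 10, 10, 10, 10, 10],
  [10, 10, 10, 26, 10, 10, 10, 10, 10],
  [26, 26, 1, 1],
  [10, 10, 10, 10, 10, 10, 10, 26, 10],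
  [10, 10, 10, 10, 10, 26, 10, 10, 10]]

end Cfsg.Lib.Spor.J3
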