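import Cfsg.Agent.Spor.J3.GenData

/-!
The group of the definitions is generated by six of the atoms.
-/

set_option autoImplicit false
set_option Elab.async false

namespace Cfsg.Lib.Spor.J3

open Cfsg.Spor Matrix

/-- Bits of a power of the root of unity. -/
def bitsPow (n : ZMod 3) : Bool × Bool := (decide (n ≠ 1), decide (n ≠ 0))

/-- Bits of the entries of the five kinds of generators. -/
def bitsA (Z w z : F9) : Bool × Bool := if w = z then bitsPow (Z.1 * z.1 + Z.2 * z.2) else (false, false)

/-- Bits for the second kind. -/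
def bitsE (Z w z : F9) : Bool × Bool :=
  if w = z then bitsPow ((Z.1 - z.1) ^ 2 + (Z.2 - z.2) ^ 2) else (false, false)

/-- Bits for the translations. -/
def bitsD (Z w z : F9) : Bool × Bool :=
  if w = z + Z then
    if z = 0 then (true, false)
    else if F9.div Z z = F9.I - F9.one then (false, true)
    else if F9.div Z z = -F9.I - F9.one then (true, true)
    else (true, false)
  else (false, false)

/-- Bits for the dilations. -/
def bitsB (Z w z : F9) : Bool × Bool := (decide (w = F9.mul Z z), false)

/-- Bits for the last kind. -/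
def bitsC (Z w z : F9) : Bool × Bool :=
  if z = 0 then (decide (w = 0), false)
  else (decide (w = -F9.div Z z ∨ w = F9.mul F9.I (F9.div Z z) ∨ w = -F9.mul F9.I (F9.div Z z)), false)

/-- All points of the index set. -/
def allF9 : List F9 := [(0,0),(0,1),(0,2),(1,0),(1,1),(1,2),(2,0),(2,1),(2,2)]

/-- A word realises a generator. -/
def genOK (bits : F9 → F9 → F9 → Bool × Bool) (data : List (List ℕ × List ℕ)) (Z : F9) : Bool :=
  let d := data.getD (idx Z) ([], [])
  lettersOK d.1 && wcols d.1 == d.2 &&
    allF9.all fun z => allF9.all fun w =>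
      (bits Z w z).1 == (d.2.getD (idx z) 0).testBit (idx w) &&
        (bits Z w z).2 == (d.2.getD (idx z) 0).testBit (9 + idx w)

theorem mem_allF9 (z : F9) : z ∈ allF9 := by revert z; decide

theorem genA_ok : allF9.all (genOK bitsA wordsA) = true := by decide +kernel
theorem genE_ok : allF9.all (genOK bitsE wordsE) = true := by decide +kernel
theorem genD_ok : allF9.all (genOK bitsD wordsD) = true := by decide +kernel
theorem genB_ok : (allF9.filter fun Z => decide (Z ≠ 0)).all (genOK bitsB wordsB) = true := by decide +kernel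
theorem genC_ok : (allF9.filter fun Z => decide (Z ≠ 0)).all (genOK bitsC wordsC) = true := by decide +kernel

/-- The atoms that generate. -/
def gens6 : List ℕ := [3, 1, 10, 18, 26, 32]

/-- Rewrite a word into the six generators. -/
def expand (w : List ℕ) : List ℕ := w.flatMap fun k => if k = 32 then [32] else baseWords.getD k []

theorem base_ok : (List.range 32).all (fun k => eqw [k] (baseWords.getD k []) &&
    (baseWords.getD k []).all (fun i => decide (i ∈ gens6))) = true := by decide +kernel

section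
variable {F : Type*} [Field F] [CharP F 2] {ω : F} (hω : ω ^ 2 + ω + 1 = 0)

include hω in
theorem omegaPow_eq (n : ZMod 3) : omegaPow F ω n = phi ω (bitsPow n).1 (bitsPow n).2 := by
  have hn : n = 0 ∨ n = 1 ∨ n = 2 := by revert n; decide
  rcases hn with rfl | rfl | rfl
  · simp [omegaPow, bitsPow, phi, show (0 : ZMod 3).val = 0 from rfl]
  · simp [omegaPow, bitsPow, phi, show (1 : ZMod 3).val = 1 from rfl,
      show (1 : ZMod 3) ≠ 0 by decide]
  · rw [omegaPow, show (2 : ZMod 3).val = 2 from rfl, show bitsPow 2 = (true, true) from rfl, sq, omega_sq hω]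
    simp [phi]

include hω in
theorem wd_of_genOK {bits : F9 → F9 → F9 → Bool × Bool} {data : List (List ℕ × List ℕ)} {Z : F9}
    {M : Matrix F9 F9 F} (h : genOK bits data Z = true)
    (hM : ∀ w z, M w z = phi ω (bits Z w z).1 (bits Z w z).2) :
    (wd hω (data.getD (idx Z) ([], [])).1 : Matrix F9 F9 F) = M := by
  simp only [genOK, Bool.and_eq_true, List.all_eq_true, beq_iff_eq] at h
  rw [coe_wd hω h.1.1, h.1.2]
  ext w z
  obtain ⟨h1, h2⟩ := h.2 z (mem_allF9 z) w (mem_allF9 w)
  simp only [toM, Matrix.of_apply, vec, hM, h1, h2]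

include hω in
theorem exists_word_of_mem_j3Gens {M : Matrix F9 F9 F} (h : M ∈ j3Gens F ω) :
    ∃ w : List ℕ, lettersOK w = true ∧ (wd hω w : Matrix F9 F9 F) = M := by
  have hp : ∀ p : Prop, ∀ [Decidable p], phi ω (decide p) false = if p then 1 else 0 := by
    intro p _; by_cases hp : p <;> simp [phi, hp]
  have hl : ∀ {bits data Z}, genOK bits data Z = true → lettersOK (data.getD (idx Z) ([], [])).1 = true := by
    intro bits data Z h; simp only [genOK, Bool.and_eq_true] at h; exact h.1.1
  have hz : ∀ {Z : F9}, Z ≠ 0 → Z ∈ allF9.filter fun Z => decide (Z ≠ 0) := fun {Z} hZ =>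
    List.mem_filter.mpr ⟨mem_allF9 Z, by simpa using hZ⟩
  rcases h with (((⟨Z, rfl⟩ | ⟨Z, rfl⟩) | ⟨Z, rfl⟩) | ⟨Z, hZ, rfl⟩) | ⟨Z, hZ, rfl⟩
  · have hc := List.all_eq_true.mp genA_ok Z (mem_allF9 Z)
    refine ⟨_, hl hc, wd_of_genOK hω hc fun w z => ?_⟩
    by_cases he : w = z
    · subst he; simp [j3A, bitsA, omegaPow_eq hω]
    · simp [j3A, bitsA, he, Matrix.diagonal_apply_ne _ he, phi]
  · have hc := List.all_eq_true.mp genE_ok Z (mem_allF9 Z)
    refine ⟨_, hl hc, wd_of_genOK hω hc fun w z => ?_⟩
    by_cases he : w = z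
    · subst he; simp [j3E, bitsE, omegaPow_eq hω]
    · simp [j3E, bitsE, he, Matrix.diagonal_apply_ne _ he, phi]
  · have hc := List.all_eq_true.mp genD_ok Z (mem_allF9 Z)
    refine ⟨_, hl hc, wd_of_genOK hω hc fun w z => ?_⟩
    simp only [j3D, Matrix.of_apply, j3Lam, bitsD]
    split_ifs <;> simp [phi, sq, omega_sq hω]
  · have hc := List.all_eq_true.mp genB_ok Z (hz hZ)
    refine ⟨_, hl hc, wd_of_genOK hω hc fun w z => ?_⟩
    simp only [j3B, Matrix.of_apply, bitsB, hp]
  · have hc := List.all_eq_true.mp genC_ok Z (hz hZ)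
    refine ⟨_, hl hc, wd_of_genOK hω hc fun w z => ?_⟩
    simp only [j3C, Matrix.of_apply, bitsC]
    split_ifs <;> simp_all [phi]

include hω in
theorem gens6_mem {k : ℕ} (hk : k ∈ gens6) : at' hω k ∈ threeJ3 F ω := by
  refine Subgroup.subset_closure ?_
  have hd : ∀ (bits : F9 → F9 → F9 → Bool × Bool) (Z : F9) (M : Matrix F9 F9 F),
      (allF9.all fun z => allF9.all fun w =>
        (bits Z w z).1 == ((atomCols.getD k []).getD (idx z) 0).testBit (idx w) &&
        (bits Z w z).2 == ((atomCols.getD k []).getD (idx z) 0).testBit (9 + idx w)) = true →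
      k < 33 → (∀ w z, M w z = phi ω (bits Z w z).1 (bits Z w z).2) → (at' hω k : Matrix F9 F9 F) = M := by
    intro bits Z M h hk hM
    simp only [List.all_eq_true, Bool.and_eq_true, beq_iff_eq] at h
    rw [coe_at hω hk]
    ext w z
    obtain ⟨h1, h2⟩ := h z (mem_allF9 z) w (mem_allF9 w)
    simp only [toM, Matrix.of_apply, vec, hM, h1, h2]
  have hA : ∀ Z : F9, ∀ w z, j3A F ω Z w z = phi ω (bitsA Z w z).1 (bitsA Z w z).2 := by
    intro Z w z
    by_cases he : w = z
    · subst he; simp [j3A, bitsA, omegaPow_eq hω]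
    · simp [j3A, bitsA, he, Matrix.diagonal_apply_ne _ he, phi]
  simp only [gens6, List.mem_cons, List.not_mem_nil, or_false] at hk
  rw [Set.mem_setOf_eq]
  rcases hk with rfl | rfl | rfl | rfl | rfl | rfl
  · exact Or.inl (Or.inl (Or.inl (Or.inl ⟨(1, 0), (hd bitsA (1, 0) _ (by decide +kernel) (by norm_num) (hA _)).symm⟩)))
  · exact Or.inl (Or.inl (Or.inl (Or.inl ⟨(0, 1), (hd bitsA (0, 1) _ (by decide +kernel) (by norm_num) (hA _)).symm⟩)))
  · refine Or.inl (Or.inr ⟨(1, 1), by decide, hd bitsB (1, 1) _ (by decide +kernel) (by norm_num) fun w z => ?_⟩)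
    by_cases he : w = F9.mul (1, 1) z <;> simp [j3B, bitsB, he, phi]
  · refine Or.inl (Or.inl (Or.inl (Or.inr ⟨0, (hd bitsE 0 _ (by decide +kernel) (by norm_num) fun w z => ?_).symm⟩)))
    by_cases he : w = z
    · subst he; simp [j3E, bitsE, omegaPow_eq hω]
    · simp [j3E, bitsE, he, Matrix.diagonal_apply_ne _ he, phi]
  · refine Or.inl (Or.inl (Or.inr ⟨(1, 0), (hd bitsD (1, 0) _ (by decide +kernel) (by norm_num) fun w z => ?_).symm⟩))
    simp only [j3D, Matrix.of_apply, j3Lam, bitsD]
    split_ifs <;> simp [phi, sq, omega_sq hω]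
  · refine Or.inr ⟨(1, 0), by decide, hd bitsC (1, 0) _ (by decide +kernel) (by norm_num) fun w z => ?_⟩
    simp only [j3C, Matrix.of_apply, bitsC]
    split_ifs <;> simp_all [phi]

include hω in
theorem wd_mem {w : List ℕ} (h : lettersOK w = true) : wd hω w ∈ threeJ3 F ω := by
  induction w with
  | nil => exact one_mem _
  | cons k w ih =>
    simp only [lettersOK, List.all_cons, Bool.and_eq_true, decide_eq_true_eq] at h
    rw [wd_cons]
    refine mul_mem ?_ (ih h.2)
    rcases Nat.lt_or_ge k 32 with hk | hk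
    · have hb := List.all_eq_true.mp base_ok k (List.mem_range.mpr hk)
      simp only [Bool.and_eq_true, List.all_eq_true, decide_eq_true_eq] at hb
      rw [show at' hω k = wd hω [k] by simp [wd], eqw_sound hω hb.1, wd]
      refine list_prod_mem fun x hx => ?_
      obtain ⟨i, hi, rfl⟩ := List.mem_map.mp hx
      exact gens6_mem hω (hb.2 i hi)
    · obtain rfl : k = 32 := by omega
      exact gens6_mem hω (by decide)

include hω in
theorem threeJ3_eq : threeJ3 F ω = Subgroup.closure ((fun k => at' hω k) '' {k | k ∈ gens6}) := by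
  refine le_antisymm ((Subgroup.closure_le _).mpr fun g hg => ?_) ((Subgroup.closure_le _).mpr ?_)
  · obtain ⟨w, hw, he⟩ := exists_word_of_mem_j3Gens hω hg
    obtain rfl : wd hω w = g := Units.ext he
    clear he hg
    induction w with
    | nil => exact one_mem _
    | cons k w ih =>
      simp only [lettersOK, List.all_cons, Bool.and_eq_true, decide_eq_true_eq] at hw
      rw [wd_cons]
      refine mul_mem ?_ (ih hw.2)
      rcases Nat.lt_or_ge k 32 with hk | hk
      · have hb := List.all_eq_true.mp base_ok k (List.mem_range.mpr hk)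
        simp only [Bool.and_eq_true, List.all_eq_true, decide_eq_true_eq] at hb
        rw [show at' hω k = wd hω [k] by simp [wd], eqw_sound hω hb.1, wd]
        refine list_prod_mem fun x hx => ?_
        obtain ⟨i, hi, rfl⟩ := List.mem_map.mp hx
        exact Subgroup.subset_closure ⟨i, hb.2 i hi, rfl⟩
      · obtain rfl : k = 32 := by omega
        exact Subgroup.subset_closure ⟨32, by decide, rfl⟩
  · rintro _ ⟨k, hk, rfl⟩
    exact gens6_mem hω hk

end

end Cfsg.Lib.Spor.J3
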