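import Cfsg.Agent.Spor.J3.OrbitData

/-!
The monomial orbits of isotropic lines.
-/

set_option autoImplicit false
set_option Elab.async false

namespace Cfsg.Lib.Spor.J3

theorem isoPts_eq : isoPts = isoWords.map fun t => wvec t isoBase := by decide +kernel

theorem isoWords_letters : isoWords.all lettersOK = true := by decide +kernel

theorem iso_sum : (∀ i : Fin 29, 0 < isoStabs.getD i 0 ∧ isoStabs.getD i 0 ∣ 5832) ∧
    ∑ i : Fin 29, 5832 / isoStabs.getD i 0 = 43605 := by decide +kernel

theorem isoOrbit_ok0 : (List.range' 0 10).all (orbitOK isoPts isoStabs) = true := by decide +kernel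
theorem isoOrbit_ok1 : (List.range' 10 10).all (orbitOK isoPts isoStabs) = true := by decide +kernel
theorem isoOrbit_ok2 : (List.range' 20 9).all (orbitOK isoPts isoStabs) = true := by decide +kernel

theorem isoOrbit_ok (i : Fin 29) : orbitOK isoPts isoStabs i = true := by
  rcases Nat.lt_or_ge (i : ℕ) 10 with h | h
  · exact List.all_eq_true.mp isoOrbit_ok0 i (List.mem_range'_1.mpr ⟨by omega, by omega⟩)
  rcases Nat.lt_or_ge (i : ℕ) 20 with h' | h'
  · exact List.all_eq_true.mp isoOrbit_ok1 i (List.mem_range'_1.mpr ⟨by omega, by omega⟩)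
  · exact List.all_eq_true.mp isoOrbit_ok2 i (List.mem_range'_1.mpr ⟨by omega, by omega⟩)

end Cfsg.Lib.Spor.J3
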