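import Cfsg.Agent.Spor.J3.Lower
import Cfsg.Agent.Spor.J3.OrbitCertIso

/-!
The isotropic lines form one orbit.
-/

set_option autoImplicit false
set_option Elab.async false

namespace Cfsg.Lib.Spor.J3

open Cfsg.Spor Matrix Finset

/-- A field with four elements has characteristic two. -/
theorem charP_two_of_card_four {F : Type*} [Field F] [Fintype F] (hF : Fintype.card F = 4) : CharP F 2 := by
  have h4 : ((4 : ℕ) : F) = 0 := by rw [← hF]; exact Nat.cast_card_eq_zero F
  have h2 : (2 : F) = 0 := by
    have : (2 : F) * 2 = 0 := by rw [← h4]; norm_num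
    rcases mul_eq_zero.mp this with h | h <;> exact h
  exact CharTwo.of_one_ne_zero_of_two_eq_zero one_ne_zero h2

section
variable {F : Type*} [Field F] [Fintype F] [CharP F 2] {ω : F} (hω : ω ^ 2 + ω + 1 = 0)

/-- The isotropic condition. -/
def IsIso (v : F9 → F) : Prop := v ≠ 0 ∧ ∑ z, (v z) ^ 3 = 0

theorem cube_eq (hF : Fintype.card F = 4) [DecidableEq F] (x : F) : x ^ 3 = if x = 0 then 0 else 1 := by
  split_ifs with h
  · simp [h]
  · simpa [hF] using FiniteField.pow_card_sub_one_eq_one x h

include hω in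
theorem card_isotropic_le (hF : Fintype.card F = 4) :
    {v : F9 → F | IsIso v}.ncard ≤ 130815 := by
  classical
  have h0 : ∑ x : F, (if x = 0 then (1 : ℤ) else -1) = -2 := by
    rw [← Finset.add_sum_erase _ _ (Finset.mem_univ (0 : F)), if_pos rfl,
      Finset.sum_congr rfl (g := fun _ => (-1 : ℤ)) (fun x hx => if_neg (Finset.ne_of_mem_erase hx)),
      Finset.sum_const, Finset.card_erase_of_mem (Finset.mem_univ _), Finset.card_univ, hF]
    norm_num
  have hs : ∑ v : F9 → F, ∏ z, (if v z = 0 then (1 : ℤ) else -1) = -512 := by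
    have := Finset.prod_univ_sum (fun _ : F9 => (Finset.univ : Finset F)) (fun _ x => if x = 0 then (1 : ℤ) else -1)
    rw [Fintype.piFinset_univ] at this
    rw [← this]
    simp [h0]
  have hv : ∀ v : F9 → F, ∏ z, (if v z = 0 then (1 : ℤ) else -1) =
      if (∑ z, (v z) ^ 3 = 0) then 1 else -1 := by
    intro v
    have hsum : ∑ z, (v z) ^ 3 = ((univ.filter fun z => v z ≠ 0).card : F) := by
      simp only [cube_eq hF, Finset.sum_ite, Finset.sum_const_zero, zero_add, Finset.sum_const, nsmul_one]
    have hp : ∏ z, (if v z = 0 then (1 : ℤ) else -1) = (-1) ^ (univ.filter fun z => v z ≠ 0).card := by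
      simp [Finset.prod_ite]
    rw [hsum, hp]
    rcases Nat.even_or_odd (univ.filter fun z => v z ≠ 0).card with he | ho
    · rw [he.neg_one_pow, if_pos]
      exact (CharP.cast_eq_zero_iff F 2 _).mpr he.two_dvd
    · rw [ho.neg_one_pow, if_neg]
      exact fun h => (Nat.not_even_iff_odd.mpr ho) (even_iff_two_dvd.mpr ((CharP.cast_eq_zero_iff F 2 _).mp h))
  have htot : Fintype.card (F9 → F) = 262144 := by
    rw [Fintype.card_fun, hF]; simp
  set A := univ.filter fun v : F9 → F => ∑ z, (v z) ^ 3 = 0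
  have hA : (A.card : ℤ) = 130816 := by
    have h1 : ∑ v : F9 → F, (if (∑ z, (v z) ^ 3 = 0) then (1 : ℤ) else -1) = -512 := by
      rw [← hs]; exact Finset.sum_congr rfl fun v _ => (hv v).symm
    rw [Finset.sum_ite, Finset.sum_const, Finset.sum_const] at h1
    have h2 := Finset.card_filter_add_card_filter_not (s := (univ : Finset (F9 → F)))
      (fun v => ∑ z, (v z) ^ 3 = 0)
    rw [Finset.card_univ, htot] at h2
    simp only [nsmul_eq_mul, mul_one, mul_neg_one] at h1
    change (A.card : ℤ) + _ = _ at h1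
    change A.card + _ = _ at h2
    omega
  have hz : (0 : F9 → F) ∈ A := by simp [A]
  refine le_trans (Set.ncard_le_ncard (t := ((A.erase 0 : Finset (F9 → F)) : Set (F9 → F))) (fun v hv => ?_)
    (Set.toFinite _)) ?_
  · obtain ⟨h1, h2⟩ := hv
    simp [A, h1, h2]
  · rw [Set.ncard_coe_finset, Finset.card_erase_of_mem hz]; omega

/-- The vectors on the lines of the orbit of the base isotropic vector. -/
def isoOrbitVecs : Set (F9 → F) :=
  {v | ∃ g ∈ threeJ3 F ω, LineRel v ((g : Matrix F9 F9 F) *ᵥ vec ω isoBase)}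

theorem isoWords_length : isoWords.length = 29 := by decide +kernel

include hω in
theorem base_is_isotropic (hF : Fintype.card F = 4) : IsIso (vec ω isoBase) := by
  classical
  have hb : ∀ z : F9, (isoBase.testBit (idx z), isoBase.testBit (9 + idx z)) ≠ (false, false) ↔
      z = (1, 0) ∨ z = (2, 0) := by decide +kernel
  have hne : ∀ z : F9, vec ω isoBase z ≠ 0 ↔ z = (1, 0) ∨ z = (2, 0) := by
    intro z
    rw [← hb z]
    refine not_congr ⟨fun h => ?_, fun h => ?_⟩
    · have := phi_inj hω (a' := false) (b' := false) (h.trans (by simp [phi]))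
      exact Prod.ext this.1 this.2
    · simp only [Prod.mk.injEq] at h
      simp [vec, phi, h.1, h.2]
  refine ⟨fun h => (hne (1, 0)).mpr (Or.inl rfl) (congrFun h _), ?_⟩
  rw [Fintype.sum_eq_add (1, 0) (2, 0) (by decide) fun z hz => by
    rw [cube_eq hF, if_pos (not_not.mp fun h => by rcases (hne z).mp h with rfl | rfl <;> simp at hz)]]
  rw [cube_eq hF, cube_eq hF, if_neg ((hne _).mpr (Or.inl rfl)), if_neg ((hne _).mpr (Or.inr rfl))]
  exact CharTwo.add_self_eq_zero 1

include hω in
theorem isoOrbit_lower (hF : Fintype.card F = 4) : 130815 ≤ (isoOrbitVecs (ω := ω)).ncard := by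
  classical
  set O := lineOrb (threeJ3 F ω) (vec ω isoBase)
  have hO : 43605 ≤ O.ncard := by
    refine le_trans iso_sum.2.ge (orbit_lower hω hF (n := 29) (P := isoPts) (N := isoStabs) (by decide +kernel)
      isoOrbit_ok (fun i => (iso_sum.1 i).1) fun i => ?_)
    rintro L ⟨g, hg, rfl⟩
    have hi : (i : ℕ) < isoWords.length := by rw [isoWords_length]; exact i.2
    have ht := List.all_eq_true.mp isoWords_letters _ (List.getElem_mem hi)
    refine ⟨g * wd hω isoWords[(i : ℕ)], mul_mem (subM_le hω hg) (wd_mem hω ht), ?_⟩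
    simp only [isoPts_eq, List.getD_eq_getElem?_getD, List.getElem?_map, List.getElem?_eq_getElem hi,
      Option.map_some, Option.getD_some, vec_wvec hω ht, Matrix.mulVec_mulVec, Units.val_mul]
  let f : O × {c : F // c ≠ 0} → isoOrbitVecs (ω := ω) := fun p =>
    ⟨p.2.1 • ((p.1.2.choose : Matrix F9 F9 F) *ᵥ vec ω isoBase),
      _, p.1.2.choose_spec.1, p.2.1, p.2.2, rfl⟩
  have hf : Function.Injective f := by
    rintro ⟨a, c⟩ ⟨b, d⟩ h
    have hv := congrArg Subtype.val h
    have ha : a = b := by
      refine Subtype.ext ?_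
      rw [← a.2.choose_spec.2, ← b.2.choose_spec.2]
      refine span_eq_iff.mpr ⟨d.1⁻¹ * c.1, mul_ne_zero (inv_ne_zero d.2) c.2, ?_⟩
      rw [← smul_smul]
      exact (inv_smul_eq_iff₀ d.2).mpr hv |>.symm
    subst ha
    refine Prod.ext rfl (Subtype.ext (smul_left_injective F ?_ hv))
    intro h0
    have hu : IsUnit (a.2.choose : Matrix F9 F9 F) := Units.isUnit _
    exact (base_is_isotropic hω hF).1 ((Matrix.mulVec_injective_iff_isUnit.mpr hu) (h0.trans (Matrix.mulVec_zero _).symm))
  have h := Nat.card_le_card_of_injective f hf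
  rw [Nat.card_prod, Nat.card_coe_set_eq, Nat.card_coe_set_eq, Nat.card_eq_fintype_card (α := {c : F // c ≠ 0}),
    Fintype.card_subtype_compl, Fintype.card_subtype_eq, hF] at h
  omega

end

end Cfsg.Lib.Spor.J3
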