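import Cfsg.Agent.Spor.J3.Upper

/-!
Lines, their stabilisers, and checks that count orbits of the monomial group on lines.
-/

set_option autoImplicit false
set_option Elab.async false

namespace Cfsg.Lib.Spor.J3

open Cfsg.Spor Matrix

/-- The three nonzero multiples of a packed vector. -/
def multiples (v : ℕ) : List ℕ := [v, stepVec 21 v, stepVec 22 v]

/-- Two packed vectors span the same line. -/
def sameLine (u v : ℕ) : Bool := (multiples v).any fun a => u == a

/-- A bit set of a list. -/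
def bitset : List ℕ → ℕ
  | [] => 0
  | a :: l => 2 ^ a ||| bitset l

theorem testBit_bitset : ∀ {l : List ℕ} {a : ℕ}, a ∈ l → (bitset l).testBit a = true
  | b :: l, a, h => by
    rw [bitset, Nat.testBit_or, Bool.or_eq_true]
    rcases List.mem_cons.mp h with rfl | h
    · exact Or.inl Nat.testBit_two_pow_self
    · exact Or.inr (testBit_bitset h)

/-- The images of a vector under the listed monomial elements. -/
def monoImages (p : ℕ) : List ℕ :=
  repsM.flatMap fun r => (wordsM0.map fun w => wvec w p).map fun v => wvec r v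

/-- The orbit of one representative is large and misses the later representatives. -/
def orbitOK (P N : List ℕ) (i : ℕ) : Bool :=
  let p := P.getD i 0
  let ms := multiples p
  let bad := bitset ((P.drop (i + 1)).flatMap multiples)
  let im := monoImages p
  decide (p < 262144) && decide (p ≠ 0) &&
    decide ((im.filter fun v => ms.any fun a => v == a).length ≤ N.getD i 0) && im.all fun v => !bad.testBit v

theorem monoImages_eq (p : ℕ) : monoImages p = (prodList repsM wordsM0).map fun w => wvec w p := by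
  simp [monoImages, prodList, List.map_flatMap, List.map_map, Function.comp_def, wvec, List.foldr_append]

theorem scalar_bits : ∀ w z : F9,
    ((atomCols.getD 21 []).getD (idx z) 0).testBit (idx w) = false ∧
    ((atomCols.getD 21 []).getD (idx z) 0).testBit (9 + idx w) = decide (w = z) ∧
    ((atomCols.getD 22 []).getD (idx z) 0).testBit (idx w) = decide (w = z) ∧
    ((atomCols.getD 22 []).getD (idx z) 0).testBit (9 + idx w) = decide (w = z) := by decide +kernel

section
variable {F : Type*} [Field F] [Fintype F] [CharP F 2] {ω : F} (hω : ω ^ 2 + ω + 1 = 0)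

include hω in
omit [Fintype F] in
theorem omega_ne_zero : ω ≠ 0 := fun e => by rw [e] at hω; simp at hω

theorem coe_scalar : (at' hω 21 : Matrix F9 F9 F) = ω • 1 ∧ (at' hω 22 : Matrix F9 F9 F) = (ω * ω) • 1 := by
  constructor <;>
  · ext w z
    obtain ⟨h1, h2, h3, h4⟩ := scalar_bits w z
    rw [coe_at hω (by norm_num)]
    simp only [toM, Matrix.of_apply, vec, phi, h1, h2, h3, h4, omega_sq hω, Matrix.smul_apply, Matrix.one_apply]
    by_cases e : w = z <;> simp [e]

theorem coe_stepVec {k : ℕ} (hk : k < 33) (v : ℕ) :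
    vec ω (stepVec k v) = (at' hω k : Matrix F9 F9 F) *ᵥ vec ω v := by
  have := vec_wvec hω (w := [k]) (by simp [lettersOK, hk]) v
  simpa [wvec, wd] using this

include hω in
theorem vec_multiples (v : ℕ) : vec ω (stepVec 21 v) = ω • vec ω v ∧ vec ω (stepVec 22 v) = (ω * ω) • vec ω v := by
  rw [coe_stepVec hω (by norm_num), coe_stepVec hω (by norm_num), (coe_scalar hω).1, (coe_scalar hω).2]
  simp [Matrix.smul_mulVec]

/-- Two vectors span the same line. -/
def LineRel (x y : F9 → F) : Prop := ∃ c : F, c ≠ 0 ∧ x = c • y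

theorem LineRel.symm' {x y : F9 → F} (h : LineRel x y) : LineRel y x := by
  obtain ⟨c, hc, rfl⟩ := h
  exact ⟨c⁻¹, inv_ne_zero hc, (inv_smul_smul₀ hc y).symm⟩

include hω in
theorem lineRel_of_sameLine {u v : ℕ} (h : sameLine u v = true) : LineRel (vec ω u) (vec ω v) := by
  simp only [sameLine, multiples, List.any_cons, List.any_nil, Bool.or_false, Bool.or_eq_true, beq_iff_eq] at h
  have h0 := omega_ne_zero hω
  rcases h with rfl | rfl | rfl
  · exact ⟨1, one_ne_zero, (one_smul _ _).symm⟩
  · exact ⟨ω, h0, (vec_multiples hω v).1⟩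
  · exact ⟨ω * ω, mul_ne_zero h0 h0, (vec_multiples hω v).2⟩

include hω in
theorem sameLine_of_lineRel (hF : Fintype.card F = 4) {u v : ℕ} (hu : u < 262144) (hv : v < 262144)
    (h : LineRel (vec ω u) (vec ω v)) : sameLine u v = true := by
  classical
  obtain ⟨c, hc, he⟩ := h
  have h0 := omega_ne_zero hω
  have h1 : ω ≠ 1 := fun e => by
    have h2 := omega_sq hω
    rw [e, one_mul, CharTwo.add_self_eq_zero] at h2
    exact one_ne_zero h2
  have hu' : c ∈ ({0, 1, ω, ω * ω} : Finset F) := by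
    have hcard : ({0, 1, ω, ω * ω} : Finset F).card = 4 := by
      have h2 : ω * ω ≠ 1 := fun e => h0 (by rw [omega_sq hω] at e; simpa using e)
      have h3 : ω * ω ≠ ω := fun e => h1 (mul_left_cancel₀ h0 (by rw [e, mul_one]))
      simp [Finset.card_insert_of_notMem, h0, h0.symm, h1, h1.symm, h2, h2.symm, h3, h3.symm]
    rw [Finset.eq_univ_of_card _ (hcard.trans hF.symm)]
    exact Finset.mem_univ c
  have hlt : ∀ k, stepVec k v < 262144 := fun k => stepVec_lt k v
  simp only [Finset.mem_insert, Finset.mem_singleton, hc, false_or] at hu'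
  simp only [sameLine, multiples, List.any_cons, List.any_nil, Bool.or_false, Bool.or_eq_true, beq_iff_eq]
  rcases hu' with rfl | rfl | rfl
  · exact Or.inl (vec_inj hu hv (by simpa using he) fun _ _ _ _ => phi_inj hω)
  · exact Or.inr (Or.inl (vec_inj hu (hlt 21) (he.trans (vec_multiples hω v).1.symm) fun _ _ _ _ => phi_inj hω))
  · exact Or.inr (Or.inr (vec_inj hu (hlt 22) (he.trans (vec_multiples hω v).2.symm) fun _ _ _ _ => phi_inj hω))

/-- The stabiliser of a line. -/
def lineStab (x : F9 → F) : Subgroup (GL F9 F) where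
  carrier := {g | LineRel ((g : Matrix F9 F9 F) *ᵥ x) x}
  one_mem' := ⟨1, one_ne_zero, by simp⟩
  mul_mem' := by
    rintro g g' ⟨c, hc, he⟩ ⟨d, hd, he'⟩
    refine ⟨d * c, mul_ne_zero hd hc, ?_⟩
    rw [Units.val_mul, ← Matrix.mulVec_mulVec, he', Matrix.mulVec_smul, he, smul_smul]
  inv_mem' := by
    rintro g ⟨c, hc, he⟩
    refine ⟨c⁻¹, inv_ne_zero hc, ?_⟩
    have := congrArg (fun y => ((g⁻¹ : GL F9 F) : Matrix F9 F9 F) *ᵥ y) he
    simp only [Matrix.mulVec_mulVec, ← Units.val_mul, inv_mul_cancel, Units.val_one, Matrix.one_mulVec,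
      Matrix.mulVec_smul] at this
    conv_rhs => rw [this]
    rw [inv_smul_smul₀ hc]

/-- The images of a line under a subgroup. -/
def lineOrb (K : Subgroup (GL F9 F)) (x : F9 → F) : Set (Submodule F (F9 → F)) :=
  (fun g : GL F9 F => F ∙ ((g : Matrix F9 F9 F) *ᵥ x)) '' (K : Set (GL F9 F))

theorem span_eq_iff {x y : F9 → F} : (F ∙ x) = (F ∙ y) ↔ LineRel y x := by
  rw [Submodule.span_singleton_eq_span_singleton]
  constructor
  · rintro ⟨z, rfl⟩; exact ⟨z, z.ne_zero, rfl⟩
  · rintro ⟨c, hc, rfl⟩; exact ⟨Units.mk0 c hc, rfl⟩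

theorem mem_lineStab_inv_mul {g h : GL F9 F} {x : F9 → F}
    (e : LineRel ((h : Matrix F9 F9 F) *ᵥ x) ((g : Matrix F9 F9 F) *ᵥ x)) : g⁻¹ * h ∈ lineStab x := by
  obtain ⟨c, hc, he⟩ := e
  refine ⟨c, hc, ?_⟩
  rw [Units.val_mul, ← Matrix.mulVec_mulVec, he, Matrix.mulVec_smul, Matrix.mulVec_mulVec, ← Units.val_mul,
    inv_mul_cancel, Units.val_one, Matrix.one_mulVec]

/-- Orbit times stabiliser. -/
theorem card_eq_orb_mul_stab (K : Subgroup (GL F9 F)) (x : F9 → F) :
    Nat.card K = (lineOrb K x).ncard * Nat.card ↥(K ⊓ lineStab x) := by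
  set I := (K ⊓ lineStab x).subgroupOf K
  rw [Subgroup.card_eq_card_quotient_mul_card_subgroup I,
    Nat.card_congr (Subgroup.subgroupOfEquivOfLe (inf_le_left : K ⊓ lineStab x ≤ K)).toEquiv,
    ← Nat.card_coe_set_eq]
  congr 1
  refine Nat.card_eq_of_bijective (Quotient.lift
    (fun g : K => (⟨_, Set.mem_image_of_mem _ g.2⟩ : lineOrb K x)) ?_) ⟨?_, ?_⟩
  · intro g h hgh
    have hm : (g⁻¹ * h : K) ∈ I := QuotientGroup.leftRel_apply.mp hgh
    obtain ⟨c, hc, he⟩ := (Subgroup.mem_inf.mp (Subgroup.mem_subgroupOf.mp hm)).2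
    refine Subtype.ext (span_eq_iff.mpr ⟨c, hc, ?_⟩)
    have := congrArg (fun y => ((g : GL F9 F) : Matrix F9 F9 F) *ᵥ y) he
    simp only [Subgroup.coe_mul, Subgroup.coe_inv, Matrix.mulVec_mulVec, ← Units.val_mul, mul_inv_cancel_left,
      Matrix.mulVec_smul] at this
    exact this
  · rintro ⟨g⟩ ⟨h⟩ e
    refine Quotient.sound (QuotientGroup.leftRel_apply.mpr (Subgroup.mem_subgroupOf.mpr ?_))
    exact ⟨(g⁻¹ * h : K).2, mem_lineStab_inv_mul (span_eq_iff.mp (congrArg Subtype.val e))⟩
  · rintro ⟨_, g, hg, rfl⟩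
    exact ⟨Quotient.mk _ ⟨g, hg⟩, rfl⟩

end

end Cfsg.Lib.Spor.J3
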