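import Cfsg.Agent.Spor.J3.Cosets

/-!
The monomial subgroup of order 5832 and the stabiliser of the first line, as listed subgroups.
-/

set_option autoImplicit false
set_option Elab.async false

namespace Cfsg.Lib.Spor.J3

open Cfsg.Spor

/-- Generators of the diagonal and dilation part. -/
def gM0 : List (List ℕ) := [[3], [1], [10], [18], [21]]
/-- Generators of the monomial group. -/
def gMono : List (List ℕ) := [[3], [1], [10], [18], [21], [26]]
/-- Generators of the point stabiliser. -/
def gH0 : List (List ℕ) := [[3], [1], [10], [18], [21], [32]]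

/-- The list of the 648 elements. -/
def wordsM0 : List (List ℕ) := prodList repsB (prodList repsE (prodList repsA (prodList repsS [[]])))

theorem coverS_ok : coverOK [] [[21]] repsS certS = true := by decide +kernel
theorem coverA_ok : coverOK [[21]] [[3], [1], [21]] repsA certA = true := by decide +kernel
theorem coverE_ok : coverOK [[3], [1], [21]] [[3], [1], [21], [18]] repsE certE = true := by decide +kernel
theorem coverB_ok : coverOK [[3], [1], [21], [18]] gM0 repsB certB = true := by decide +kernel
theorem coverM_ok : coverOK gM0 gMono repsM certM = true := by decide +kernel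
theorem coverH_ok : coverOK gM0 gH0 repsH certH = true := by decide +kernel

theorem lengths_ok : wordsM0.length = 648 ∧ repsM.length = 9 ∧ repsH.length = 10 ∧ sortM0.length = 648 := by
  decide +kernel

theorem distinctM0_ok : distinctOK wordsM0 sortM0 = true := by decide +kernel

theorem m0Words_ok : (List.range 23).all (fun k => eqw [k] (m0Words.getD k []) &&
    (m0Words.getD k []).all (fun i => decide ([i] ∈ gM0))) = true := by decide +kernel

theorem wordsM0_letters : wordsM0.all (fun w => w.all fun k => decide (k < 23)) = true := by decide +kernel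

theorem baseWords_mono : (List.range 32).all (fun k => (baseWords.getD k []).all fun i => decide ([i] ∈ gMono)) =
    true := by decide +kernel

section
variable {F : Type*} [Field F] [Fintype F] [CharP F 2] {ω : F} (hω : ω ^ 2 + ω + 1 = 0)

/-- The diagonal and dilation part. -/
def subM0 : Subgroup (GL F9 F) := genBy hω gM0
/-- The monomial group. -/
def subM : Subgroup (GL F9 F) := genBy hω gMono
/-- The point stabiliser. -/
def subH : Subgroup (GL F9 F) := genBy hω gH0

theorem genBy_mono {gs gs' : List (List ℕ)} (h : ∀ g ∈ gs, g ∈ gs') : genBy hω gs ≤ genBy hω gs' :=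
  Subgroup.closure_mono fun _ ⟨g, hg, hx⟩ => ⟨g, h g hg, hx⟩

theorem subM0_le_subM : subM0 hω ≤ subM hω := genBy_mono hω (by decide)
theorem subM0_le_subH : subM0 hω ≤ subH hω := genBy_mono hω (by decide)

theorem subM_le : subM hω ≤ threeJ3 F ω := by
  refine (Subgroup.closure_le _).mpr ?_
  rintro _ ⟨g, hg, rfl⟩
  exact wd_mem hω (List.all_eq_true.mp (show gMono.all lettersOK = true by decide) g hg)

theorem subH_le : subH hω ≤ threeJ3 F ω := by
  refine (Subgroup.closure_le _).mpr ?_
  rintro _ ⟨g, hg, rfl⟩
  exact wd_mem hω (List.all_eq_true.mp (show gH0.all lettersOK = true by decide) g hg)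

theorem listedM0 : ∀ x ∈ subM0 hω, ∃ w ∈ wordsM0, x = wd hω w :=
  listed_step hω coverB_ok (listed_step hω coverE_ok (listed_step hω coverA_ok
    (listed_step hω coverS_ok (listed_nil hω))))

theorem wd_mem_subM0 {w : List ℕ} (h : ∀ k ∈ w, k < 23) : wd hω w ∈ subM0 hω := by
  induction w with
  | nil => exact one_mem _
  | cons k w ih =>
    rw [wd_cons]
    refine mul_mem ?_ (ih fun j hj => h j (List.mem_cons_of_mem _ hj))
    have hb := List.all_eq_true.mp m0Words_ok k (List.mem_range.mpr (h k List.mem_cons_self))
    simp only [Bool.and_eq_true, List.all_eq_true, decide_eq_true_eq] at hb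
    rw [show at' hω k = wd hω [k] by simp [wd], eqw_sound hω hb.1, wd]
    refine list_prod_mem fun x hx => ?_
    obtain ⟨i, hi, rfl⟩ := List.mem_map.mp hx
    rw [show at' hω i = wd hω [i] by simp [wd]]
    exact wd_mem_genBy hω (hb.2 i hi)

theorem wd_mem_subM {w : List ℕ} (h : ∀ k ∈ w, k < 32) : wd hω w ∈ subM hω := by
  induction w with
  | nil => exact one_mem _
  | cons k w ih =>
    rw [wd_cons]
    refine mul_mem ?_ (ih fun j hj => h j (List.mem_cons_of_mem _ hj))
    have hk := List.mem_range.mpr (h k List.mem_cons_self)
    have hb := List.all_eq_true.mp base_ok k hk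
    have hc := List.all_eq_true.mp baseWords_mono k hk
    simp only [Bool.and_eq_true, List.all_eq_true, decide_eq_true_eq] at hb hc
    rw [show at' hω k = wd hω [k] by simp [wd], eqw_sound hω hb.1, wd]
    refine list_prod_mem fun x hx => ?_
    obtain ⟨i, hi, rfl⟩ := List.mem_map.mp hx
    rw [show at' hω i = wd hω [i] by simp [wd]]
    exact wd_mem_genBy hω (hc i hi)

theorem card_subM0 : Nat.card (subM0 hω) = 648 := by
  refine le_antisymm (by simpa [lengths_ok.1] using card_le_of_listed hω (listedM0 hω)) ?_
  have h := le_card_of_distinct hω (K := subM0 hω) distinctM0_ok fun w hw => wd_mem_subM0 hω fun k hk => by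
    simpa using List.all_eq_true.mp (List.all_eq_true.mp wordsM0_letters w hw) k hk
  rwa [lengths_ok.2.2.2] at h

theorem prodList_length (R W : List (List ℕ)) : (prodList R W).length = R.length * W.length := by
  simp [prodList, List.length_flatMap, List.map_const', List.sum_replicate]

theorem listedM : ∀ x ∈ subM hω, ∃ w ∈ prodList repsM wordsM0, x = wd hω w :=
  listed_step hω coverM_ok (listedM0 hω)

theorem card_subM_le : Nat.card (subM hω) ≤ 5832 := by
  refine (card_le_of_listed hω (listedM hω)).trans_eq ?_
  rw [prodList_length, lengths_ok.2.1, lengths_ok.1]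

theorem card_subH_le : Nat.card (subH hω) ≤ 6480 := by
  refine (card_le_of_listed hω (listed_step hω coverH_ok (listedM0 hω))).trans_eq ?_
  rw [prodList_length, lengths_ok.2.2.1, lengths_ok.1]

end

end Cfsg.Lib.Spor.J3
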