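import Cfsg.Agent.Spor.J3.OrbitData

/-!
The monomial orbits inside the orbit of the first line.
-/

set_option autoImplicit false
set_option Elab.async false

namespace Cfsg.Lib.Spor.J3

theorem linePts_eq : linePts = repsT.map fun t => wvec t 1 := by decide +kernel

theorem repsT_letters : repsT.all lettersOK = true := by decide +kernel

theorem lineOrbit_ok0 : (List.range' 0 10).all (orbitOK linePts lineStabs) = true := by decide +kernel
theorem lineOrbit_ok1 : (List.range' 10 10).all (orbitOK linePts lineStabs) = true := by decide +kernel

theorem lineOrbit_ok (i : Fin 20) : orbitOK linePts lineStabs i = true := by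
  rcases Nat.lt_or_ge (i : ℕ) 10 with h | h
  · exact List.all_eq_true.mp lineOrbit_ok0 i (List.mem_range'_1.mpr ⟨by omega, by omega⟩)
  · exact List.all_eq_true.mp lineOrbit_ok1 i (List.mem_range'_1.mpr ⟨by omega, by omega⟩)

end Cfsg.Lib.Spor.J3
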