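import Cfsg.Agent.Spor.J3.Lines

/-!
Representatives of the orbits of the monomial group on two orbits of lines.
-/

set_option autoImplicit false

namespace Cfsg.Lib.Spor.J3

/-- Representatives in the first orbit. -/
def linePts : List ℕ := [1, 74, 220, 319, 38234, 5590, 155663, 128490, 39382, 213063, 34034, 155967, 5520, 242848, 39154, 74220, 90575, 36287, 81779, 176045]

/-- Stabiliser orders in the first orbit. -/
def lineStabs : List ℕ := [648, 9, 6, 3, 3, 3, 3, 6, 3, 6, 6, 6, 6, 6, 3, 6, 6, 6, 6, 24]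

/-- Representatives of the isotropic lines. -/
def isoPts : List ℕ := [72, 36878, 15, 38378, 39312, 74144, 74109, 147707, 8078, 249178, 210090, 311, 183, 63, 221839, 177491, 240695, 52891, 129410, 249297, 120841, 193790, 62518, 74104, 159306, 133520, 28170, 212401, 24991]

/-- Stabiliser orders of the isotropic representatives. -/
def isoStabs : List ℕ := [54, 36, 3, 3, 3, 18, 6, 3, 3, 3, 3, 3, 3, 6, 6, 3, 3, 3, 3, 3, 3, 3, 3, 6, 3, 6, 6, 3, 24]

/-- A base isotropic vector. -/
def isoBase : ℕ := 72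

/-- Words reaching the isotropic representatives. -/
def isoWords : List (List ℕ) := [
  [],
  [32, 3],
  [32, 26],
  [32, 27],
  [32, 28],
  [32, 24, 3],
  [32, 24, 32, 3],
  [32, 25, 32, 3],
  [32, 26, 32, 3],
  [32, 27, 32, 3],
  [32, 28, 32, 3],
  [32, 24, 32, 26],
  [32, 25, 32, 26],
  [32, 29, 32, 26],
  [32, 25, 32, 27],
  [32, 27, 32, 27],
  [32, 28, 32, 27],
  [32, 29, 32, 27],
  [32, 31, 32, 27],
  [32, 27, 32, 28],
  [32, 28, 32, 28],
  [32, 30, 32, 28],
  [32, 26, 32, 24, 3],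
  [32, 25, 32, 25, 3],
  [32, 24, 32, 26, 3],
  [32, 24, 32, 27, 3],
  [32, 28, 32, 27, 3],
  [32, 24, 32, 28, 3],
  [32, 29, 1, 32, 26]]

end Cfsg.Lib.Spor.J3
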