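import Cfsg.Agent.Spor.J3.OutData

/-!
Checks for the automorphisms.
-/

set_option autoImplicit false
set_option Elab.async false

namespace Cfsg.Lib.Spor.J3

/-- All elements of the centraliser of the involution. -/
def centWords : List (List ℕ) := altTable.flatMap fun e => qList.map fun q => e.2 ++ q

/-- A quick test for being trivial: the test vectors keep their lines. -/
def quickOne (w : List ℕ) : Bool := outTypes.all fun v => sameLine (wvec w v) v

/-- A quick test for commuting. -/
def quickComm (w u : List ℕ) : Bool := outTypes.all fun v => sameLine (wvec (w ++ u) v) (wvec (u ++ w) v)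

/-- A repeated word. -/
def powW (n : ℕ) (w : List ℕ) : List ℕ := (List.replicate n w).flatten

/-- The two possible images of the first generator. -/
def fImg (i : ℕ) : List ℕ := powW (i + 1) outF

/-- The matching images of the second generator. -/
def gImg (i : ℕ) : List ℕ := if i = 0 then outG else outG2

/-- The conditions on the image of the second generator. -/
def gCond (i : ℕ) (h : List ℕ) : Bool :=
  let f := fImg i
  quickOne (h ++ h) && quickOne (powW 4 (f ++ h ++ (f ++ f ++ h))) &&
    quickOne (powW 5 (f ++ h ++ (f ++ h) ++ (f ++ f ++ h))) && !same3 (powW 6 (f ++ h)) []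

/-- Candidates are conjugate to the standard image by a power of the first generator. -/
def gCandOK (h : List ℕ) : Bool :=
  (List.range 2).all fun i => !gCond i h ||
    (List.range 5).any fun k => same3 (powW k outF ++ h) (gImg i ++ powW k outF)

theorem gCand_ok0 : (List.range' 0 640).all (fun j => gCandOK (centWords.getD j [])) = true := by decide +kernel
theorem gCand_ok1 : (List.range' 640 640).all (fun j => gCandOK (centWords.getD j [])) = true := by decide +kernel
theorem gCand_ok2 : (List.range' 1280 640).all (fun j => gCandOK (centWords.getD j [])) = true := by decide +kernel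

theorem centWords_length : centWords.length = 1920 := by decide +kernel

theorem cent_e16 : centWords.all (fun x => !(outE.all fun a => quickComm x a) ||
    outEAll.any fun e => same3 x e) = true := by decide +kernel

theorem out_letters : (lettersOK outF && lettersOK outG && lettersOK outG2 && lettersOK outN && lettersOK outNInv &&
    lettersOK outInvert && outE.all lettersOK && outEAll.all lettersOK) = true ∧
    outTypes.all (fun v => decide (v < 262144)) = true ∧ outE.head?.isSome = true ∧
    centWords.all lettersOK = true := by decide +kernel

theorem out_rel : (same3 (powW 5 outF) [] && !same3 outF [] && same3 (13 :: outF) (outF ++ [13]) &&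
    same3 (13 :: outG) (outG ++ [13]) && same3 (outInvert ++ outF) (powW 4 outF ++ outInvert) &&
    same3 (13 :: outInvert) (outInvert ++ [13]) && same3 (outN ++ outNInv) [] && same3 (outG ++ outG) [] &&
    same3 (powW 4 (outF ++ outG ++ (outF ++ outF ++ outG))) [] &&
    same3 (powW 5 (outF ++ outG ++ (outF ++ outG) ++ (outF ++ outF ++ outG))) [] &&
    !same3 (powW 6 (outF ++ outG)) []) = true := by decide +kernel

theorem out_e : (outE.any fun a => same3 a [13]) = true ∧
    (List.range outE.length).all (fun j => decide (outEImg.getD j 0 < outEAll.length) &&
    same3 (outN ++ outE.getD j []) (outEAll.getD (outEImg.getD j 0) [] ++ outN)) = true ∧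
    outEAll.all (fun e => same3 (13 :: e) (e ++ [13])) = true := by decide +kernel

theorem out_cwords : outCWords.length = qPos.length + 2 ∧
    outCWords.all (fun w => w.all fun i => decide (i < 2)) = true ∧
    (List.range qPos.length).all (fun k =>
      same3 (qGens.getD k []) (flatIdx [outF, outG] (outCWords.getD k []))) = true ∧
    ([0, 1] : List ℕ).all (fun c =>
      same3 (altOf (altGen c)) (flatIdx [outF, outG] (outCWords.getD (qPos.length + c) []))) = true := by
  decide +kernel

theorem out_gen : (List.range 6).all (fun j => (outGenWords.getD j []).all (fun i => decide (i < 3)) &&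
    same3 [gens6.getD j 0] (flatIdx [outF, outG, outN] (outGenWords.getD j []))) = true := by decide +kernel

theorem n_cands : outEAll.all (fun x =>
    !(quickOne (powW 19 (outF ++ (outN ++ x) ++ (outN ++ x))) && quickOne (powW 10 (outF ++ outF ++ (outN ++ x)))) ||
      same3 (outN ++ x) outN || same3 (outN ++ x) (13 :: outN ++ [13])) = true ∧
    same3 (powW 19 (outF ++ outN ++ outN)) [] = true ∧ same3 (powW 10 (outF ++ outF ++ outN)) [] = true := by
  decide +kernel

/-- Conjugation of coordinates on the index set. -/
def barIdx (z : Cfsg.Spor.F9) : Cfsg.Spor.F9 := (z.1, -z.2)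

/-- The field automorphism maps a generator to a word. -/
def thetaOK (j : ℕ) : Bool :=
  let w := outTheta.getD j []
  let c := wcols w
  let a := atomCols.getD (gens6.getD j 0) []
  lettersOK w && allF9.all fun z => allF9.all fun y =>
    let u := a.getD (idx (barIdx z)) 0
    let v := c.getD (idx z) 0
    (v.testBit (idx y) == (u.testBit (idx (barIdx y)) ^^ u.testBit (9 + idx (barIdx y)))) &&
      (v.testBit (9 + idx y) == u.testBit (9 + idx (barIdx y)))

theorem theta_ok : (List.range 6).all thetaOK = true := by decide +kernel

end Cfsg.Lib.Spor.J3
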