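import Cfsg.Agent.Spor.J3.CentFinal

/-!
Data for the automorphisms.
-/

set_option autoImplicit false

namespace Cfsg.Lib.Spor.J3

/-- An element of order five commuting with the involution. -/
def outF : List ℕ := [31, 13, 7, 32, 26, 32, 27, 32, 24, 1, 3, 32, 15, 18, 1]

/-- An involution completing a generating pair of the centraliser. -/
def outG : List ℕ := [28, 11, 19, 2, 21, 32, 26, 32, 27, 32, 24, 1, 32, 14, 18, 7]

/-- Its counterpart for the square of the first element. -/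
def outG2 : List ℕ := [29, 10, 19, 2, 21, 32, 29, 32, 27, 32, 24, 15, 19, 8, 22]

/-- A further generator. -/
def outN : List ℕ := [29, 5, 32, 26, 2, 32, 24, 10, 3, 32, 15, 7, 21]

/-- Its inverse. -/
def outNInv : List ℕ := [31, 14, 4, 21, 32, 29, 1, 32, 24, 32, 1, 3, 32, 4, 21]

/-- An element inverting the first generator. -/
def outInvert : List ℕ := [27, 12, 18, 8, 21, 32, 24, 32, 24, 10, 18, 7]

/-- The four generators of the elementary group. -/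
def outE : List (List ℕ) := [
  [13],
  [29, 10, 6, 32, 29, 32, 27, 32, 24, 10, 1, 32, 13, 18, 22],
  [31, 13, 19, 2, 21, 32, 26, 32, 27, 32, 24, 1, 32, 12, 18, 4],
  [32, 14, 18]]

/-- Its sixteen elements. -/
def outEAll : List (List ℕ) := [
  [13],
  [29, 10, 6, 32, 29, 32, 27, 32, 24, 10, 1, 32, 13, 18, 22],
  [29, 10, 6, 32, 29, 32, 27, 32, 24, 10, 1, 32, 18, 22],
  [],
  [31, 13, 19, 2, 21, 32, 26, 32, 27, 32, 24, 1, 32, 16, 18, 8],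
  [28, 11, 19, 2, 21, 32, 26, 32, 27, 32, 24, 1, 32, 14, 18, 7],
  [28, 11, 19, 2, 21, 32, 26, 32, 27, 32, 24, 1, 32, 10, 18, 5],
  [31, 13, 19, 2, 21, 32, 26, 32, 27, 32, 24, 1, 32, 12, 18, 4],
  [32, 10, 18],
  [29, 10, 6, 32, 29, 32, 27, 32, 24, 11, 4, 22],
  [29, 10, 6, 32, 29, 32, 27, 32, 24, 15, 8, 22],
  [32, 14, 18],
  [31, 13, 19, 2, 21, 32, 26, 32, 27, 32, 24, 1, 3, 32, 11, 2],
  [28, 11, 19, 2, 21, 32, 26, 32, 27, 32, 24, 1, 3, 32, 13, 3],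
  [28, 11, 19, 2, 21, 32, 26, 32, 27, 32, 24, 1, 3, 32, 6],
  [31, 13, 19, 2, 21, 32, 26, 32, 27, 32, 24, 1, 3, 32, 15, 1]]

/-- Positions of the conjugates. -/
def outEImg : List ℕ := [1, 2, 15, 7]

/-- Vectors used for quick tests. -/
def outTypes : List ℕ := [1, 67668]

/-- The generators of the centraliser as words in the pair. -/
def outCWords : List (List ℕ) := [
  [1, 0, 1, 0, 1, 0, 1, 0, 1, 0, 1, 0],
  [1, 0, 1, 0, 0, 1, 0, 1, 0, 0],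
  [1, 0, 1, 0, 0, 1, 0, 0, 1, 0, 1, 0, 0, 0],
  [0, 1, 0, 0, 1, 0, 0, 1, 0, 1, 0, 0, 0, 1],
  [1, 0, 0, 0, 1, 0, 1, 0, 0, 1, 0, 0, 1, 0],
  [1, 0, 1, 0, 1, 0, 0, 1, 0, 1, 0],
  [0, 1, 0, 1, 0, 1, 0, 0, 1, 0, 1, 0]]

/-- The six generators as words in the three. -/
def outGenWords : List (List ℕ) := [
  [0, 2, 0, 0, 0, 0, 1, 2, 0, 0, 2, 0, 0, 0, 0, 1, 0],
  [1, 0, 0, 0, 0, 1, 0, 0, 0, 0, 2, 2, 0, 0, 1, 0, 2, 0, 0, 0, 0, 2, 0, 0, 0, 0],
  [2, 2, 0, 0, 0, 0, 1, 0, 0, 2, 2, 0, 0],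
  [0, 2, 0, 0, 0, 0, 1, 0, 0, 2, 0, 0, 0, 0, 1, 0],
  [0, 0, 2, 0, 0, 0, 0, 0, 0, 0, 0, 2, 2, 0, 0, 0, 0, 2, 1, 0, 1, 2, 2, 0, 0, 0, 0, 0, 0, 0, 0],
  [1, 0, 0, 2, 2, 0, 1, 0, 0, 0, 0, 0, 0, 0, 0, 1, 2, 2, 0, 0, 0, 0]]

/-- Images of the six generators under the field automorphism. -/
def outTheta : List (List ℕ) := [
  [6],
  [1],
  [12],
  [19],
  [26],
  [32]]

/-- The scalar as a word in the six generators. -/
def outThetaScalar : List ℕ := []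

end Cfsg.Lib.Spor.J3
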