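import Cfsg.Agent.Spor.J3.OutCert
import Cfsg.Prelude.Def_KGroupFacts

/-!
The outer automorphism group of the third Janko group has order two.
-/

set_option autoImplicit false
set_option Elab.async false

namespace Cfsg.Lib.Spor.J3

open Cfsg.Spor Matrix

section
variable {F : Type*} [Field F] [Fintype F] [CharP F 2] {ω : F} (hω : ω ^ 2 + ω + 1 = 0)

theorem eJ_pow (n : ℕ) (w : List ℕ) : eJ hω (powW n w) = eJ hω w ^ n := by
  induction n with
  | zero => simp [powW, eJ_nil]
  | succ n ih =>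
    rw [pow_succ', ← ih, ← eJ_append]
    simp [powW, List.replicate_succ]

theorem quick_of_eq (hF : Fintype.card F = 4) {w u : List ℕ} (hw : lettersOK w = true) (hu : lettersOK u = true)
    (h : eJ hω w = eJ hω u) {v : ℕ} (hv : v < 262144) : sameLine (wvec w v) (wvec u v) = true := by
  refine sameLine_of_lineRel hω hF (wvec_lt hv) (wvec_lt hv) ?_
  rw [vec_wvec hω hw, vec_wvec hω hu]
  have hm : gel hω w * (gel hω u)⁻¹ ∈ Subgroup.center (threeJ3 F ω) := by
    rw [← QuotientGroup.eq_one_iff]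
    show QuotientGroup.mk' (Subgroup.center (threeJ3 F ω)) (gel hω w * (gel hω u)⁻¹) = 1
    rw [map_mul, map_inv, mul_inv_eq_one]
    exact h
  obtain ⟨c, hc, hcc⟩ := center_scalar hω hm
  refine ⟨c, hc, ?_⟩
  have hval : (wd hω w : Matrix F9 F9 F) = c • (wd hω u : Matrix F9 F9 F) := by
    have h2 : wd hω w = (wd hω w * (wd hω u)⁻¹) * wd hω u := by group
    conv_lhs => rw [h2, Units.val_mul]
    have h3 : ((wd hω w * (wd hω u)⁻¹ : GL F9 F) : Matrix F9 F9 F) = c • 1 := hcc
    rw [h3, Matrix.smul_mul, one_mul]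
  rw [hval, Matrix.smul_mulVec]

theorem quickOne_of_eq (hF : Fintype.card F = 4) {w : List ℕ} (hw : lettersOK w = true) (h : eJ hω w = 1) :
    quickOne w = true := List.all_eq_true.mpr fun v hv =>
  quick_of_eq hω hF hw (u := []) rfl (h.trans (eJ_nil hω).symm)
    (by simpa using List.all_eq_true.mp out_letters.2.1 v hv)

theorem quickComm_of_eq (hF : Fintype.card F = 4) {w u : List ℕ} (hw : lettersOK w = true) (hu : lettersOK u = true)
    (h : Commute (eJ hω w) (eJ hω u)) : quickComm w u = true := List.all_eq_true.mpr fun v hv => by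
  refine quick_of_eq hω hF ?_ ?_ ?_ (by simpa using List.all_eq_true.mp out_letters.2.1 v hv)
  · simp only [lettersOK, List.all_append, Bool.and_eq_true] at hw hu ⊢; exact ⟨hw, hu⟩
  · simp only [lettersOK, List.all_append, Bool.and_eq_true] at hw hu ⊢; exact ⟨hu, hw⟩
  · rw [eJ_append, eJ_append]; exact h.eq

theorem lettersOK_append {w u : List ℕ} (hw : lettersOK w = true) (hu : lettersOK u = true) :
    lettersOK (w ++ u) = true := by
  simp only [lettersOK, List.all_append, Bool.and_eq_true] at hw hu ⊢; exact ⟨hw, hu⟩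

theorem lettersOK_pow {w : List ℕ} (hw : lettersOK w = true) : ∀ n, lettersOK (powW n w) = true
  | 0 => rfl
  | n + 1 => by
    rw [show powW (n + 1) w = w ++ powW n w by simp [powW, List.replicate_succ]]
    exact lettersOK_append hw (lettersOK_pow hw n)

include hω in
theorem mem_centWords (hF : Fintype.card F = 4) {x : Cfsg.Spor.J3 F ω} (hx : x ∈ CJ hω) :
    ∃ j < centWords.length, eJ hω (centWords.getD j []) = x := by
  obtain ⟨q, hq, π, rfl⟩ := (exists_prod hω hF).2 x hx
  have hq' := (Subgroup.mem_normalizer_iff''.mp (altHom_normalises hω π) q).mp hq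
  obtain ⟨i, hi, he⟩ := (mem_QJ hω).mp hq'
  have hmem : altOf π.1 ++ qList.getD i [] ∈ centWords := by
    have h2 : ∀ σ : Equiv.Perm (Fin 5), Equiv.Perm.sign σ = 1 →
        altTable.any (fun e => e.2 == altOf σ) = true := by decide +kernel
    obtain ⟨e, hemem, hee⟩ := List.any_eq_true.mp (h2 π.1 (Equiv.Perm.mem_alternatingGroup.mp π.2))
    refine List.mem_flatMap.mpr ⟨e, hemem, List.mem_map.mpr ⟨qList.getD i [], ?_, by rw [beq_iff_eq.mp hee]⟩⟩
    have hl : i < qList.length := by rw [q_basic.1]; exact hi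
    rw [List.getD_eq_getElem _ _ hl]; exact List.getElem_mem hl
  obtain ⟨j, hj, hje⟩ := List.mem_iff_getElem.mp hmem
  refine ⟨j, hj, ?_⟩
  rw [List.getD_eq_getElem _ _ hj, hje, eJ_append]
  show altHom hω π * qe hω i = _
  rw [← he]
  group

/-- The three generators. -/
def fJ : Cfsg.Spor.J3 F ω := eJ hω outF
/-- The second generator. -/
def gJ : Cfsg.Spor.J3 F ω := eJ hω outG
/-- The third generator. -/
def nJ : Cfsg.Spor.J3 F ω := eJ hω outN

theorem rel_facts : fJ hω ^ 5 = 1 ∧ Commute (fJ hω) (tJ hω) ∧ Commute (gJ hω) (tJ hω) ∧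
    eJ hω outInvert * fJ hω * (eJ hω outInvert)⁻¹ = fJ hω ^ 4 ∧ Commute (eJ hω outInvert) (tJ hω) ∧
    eJ hω outN * eJ hω outNInv = 1 := by
  have h := out_rel
  simp only [Bool.and_eq_true, Bool.not_eq_true'] at h
  refine ⟨?_, ?_, ?_, ?_, ?_, ?_⟩
  · rw [fJ, ← eJ_pow, same3_sound hω h.1.1.1.1.1.1.1.1.1.1, eJ_nil]
  · have e := same3_sound hω h.1.1.1.1.1.1.1.1.2
    rw [eJ_cons, eJ_append] at e; exact e.symm
  · have e := same3_sound hω h.1.1.1.1.1.1.1.2
    rw [eJ_cons, eJ_append] at e; exact e.symm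
  · have e := same3_sound hω h.1.1.1.1.1.1.2
    rw [eJ_append, eJ_append, eJ_pow] at e
    exact mul_inv_eq_of_eq_mul e
  · have e := same3_sound hω h.1.1.1.1.1.2
    rw [eJ_cons, eJ_append] at e; exact e.symm
  · rw [← eJ_append, same3_sound hω h.1.1.1.1.2, eJ_nil]

include hω in
theorem orderOf_fJ (hF : Fintype.card F = 4) : orderOf (fJ hω) = 5 := by
  haveI : Fact (Nat.Prime 5) := ⟨by norm_num⟩
  have h := out_rel
  simp only [Bool.and_eq_true, Bool.not_eq_true'] at h
  refine orderOf_eq_prime (rel_facts hω).1 ?_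
  rw [← eJ_nil hω]
  exact ne_of_same3_false hω hF (by decide +kernel) rfl h.1.1.1.1.1.1.1.1.1.2

theorem gens_in_pair {x : Cfsg.Spor.J3 F ω} (w : List ℕ) (hw : ∀ i ∈ w, i < 2)
    (K : Subgroup (Cfsg.Spor.J3 F ω)) (hf : fJ hω ∈ K) (hg : gJ hω ∈ K)
    (he : x = eJ hω (flatIdx [outF, outG] w)) : x ∈ K := by
  subst he
  induction w with
  | nil => rw [flatIdx, List.flatMap_nil, eJ_nil]; exact one_mem K
  | cons i w ih =>
    rw [flatIdx, List.flatMap_cons, eJ_append]
    refine mul_mem ?_ (ih fun j hj => hw j (List.mem_cons_of_mem _ hj))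
    rcases (show i = 0 ∨ i = 1 by have := hw i List.mem_cons_self; omega) with rfl | rfl
    exacts [hf, hg]

include hω in
theorem CJ_le_of_pair (hF : Fintype.card F = 4) (K : Subgroup (Cfsg.Spor.J3 F ω)) (hf : fJ hω ∈ K)
    (hg : gJ hω ∈ K) : CJ hω ≤ K := by
  obtain ⟨hlen, hl, hq, hc⟩ := out_cwords
  have hidx : ∀ k, ∀ i ∈ outCWords.getD k [], i < 2 := by
    intro k i hi
    by_cases hk : k < outCWords.length
    · rw [List.getD_eq_getElem _ _ hk] at hi
      simpa using List.all_eq_true.mp (List.all_eq_true.mp hl _ (List.getElem_mem hk)) i hi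
    · rw [List.getD_eq_default _ _ (not_lt.mp hk)] at hi
      simp at hi
  have hQ : QJ hω ≤ K := by
    refine (Subgroup.closure_le _).mpr ?_
    rintro _ ⟨k, hk, rfl⟩
    exact gens_in_pair hω _ (hidx k) K hf hg (same3_sound hω (List.all_eq_true.mp hq k (List.mem_range.mpr hk)))
  have hA : ∀ π : alternatingGroup (Fin 5), altHom hω π ∈ K := by
    intro π
    have hgen : ∀ c < 2, altFun hω (altGen c) ∈ K := fun c hc' => by
      have hmem : c ∈ ([0, 1] : List ℕ) := by
        rcases (show c = 0 ∨ c = 1 by omega) with rfl | rfl <;> simp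
      exact gens_in_pair hω _ (hidx _) K hf hg (same3_sound hω (List.all_eq_true.mp hc c hmem))
    obtain ⟨π, hπ⟩ := π
    obtain ⟨w, hw, rfl⟩ := altProd_word π (Equiv.Perm.mem_alternatingGroup.mp hπ)
    show altFun hω (altProd w) ∈ K
    clear hπ
    induction w with
    | nil => rw [show altProd [] = 1 from rfl, altFun_one]; exact one_mem K
    | cons c w ih =>
      have hw' : ∀ d ∈ w, d < 2 := fun d hd => hw d (List.mem_cons_of_mem _ hd)
      have hs : ∀ v : List ℕ, (∀ d ∈ v, d < 2) → Equiv.Perm.sign (altProd v) = 1 := by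
        intro v hv
        induction v with
        | nil => simp [altProd]
        | cons d v ihv =>
          rw [altProd, List.map_cons, List.prod_cons, map_mul, altGen_sign d (hv d List.mem_cons_self), one_mul]
          exact ihv fun e he => hv e (List.mem_cons_of_mem _ he)
      rw [show altProd (c :: w) = altGen c * altProd w from List.prod_cons,
        altFun_gen_mul hω (hw c List.mem_cons_self) (hs w hw')]
      exact mul_mem (hgen c (hw c List.mem_cons_self)) (ih hw')
  intro x hx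
  obtain ⟨q, hq', π, rfl⟩ := (exists_prod hω hF).2 x hx
  exact mul_mem (hQ hq') (hA π)

include hω in
theorem eq_top_of_three (K : Subgroup (Cfsg.Spor.J3 F ω)) (hf : fJ hω ∈ K) (hg : gJ hω ∈ K) (hn : nJ hω ∈ K) :
    K = ⊤ := by
  rw [eq_top_iff]
  intro x _
  obtain ⟨y, rfl⟩ := QuotientGroup.mk'_surjective _ x
  have hgen : ∀ k ∈ gens6, eJ hω [k] ∈ K := by
    intro k hk
    obtain ⟨j, hj, rfl⟩ := List.mem_iff_getElem.mp hk
    have h := List.all_eq_true.mp out_gen j (List.mem_range.mpr hj)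
    simp only [Bool.and_eq_true, List.all_eq_true, decide_eq_true_eq] at h
    have he := same3_sound hω h.2
    rw [List.getD_eq_getElem _ _ hj] at he
    rw [he]
    have hidx := h.1
    clear h he
    generalize outGenWords.getD j [] = L at hidx
    induction L with
    | nil => rw [flatIdx, List.flatMap_nil, eJ_nil]; exact one_mem K
    | cons i L ih =>
      rw [flatIdx, List.flatMap_cons, eJ_append]
      refine mul_mem ?_ (ih fun a ha => hidx a (List.mem_cons_of_mem _ ha))
      rcases (show i = 0 ∨ i = 1 ∨ i = 2 by have := hidx i List.mem_cons_self; omega) with rfl | rfl | rfl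
      exacts [hf, hg, hn]
  have hle : threeJ3 F ω ≤ (K.comap (QuotientGroup.mk' (Subgroup.center (threeJ3 F ω)))).map (threeJ3 F ω).subtype := by
    conv_lhs => rw [threeJ3_eq hω]
    refine (Subgroup.closure_le _).mpr ?_
    rintro _ ⟨k, hk, rfl⟩
    exact ⟨gel hω [k], hgen k hk, by simp [gel, wd]⟩
  obtain ⟨b, hb, he⟩ := hle y.2
  exact (Subtype.ext he : b = y) ▸ hb

include hω in
/-- An automorphism fixing the pair is inner. -/
theorem inn_of_fix_pair (hF : Fintype.card F = 4) (α : MulAut (Cfsg.Spor.J3 F ω)) (hf : α (fJ hω) = fJ hω)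
    (hg : α (gJ hω) = gJ hω) : α ∈ Cfsg.Inn (Cfsg.Spor.J3 F ω) := by
  let Fx : Subgroup (Cfsg.Spor.J3 F ω) := α.toMonoidHom.eqLocus (MonoidHom.id _)
  have hfix : ∀ x, Commute x (tJ hω) → α x = x := fun x hx =>
    CJ_le_of_pair hω hF Fx hf hg ((mem_CJ hω).mpr hx)
  obtain ⟨hlet, -, -, hcw⟩ := out_letters
  simp only [Bool.and_eq_true] at hlet
  set ni := (nJ hω)⁻¹ * α (nJ hω) with hni
  have hE : ∀ a ∈ outE, Commute ni (eJ hω a) := by
    intro a ha
    obtain ⟨j, hj, rfl⟩ := List.mem_iff_getElem.mp ha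
    have h := List.all_eq_true.mp out_e.2.1 j (List.mem_range.mpr hj)
    simp only [Bool.and_eq_true, decide_eq_true_eq] at h
    have he := same3_sound hω h.2
    rw [eJ_append, eJ_append, List.getD_eq_getElem _ _ hj, List.getD_eq_getElem _ _ h.1] at he
    set A := eJ hω outE[j]
    set B := eJ hω (outEAll[outEImg.getD j 0]'h.1)
    have hBc : Commute B (tJ hω) := by
      have hb := same3_sound hω (List.all_eq_true.mp out_e.2.2 _ (List.getElem_mem h.1))
      rw [eJ_cons, eJ_append] at hb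
      exact hb.symm
    have hAc : Commute A (tJ hω) := by
      have hex : outE.all (fun a => same3 (13 :: a) (a ++ [13])) = true := by decide +kernel
      have hb := same3_sound hω (List.all_eq_true.mp hex _ (List.getElem_mem hj))
      rw [eJ_cons, eJ_append] at hb
      exact hb.symm
    have he' : nJ hω * A = B * nJ hω := he
    have hα : α (nJ hω) * A = B * α (nJ hω) := by
      have := congrArg α he'
      rwa [map_mul, map_mul, hfix A hAc, hfix B hBc] at this
    show ni * A = A * ni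
    have hA2 : (nJ hω)⁻¹ * B = A * (nJ hω)⁻¹ := by
      rw [inv_mul_eq_iff_eq_mul, ← mul_assoc, he', mul_inv_cancel_right]
    rw [hni, mul_assoc, hα, ← mul_assoc, hA2, mul_assoc]
  have hnt : Commute ni (tJ hω) := by
    obtain ⟨a, ha, hat⟩ := List.any_eq_true.mp out_e.1
    have := hE a ha
    rwa [same3_sound hω hat] at this
  obtain ⟨j, hj, hje⟩ := mem_centWords hω hF ((mem_CJ hω).mpr hnt)
  have hmemj : centWords.getD j [] ∈ centWords := by
    rw [List.getD_eq_getElem _ _ hj]; exact List.getElem_mem hj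
  have hjl : lettersOK (centWords.getD j []) = true := List.all_eq_true.mp hcw _ hmemj
  have h16 := List.all_eq_true.mp cent_e16 _ hmemj
  simp only [Bool.or_eq_true, Bool.not_eq_true', List.any_eq_true] at h16
  rcases h16 with h16 | ⟨x, hx, hxe⟩
  · exfalso
    obtain ⟨a, ha, hq⟩ := List.all_eq_false.mp h16
    have hal : lettersOK a = true := List.all_eq_true.mp hlet.1.2 a ha
    exact hq (quickComm_of_eq hω hF hjl hal (hje ▸ hE a ha))
  have hxl : lettersOK x = true := List.all_eq_true.mp hlet.2 x hx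
  have hnx : α (nJ hω) = eJ hω (outN ++ x) := by
    rw [eJ_append, ← same3_sound hω hxe, hje, hni, ← mul_assoc]
    show _ = nJ hω * (nJ hω)⁻¹ * α (nJ hω)
    rw [mul_inv_cancel, one_mul]
  obtain ⟨hcand, h19, h10⟩ := n_cands
  have hnl : lettersOK outN = true := hlet.1.1.1.1.2
  have hfl : lettersOK outF = true := hlet.1.1.1.1.1.1.1
  have hl1 := lettersOK_append hnl hxl
  have q19 : quickOne (powW 19 (outF ++ (outN ++ x) ++ (outN ++ x))) = true := by
    refine quickOne_of_eq hω hF (lettersOK_pow (lettersOK_append (lettersOK_append hfl hl1) hl1) 19) ?_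
    rw [eJ_pow, eJ_append _ (outF ++ (outN ++ x)), eJ_append _ outF, ← hnx]
    conv_lhs => rw [← show fJ hω = eJ hω outF from rfl, ← hf]
    rw [← map_mul, ← map_mul, ← map_pow]
    have := same3_sound hω h19
    rw [eJ_pow, eJ_append, eJ_append, eJ_nil] at this
    rw [show fJ hω = eJ hω outF from rfl, show nJ hω = eJ hω outN from rfl, this, map_one]
  have q10 : quickOne (powW 10 (outF ++ outF ++ (outN ++ x))) = true := by
    refine quickOne_of_eq hω hF (lettersOK_pow (lettersOK_append (lettersOK_append hfl hfl) hl1) 10) ?_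
    rw [eJ_pow, eJ_append _ (outF ++ outF), eJ_append _ outF, ← hnx]
    conv_lhs => rw [← show fJ hω = eJ hω outF from rfl, ← hf]
    rw [← map_mul, ← map_mul, ← map_pow]
    have := same3_sound hω h10
    rw [eJ_pow, eJ_append, eJ_append, eJ_nil] at this
    rw [show fJ hω = eJ hω outF from rfl, show nJ hω = eJ hω outN from rfl, this, map_one]
  have hc := List.all_eq_true.mp hcand x hx
  simp only [Bool.or_eq_true, Bool.not_eq_true', q19, q10, Bool.and_self, Bool.true_eq_false, false_or] at hc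
  rcases hc with hc | hc
  · have hn1 : α (nJ hω) = nJ hω := hnx.trans (same3_sound hω hc)
    refine ⟨1, MulEquiv.ext fun y => ?_⟩
    have := eq_top_of_three hω Fx hf hg hn1
    have hy : y ∈ Fx := this ▸ Subgroup.mem_top y
    show (1 : Cfsg.Spor.J3 F ω) * y * 1⁻¹ = α y
    rw [one_mul, inv_one, mul_one]
    exact hy.symm
  · have hn1 : α (nJ hω) = tJ hω * nJ hω * tJ hω := by
      rw [hnx, same3_sound hω hc, eJ_append, eJ_cons]; rfl
    refine ⟨tJ hω, MulEquiv.ext fun y => ?_⟩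
    let K : Subgroup (Cfsg.Spor.J3 F ω) := (MulAut.conj (tJ hω)).toMonoidHom.eqLocus α.toMonoidHom
    have hti : (tJ hω)⁻¹ = tJ hω := inv_eq_of_mul_eq_one_right (tJ_sq hω)
    have hcm : ∀ x, Commute x (tJ hω) → tJ hω * x * (tJ hω)⁻¹ = x := fun x hx => by
      rw [← hx.eq, mul_inv_cancel_right]
    have hKtop := eq_top_of_three hω K
      (show tJ hω * fJ hω * (tJ hω)⁻¹ = α (fJ hω) by rw [hf, hcm _ (rel_facts hω).2.1])
      (show tJ hω * gJ hω * (tJ hω)⁻¹ = α (gJ hω) by rw [hg, hcm _ (rel_facts hω).2.2.1])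
      (show tJ hω * nJ hω * (tJ hω)⁻¹ = α (nJ hω) by rw [hn1, hti])
    exact (hKtop ▸ Subgroup.mem_top y : y ∈ K)

include hω in
/-- Every automorphism can be moved to one of two types. -/
theorem normalise (hF : Fintype.card F = 4) (φ : MulAut (Cfsg.Spor.J3 F ω)) :
    ∃ u : Cfsg.Spor.J3 F ω, ∃ i < 2, (MulAut.conj u * φ) (fJ hω) = eJ hω (fImg i) ∧
      (MulAut.conj u * φ) (gJ hω) = eJ hω (gImg i) := by
  classical
  haveI : Fact (Nat.Prime 5) := ⟨by norm_num⟩
  obtain ⟨hlet, -, -, hcw⟩ := out_letters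
  simp only [Bool.and_eq_true] at hlet
  obtain ⟨hf5, hft, hgt, hinv, hit, -⟩ := rel_facts hω
  obtain ⟨u₁, hu₁⟩ := invol_conj hω hF (x := φ (tJ hω)) (by rw [MulEquiv.orderOf_eq]; exact orderOf_tJ hω hF)
  set α₁ := MulAut.conj u₁ * φ
  have ht1 : α₁ (tJ hω) = tJ hω := hu₁
  have hC1 : ∀ {x}, Commute x (tJ hω) → Commute (α₁ x) (tJ hω) := fun {x} hx => by
    have := hx.map α₁
    rwa [ht1] at this
  -- the first generator
  have hfC : fJ hω ∈ CJ hω := (mem_CJ hω).mpr hft
  set f1 : CJ hω := ⟨α₁ (fJ hω), (mem_CJ hω).mpr (hC1 hft)⟩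
  set f0 : CJ hω := ⟨fJ hω, hfC⟩
  have ho0 : orderOf f0 = 5 := by rw [← Subgroup.orderOf_coe]; exact orderOf_fJ hω hF
  have ho1 : orderOf f1 = 5 := by
    rw [← Subgroup.orderOf_coe]; exact (MulEquiv.orderOf_eq α₁ _).trans (orderOf_fJ hω hF)
  have hsyl : ∀ z : CJ hω, orderOf z = 5 → ∃ S : Sylow 5 (CJ hω), (S : Subgroup (CJ hω)) = Subgroup.zpowers z := by
    intro z hz
    refine ⟨Sylow.ofCard (Subgroup.zpowers z) ?_, Sylow.coe_ofCard _ _⟩
    rw [Nat.card_zpowers, hz, (exists_prod hω hF).1, show (1920 : ℕ) = 5 ^ 1 * 384 by norm_num,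
      Nat.factorization_mul (by norm_num) (by norm_num), Finsupp.add_apply,
      Nat.Prime.factorization_pow (by norm_num), Finsupp.single_eq_same,
      Nat.factorization_eq_zero_of_not_dvd (by norm_num : ¬ 5 ∣ 384)]
    norm_num
  obtain ⟨S, hS⟩ := hsyl f1 ho1
  obtain ⟨T, hT⟩ := hsyl f0 ho0
  obtain ⟨c, hc⟩ := MulAction.exists_smul_eq (CJ hω) S T
  have hcf : c * f1 * c⁻¹ ∈ Subgroup.zpowers f0 := by
    rw [← hT, ← hc, Sylow.coe_subgroup_smul, hS]
    exact ⟨f1, Subgroup.mem_zpowers f1, rfl⟩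
  obtain ⟨m, hm⟩ := (isOfFinOrder_of_finite f0).mem_powers_iff_mem_zpowers.mpr hcf
  have hm' : (c : Cfsg.Spor.J3 F ω) * α₁ (fJ hω) * (c : Cfsg.Spor.J3 F ω)⁻¹ = fJ hω ^ m :=
    (congrArg Subtype.val hm).symm
  set α₂ := MulAut.conj (c : Cfsg.Spor.J3 F ω) * α₁
  have hm2 : α₂ (fJ hω) = fJ hω ^ m := hm'
  have hmod : α₂ (fJ hω) = fJ hω ^ (m % 5) := by
    rw [hm2, ← orderOf_fJ hω hF, pow_mod_orderOf]
  have hm0 : m % 5 ≠ 0 := fun h => by
    rw [h, pow_zero] at hmod
    have := orderOf_fJ hω hF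
    rw [← MulEquiv.orderOf_eq α₂, hmod, orderOf_one] at this
    norm_num at this
  have hct : Commute (c : Cfsg.Spor.J3 F ω) (tJ hω) := (mem_CJ hω).mp c.2
  have ht2 : α₂ (tJ hω) = tJ hω := by
    show (c : Cfsg.Spor.J3 F ω) * α₁ (tJ hω) * (c : Cfsg.Spor.J3 F ω)⁻¹ = _
    rw [ht1, hct.eq, mul_inv_cancel_right]
  -- reduce the exponent
  obtain ⟨d, hdt, i, hi, hd⟩ : ∃ d, Commute d (tJ hω) ∧ ∃ i < 2,
      d * α₂ (fJ hω) * d⁻¹ = eJ hω (fImg i) := by
    have himg : ∀ i, eJ hω (fImg i) = fJ hω ^ (i + 1) := fun i => eJ_pow hω _ _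
    have hk : m % 5 = 1 ∨ m % 5 = 2 ∨ m % 5 = 3 ∨ m % 5 = 4 := by omega
    rcases hk with h | h | h | h
    · exact ⟨1, Commute.one_left _, 0, by norm_num, by rw [himg, hmod, h]; group⟩
    · exact ⟨1, Commute.one_left _, 1, by norm_num, by rw [himg, hmod, h]; group⟩
    · refine ⟨_, hit, 1, by norm_num, ?_⟩
      rw [himg, hmod, h, ← conj_pow, hinv, ← pow_mul, show 4 * 3 = 2 + 5 * 2 by norm_num, pow_add, pow_mul, hf5,
        one_pow, mul_one]
    · refine ⟨_, hit, 0, by norm_num, ?_⟩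
      rw [himg, hmod, h, ← conj_pow, hinv, ← pow_mul, show 4 * 4 = 1 + 5 * 3 by norm_num, pow_add, pow_mul, hf5,
        one_pow, mul_one]
  set α₃ := MulAut.conj d * α₂
  have hf3 : α₃ (fJ hω) = eJ hω (fImg i) := hd
  have ht3 : α₃ (tJ hω) = tJ hω := by
    show d * α₂ (tJ hω) * d⁻¹ = _
    rw [ht2, hdt.eq, mul_inv_cancel_right]
  have hg3 : Commute (α₃ (gJ hω)) (tJ hω) := by
    have := hgt.map α₃
    rwa [ht3] at this
  obtain ⟨j, hj, hje⟩ := mem_centWords hω hF ((mem_CJ hω).mpr hg3)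
  set h := centWords.getD j [] with hh
  have hmemj : h ∈ centWords := by
    rw [hh, List.getD_eq_getElem _ _ hj]; exact List.getElem_mem hj
  have hl : lettersOK h = true := List.all_eq_true.mp hcw _ hmemj
  have hfl : lettersOK outF = true := hlet.1.1.1.1.1.1.1
  have hgl : lettersOK outG = true := hlet.1.1.1.1.1.1.2
  have hil : lettersOK (fImg i) = true := lettersOK_pow hfl _
  have hrel := out_rel
  simp only [Bool.and_eq_true, Bool.not_eq_true'] at hrel
  have hcond : gCond i h = true := by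
    simp only [gCond, Bool.and_eq_true, Bool.not_eq_true']
    refine ⟨⟨⟨quickOne_of_eq hω hF (lettersOK_append hl hl) ?_, quickOne_of_eq hω hF (lettersOK_pow
      (lettersOK_append (lettersOK_append hil hl) (lettersOK_append (lettersOK_append hil hil) hl)) 4) ?_⟩,
      quickOne_of_eq hω hF (lettersOK_pow (lettersOK_append (lettersOK_append (lettersOK_append hil hl)
        (lettersOK_append hil hl)) (lettersOK_append (lettersOK_append hil hil) hl)) 5) ?_⟩, ?_⟩
    · rw [eJ_append, hje, ← map_mul]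
      have := same3_sound hω hrel.1.1.1.2
      rw [eJ_append, eJ_nil] at this
      rw [show gJ hω = eJ hω outG from rfl, this, map_one]
    · rw [eJ_pow]
      simp only [eJ_append, hje, ← hf3, ← map_mul, ← map_pow]
      have := same3_sound hω hrel.1.1.2
      simp only [eJ_pow, eJ_append, eJ_nil] at this
      rw [show gJ hω = eJ hω outG from rfl, show fJ hω = eJ hω outF from rfl, this, map_one]
    · rw [eJ_pow]
      simp only [eJ_append, hje, ← hf3, ← map_mul, ← map_pow]
      have := same3_sound hω hrel.1.2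
      simp only [eJ_pow, eJ_append, eJ_nil] at this
      rw [show gJ hω = eJ hω outG from rfl, show fJ hω = eJ hω outF from rfl, this, map_one]
    · by_contra hc6
      rw [Bool.not_eq_false] at hc6
      have := same3_sound hω hc6
      simp only [eJ_pow, eJ_append, eJ_nil, hje, ← hf3, ← map_mul, ← map_pow] at this
      have h1 : (fJ hω * gJ hω) ^ 6 = 1 := α₃.injective (this.trans (map_one α₃).symm)
      refine ne_of_same3_false hω hF (lettersOK_pow (lettersOK_append hfl hgl) 6) rfl hrel.2 ?_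
      rw [eJ_pow, eJ_append, eJ_nil]
      exact h1
  have hok : gCandOK h = true := by
    have hj' : j < 1920 := centWords_length ▸ hj
    rcases Nat.lt_or_ge j 640 with h1 | h1
    · exact List.all_eq_true.mp gCand_ok0 j (List.mem_range'_1.mpr ⟨by omega, by omega⟩)
    rcases Nat.lt_or_ge j 1280 with h2 | h2
    · exact List.all_eq_true.mp gCand_ok1 j (List.mem_range'_1.mpr ⟨by omega, by omega⟩)
    · exact List.all_eq_true.mp gCand_ok2 j (List.mem_range'_1.mpr ⟨by omega, by omega⟩)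
  simp only [gCandOK, List.all_eq_true, List.mem_range, Bool.or_eq_true, Bool.not_eq_true', List.any_eq_true] at hok
  rcases hok i hi with he | ⟨k, -, he⟩
  · rw [hcond] at he; exact absurd he (by simp)
  have he' := same3_sound hω he
  rw [eJ_append, eJ_append, eJ_pow, hje] at he'
  refine ⟨fJ hω ^ k * d * (c : Cfsg.Spor.J3 F ω) * u₁, i, hi, ?_, ?_⟩
  · have e1 : (MulAut.conj (fJ hω ^ k * d * (c : Cfsg.Spor.J3 F ω) * u₁) * φ) (fJ hω) =
        fJ hω ^ k * α₃ (fJ hω) * (fJ hω ^ k)⁻¹ := by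
      simp only [α₃, α₂, α₁, MulAut.mul_apply, MulAut.conj_apply]; group
    rw [e1, hf3, fImg, eJ_pow, ← show fJ hω = eJ hω outF from rfl, ← pow_add, add_comm, pow_add, mul_inv_cancel_right]
  · have e1 : (MulAut.conj (fJ hω ^ k * d * (c : Cfsg.Spor.J3 F ω) * u₁) * φ) (gJ hω) =
        fJ hω ^ k * α₃ (gJ hω) * (fJ hω ^ k)⁻¹ := by
      simp only [α₃, α₂, α₁, MulAut.mul_apply, MulAut.conj_apply]; group
    rw [e1]
    exact mul_inv_eq_of_eq_mul he'

include hω in
theorem aut_pair (hF : Fintype.card F = 4) {a b : MulAut (Cfsg.Spor.J3 F ω)}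
    (ha : a ∉ Cfsg.Inn (Cfsg.Spor.J3 F ω)) (hb : b ∉ Cfsg.Inn (Cfsg.Spor.J3 F ω)) :
    b⁻¹ * a ∈ Cfsg.Inn (Cfsg.Spor.J3 F ω) := by
  obtain ⟨u, i, hi, hfa, hga⟩ := normalise hω hF a
  obtain ⟨v, j, hj, hfb, hgb⟩ := normalise hω hF b
  have hnot : ∀ {α : MulAut (Cfsg.Spor.J3 F ω)} {w : Cfsg.Spor.J3 F ω}, α ∉ Cfsg.Inn (Cfsg.Spor.J3 F ω) →
      ¬ ((MulAut.conj w * α) (fJ hω) = eJ hω (fImg 0) ∧ (MulAut.conj w * α) (gJ hω) = eJ hω (gImg 0)) := by
    rintro α w hα ⟨h1, h2⟩
    refine hα ?_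
    have := mul_mem (inv_mem (show MulAut.conj w ∈ Cfsg.Inn (Cfsg.Spor.J3 F ω) from ⟨w, rfl⟩))
      (inn_of_fix_pair hω hF _ (by rw [h1, fImg, eJ_pow, zero_add, pow_one]; rfl) (by rw [h2]; rfl))
    rwa [inv_mul_cancel_left] at this
  have hi1 : i = 1 := by
    rcases (show i = 0 ∨ i = 1 by omega) with rfl | h
    · exact absurd ⟨hfa, hga⟩ (hnot ha)
    · exact h
  have hj1 : j = 1 := by
    rcases (show j = 0 ∨ j = 1 by omega) with rfl | h
    · exact absurd ⟨hfb, hgb⟩ (hnot hb)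
    · exact h
  subst hi1 hj1
  set A := MulAut.conj u * a
  set B := MulAut.conj v * b
  have hAB : B⁻¹ * A ∈ Cfsg.Inn (Cfsg.Spor.J3 F ω) := inn_of_fix_pair hω hF _
    (B.injective (show B (B⁻¹ (A (fJ hω))) = B (fJ hω) by rw [MulAut.apply_inv_self, hfa, hfb]))
    (B.injective (show B (B⁻¹ (A (gJ hω))) = B (gJ hω) by rw [MulAut.apply_inv_self, hga, hgb]))
  obtain ⟨w, hw⟩ := hAB
  refine ⟨b⁻¹ (u⁻¹ * v) * w, ?_⟩
  have hba : b⁻¹ * a = b⁻¹ * MulAut.conj (u⁻¹ * v) * b * MulAut.conj w := by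
    rw [hw]
    simp only [A, B, map_mul, map_inv]
    group
  have key : ∀ g, b⁻¹ * MulAut.conj g * b = MulAut.conj (b⁻¹ g) := fun g => by
    refine MulEquiv.ext fun y => ?_
    show b⁻¹ (g * b y * g⁻¹) = b⁻¹ g * y * (b⁻¹ g)⁻¹
    rw [map_mul, map_mul, map_inv, MulAut.inv_apply_self]
  rw [hba, key, ← map_mul]

end

end Cfsg.Lib.Spor.J3
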