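import Mathlib
import Cfsg.Prelude.Def_Spor_J3

/-!
Vectors of length nine over the field with four elements packed in eighteen bits, and matrices as
lists of packed columns.
-/

set_option autoImplicit false

namespace Cfsg.Lib.Spor.J3

open Cfsg.Spor Matrix

/-- The position of a point of the index set. -/
def idx (z : F9) : ℕ := 3 * z.1.val + z.2.val

/-- Xor of six columns selected by the low bits of `x`. -/
def lin6 (c : List ℕ) (off x : ℕ) : ℕ :=
  (if x.testBit 0 then c.getD off 0 else 0) ^^^ (if x.testBit 1 then c.getD (off + 1) 0 else 0) ^^^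
  (if x.testBit 2 then c.getD (off + 2) 0 else 0) ^^^ (if x.testBit 3 then c.getD (off + 3) 0 else 0) ^^^
  (if x.testBit 4 then c.getD (off + 4) 0 else 0) ^^^ (if x.testBit 5 then c.getD (off + 5) 0 else 0)

/-- The linear map with eighteen given columns over the field with two elements. -/
def lin (c : List ℕ) (v : ℕ) : ℕ :=
  lin6 c 0 (v % 64) ^^^ lin6 c 6 (v / 64 % 64) ^^^ lin6 c 12 (v / 4096 % 64)

/-- An entry of a packed table. -/
def look (T x : ℕ) : ℕ := (T >>> (18 * x)) % 262144

/-- Table version of a linear map. -/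
def vmul (T : ℕ × ℕ × ℕ) (v : ℕ) : ℕ :=
  look T.1 (v % 64) ^^^ look T.2.1 (v / 64 % 64) ^^^ look T.2.2 (v / 4096 % 64)

/-- The table agrees with the columns. -/
def tblOK (c : List ℕ) (T : ℕ × ℕ × ℕ) : Bool :=
  (List.range 64).all fun x => look T.1 x == lin6 c 0 x && look T.2.1 x == lin6 c 6 x &&
    look T.2.2 x == lin6 c 12 x

theorem vmul_eq_lin {c : List ℕ} {T : ℕ × ℕ × ℕ} (h : tblOK c T = true) (v : ℕ) : vmul T v = lin c v := by
  have h64 : ∀ x : ℕ, x % 64 ∈ List.range 64 := fun x => List.mem_range.mpr (Nat.mod_lt _ (by norm_num))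
  simp only [tblOK, List.all_eq_true, Bool.and_eq_true, beq_iff_eq] at h
  simp only [vmul, lin, (h _ (h64 v)).1.1, (h _ (h64 (v / 64))).1.2, (h _ (h64 (v / 4096))).2]

/-- The two scalar multiples: `b` is the multiple of `a` by the primitive cube root of unity. -/
def scaledOK (a b : ℕ) : Bool :=
  (List.range 9).all fun i => b.testBit i == a.testBit (9 + i) &&
    b.testBit (9 + i) == (a.testBit i ^^ a.testBit (9 + i))

section
variable {F : Type*} [Field F] (ω : F)

/-- A field element from two bits. -/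
def phi (a b : Bool) : F := (if a then 1 else 0) + (if b then ω else 0)

/-- The vector of a packed number. -/
def vec (v : ℕ) (z : F9) : F := phi ω (v.testBit (idx z)) (v.testBit (9 + idx z))

theorem vec_zero : vec ω 0 = 0 := by
  funext z; simp [vec, phi]

theorem vec_if (b : Bool) (x : ℕ) : vec ω (if b then x else 0) = (if b then 1 else 0 : F) • vec ω x := by
  cases b <;> simp [vec_zero]

end

section
variable {F : Type*} [Field F] [CharP F 2] (ω : F)

theorem ite_xor (a a' : Bool) (x : F) :
    (if (a ^^ a') then x else 0) = (if a then x else 0) + (if a' then x else 0) := by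
  cases a <;> cases a' <;> simp [CharTwo.add_self_eq_zero]

theorem phi_xor (a b a' b' : Bool) : phi ω (a ^^ a') (b ^^ b') = phi ω a b + phi ω a' b' := by
  simp only [phi, ite_xor]; ring

theorem vec_xor (a b : ℕ) : vec ω (a ^^^ b) = vec ω a + vec ω b := by
  funext z; simp only [vec, Nat.testBit_xor, phi_xor, Pi.add_apply]

end

/-- The eighteen columns of a matrix given by nine. -/
def doubled (c : List ℕ) (w : List ℕ) : List ℕ := c ++ w

/-- The matrix with the given packed columns. -/
def toM {F : Type*} [Field F] (ω : F) (c : List ℕ) : Matrix F9 F9 F :=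
  Matrix.of fun w z => vec ω (c.getD (idx z) 0) w

/-- The columns are scaled correctly. -/
def colsOK (c : List ℕ) : Bool :=
  (List.range 9).all fun i => scaledOK (c.getD i 0) (c.getD (9 + i) 0)

section
variable {F : Type*} [Field F] [CharP F 2] {ω : F} (hω : ω ^ 2 + ω + 1 = 0)

include hω in
theorem omega_sq : ω * ω = 1 + ω := by
  linear_combination hω + (CharTwo.add_self_eq_zero (-(1 + ω)))

include hω in
theorem vec_scaled {a b : ℕ} (h : scaledOK a b = true) : vec ω b = ω • vec ω a := by
  simp only [scaledOK, List.all_eq_true, List.mem_range, Bool.and_eq_true, beq_iff_eq] at h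
  funext z
  have hz : idx z < 9 := by revert z; decide
  obtain ⟨h1, h2⟩ := h _ hz
  simp only [Pi.smul_apply, smul_eq_mul, vec, h1, h2]
  rw [phi, phi, ite_xor]
  have := omega_sq hω
  cases a.testBit (idx z) <;> cases a.testBit (9 + idx z) <;>
    simp [mul_add, this, CharTwo.add_self_eq_zero, add_left_comm ω]

theorem vec_lin (c : List ℕ) (v : ℕ) :
    vec ω (lin c v) = ∑ k ∈ Finset.range 18, (if v.testBit k then 1 else 0 : F) • vec ω (c.getD k 0) := by
  have e : ∀ (m k : ℕ), k < 6 → (v / 2 ^ m % 64).testBit k = v.testBit (m + k) := by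
    intro m k hk
    rw [show (64 : ℕ) = 2 ^ 6 by norm_num, Nat.testBit_mod_two_pow, Nat.testBit_div_two_pow, decide_eq_true hk,
      Bool.true_and, add_comm]
  have e0 := fun k hk => e 0 k hk
  have e6 := fun k hk => e 6 k hk
  have e12 := fun k hk => e 12 k hk
  simp only [pow_zero, Nat.div_one, Nat.reducePow] at e0 e6 e12
  simp only [lin, lin6, e0, e6, e12, Nat.lt_add_one, show (0:ℕ) < 6 by norm_num, show (1:ℕ) < 6 by norm_num,
    show (2:ℕ) < 6 by norm_num, show (3:ℕ) < 6 by norm_num, show (4:ℕ) < 6 by norm_num,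
    vec_xor, vec_if, Finset.sum_range_succ, Finset.sum_range_zero]
  norm_num
  abel

include hω in
theorem vec_lin_eq {c : List ℕ} (h : colsOK c = true) (v : ℕ) : vec ω (lin c v) = toM ω c *ᵥ vec ω v := by
  simp only [colsOK, List.all_eq_true, List.mem_range] at h
  have hs : ∀ i < 9, vec ω (c.getD (9 + i) 0) = ω • vec ω (c.getD i 0) := fun i hi => vec_scaled hω (h i hi)
  rw [vec_lin]
  funext w
  simp only [Finset.sum_range_succ, Finset.sum_range_zero, zero_add]
  have s0 : vec ω (c.getD 9 0) = ω • vec ω (c.getD 0 0) := hs 0 (by norm_num)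
  have s1 : vec ω (c.getD 10 0) = ω • vec ω (c.getD 1 0) := hs 1 (by norm_num)
  have s2 : vec ω (c.getD 11 0) = ω • vec ω (c.getD 2 0) := hs 2 (by norm_num)
  have s3 : vec ω (c.getD 12 0) = ω • vec ω (c.getD 3 0) := hs 3 (by norm_num)
  have s4 : vec ω (c.getD 13 0) = ω • vec ω (c.getD 4 0) := hs 4 (by norm_num)
  have s5 : vec ω (c.getD 14 0) = ω • vec ω (c.getD 5 0) := hs 5 (by norm_num)
  have s6 : vec ω (c.getD 15 0) = ω • vec ω (c.getD 6 0) := hs 6 (by norm_num)
  have s7 : vec ω (c.getD 16 0) = ω • vec ω (c.getD 7 0) := hs 7 (by norm_num)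
  have s8 : vec ω (c.getD 17 0) = ω • vec ω (c.getD 8 0) := hs 8 (by norm_num)
  simp only [s0, s1, s2, s3, s4, s5, s6, s7, s8, Pi.add_apply, Pi.smul_apply, smul_eq_mul]
  rw [Matrix.mulVec, dotProduct, Fintype.sum_prod_type]
  simp only [show ∀ f : ZMod 3 → F, ∑ i, f i = f 0 + f 1 + f 2 from fun f => Fin.sum_univ_three f]
  have hv : ∀ z : F9, vec ω v z = (if v.testBit (idx z) then 1 else 0) +
      (if v.testBit (9 + idx z) then 1 else 0) * ω := fun z => by simp [vec, phi]
  simp only [toM, Matrix.of_apply, hv]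
  simp only [idx, show (0 : ZMod 3).val = 0 from rfl,
    show (1 : ZMod 3).val = 1 from rfl, show (2 : ZMod 3).val = 2 from rfl, Nat.mul_zero, Nat.mul_one,
    Nat.zero_add, Nat.add_zero, Nat.reduceMul, Nat.reduceAdd]
  ring

include hω in
theorem vec_vmul {c : List ℕ} {T : ℕ × ℕ × ℕ} (h : colsOK c = true) (ht : tblOK c T = true) (v : ℕ) :
    vec ω (vmul T v) = toM ω c *ᵥ vec ω v := by
  rw [vmul_eq_lin ht, vec_lin_eq hω h]

include hω in
/-- Applying a table to every column multiplies the matrices. -/
theorem toM_map {c : List ℕ} {T : ℕ × ℕ × ℕ} (h : colsOK c = true) (ht : tblOK c T = true) {b : List ℕ}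
    (hb : 9 ≤ b.length) : toM ω (b.map (vmul T)) = toM ω c * toM ω b := by
  ext w z
  have hz : idx z < b.length := by
    have : idx z < 9 := by revert z; decide
    omega
  have hget : (b.map (vmul T)).getD (idx z) 0 = vmul T (b.getD (idx z) 0) := by
    simp [List.getD_eq_getElem?_getD, List.getElem?_map, List.getElem?_eq_getElem hz]
  simp only [toM, Matrix.of_apply, hget, vec_vmul hω h ht, Matrix.mul_apply, Matrix.mulVec, dotProduct]

end

end Cfsg.Lib.Spor.J3
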