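import Cfsg.Agent.Spor.J3.InSU

/-!
A subgroup of index 6156.
-/

set_option autoImplicit false

namespace Cfsg.Lib.Spor.J3

/-- Generators of step Ls. -/
def gensLs : List (List ℕ) := [
  [21]]

/-- Representatives of step Ls. -/
def repsLs : List (List ℕ) := [
  [],
  [21],
  [21, 21]]

/-- Certificate of step Ls. -/
def certLs : List (List (ℕ × List ℕ)) := [
  [(1, []), (2, []), (0, [])]]

/-- Generators of step Lt. -/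
def gensLt : List (List ℕ) := [
  [21],
  [25, 11, 18, 2, 22, 32, 30, 2, 32, 24, 10, 3, 32, 15, 8]]

/-- Representatives of step Lt. -/
def repsLt : List (List ℕ) := [
  [],
  [25, 11, 18, 2, 22, 32, 30, 2, 32, 24, 10, 3, 32, 15, 8],
  [26, 19, 32, 24, 32, 26, 32, 24, 1, 32, 12, 7, 21],
  [28, 12, 6, 22, 32, 26, 2, 32, 24, 1, 32, 3, 22],
  [26, 11, 19, 3, 32, 30, 2, 32, 24, 3, 3, 32, 13, 19, 4, 22],
  [27, 13, 18, 8, 22, 32, 28, 32, 24, 1, 32, 13, 19, 4],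
  [29, 12, 19, 8, 21, 32, 27, 32, 24, 10, 3, 32, 16, 18, 7],
  [25, 10, 18, 4, 22, 32, 26, 32, 27, 32, 24, 32, 11, 19, 1, 21],
  [29, 15, 32, 31, 2, 32, 24, 1, 3, 32, 15, 19, 2, 22],
  [31, 12, 4, 22, 32, 26, 1, 32, 24, 3, 32, 16, 19, 8, 22],
  [31, 10, 19, 6, 22, 32, 26, 1, 32, 24, 10, 1, 32, 18, 3, 21],
  [27, 11, 18, 1, 32, 27, 32, 24, 32, 1, 3, 32, 16, 19, 5],
  [28, 14, 19, 1, 22, 32, 27, 32, 24, 1, 3, 32, 11, 18, 3, 22],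
  [28, 13, 19, 3, 32, 26, 2, 32, 24, 3, 3, 32, 13, 18, 1, 22],
  [25, 14, 18, 6, 22, 32, 26, 1, 32, 24, 14, 18, 6, 21]]

/-- Certificate of step Lt. -/
def certLt : List (List (ℕ × List ℕ)) := [
  [(0, [0]), (1, [0]), (2, [0]), (3, [0]), (4, [0]), (5, [0]), (6, [0]), (7, [0]), (8, [0]), (9, [0]), (10, [0]), (11, [0]), (12, [0]), (13, [0]), (14, [0])],
  [(1, []), (2, []), (3, []), (4, []), (5, []), (6, []), (7, []), (8, []), (9, []), (10, []), (11, []), (12, []), (13, []), (14, []), (0, [])]]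

/-- Generators of step Lu. -/
def gensLu : List (List ℕ) := [
  [21],
  [25, 11, 18, 2, 22, 32, 30, 2, 32, 24, 10, 3, 32, 15, 8],
  [16, 19, 2, 32, 26, 1, 32, 24, 3, 3, 32, 16, 19, 4]]

/-- Representatives of step Lu. -/
def repsLu : List (List ℕ) := [
  [],
  [16, 19, 2, 32, 26, 1, 32, 24, 3, 3, 32, 16, 19, 4]]

/-- Certificate of step Lu. -/
def certLu : List (List (ℕ × List ℕ)) := [
  [(0, [0]), (1, [0])],
  [(0, [1]), (1, [1, 1, 1, 1])],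
  [(1, []), (0, [])]]

/-- Generators of step Lb. -/
def gensLb : List (List ℕ) := [
  [21],
  [25, 11, 18, 2, 22, 32, 30, 2, 32, 24, 10, 3, 32, 15, 8],
  [16, 19, 2, 32, 26, 1, 32, 24, 3, 3, 32, 16, 19, 4],
  [26, 10, 7, 32, 26, 1, 32, 24, 32, 11, 3, 21],
  [29, 14, 19, 32, 27, 32, 24, 3, 3, 32, 13, 19, 3, 21],
  [30, 12, 21, 32, 27, 32, 26, 32, 24, 3, 3, 32, 14, 19, 4, 22],
  [26, 11, 18, 5, 21, 32, 28, 1, 32, 24, 32, 13, 19, 1, 21]]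

/-- Representatives of step Lb. -/
def repsLb : List (List ℕ) := [
  [],
  [26, 10, 7, 32, 26, 1, 32, 24, 32, 11, 3, 21],
  [29, 14, 19, 32, 27, 32, 24, 3, 3, 32, 13, 19, 3, 21],
  [30, 12, 21, 32, 27, 32, 26, 32, 24, 3, 3, 32, 14, 19, 4, 22],
  [26, 11, 18, 5, 21, 32, 28, 1, 32, 24, 32, 13, 19, 1, 21],
  [24, 11, 18, 2, 32, 29, 1, 32, 24, 32, 1, 3, 32, 15, 19, 21],
  [12, 32, 24, 10, 1, 32, 11, 21],
  [25, 13, 18, 7, 21, 32, 24, 3, 32, 24, 32, 1, 3, 32, 16, 19, 4, 22],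
  [18, 7, 32, 31, 1, 32, 24, 1, 3, 32, 12, 18, 5],
  [26, 11, 1, 32, 30, 2, 32, 24, 1, 3, 32, 13, 19, 6],
  [30, 11, 18, 6, 22, 32, 31, 2, 32, 24, 32, 1, 32, 4],
  [26, 11, 19, 8, 32, 29, 1, 32, 24, 10, 1, 32, 11, 19, 4],
  [13, 19, 32, 28, 32, 24, 32, 1, 32, 14, 8, 21],
  [14, 5, 32, 31, 2, 32, 24, 10, 3, 32, 16, 19, 3],
  [31, 15, 19, 7, 21, 32, 27, 32, 24, 3, 3, 32, 12, 18, 22],
  [19, 6, 32, 26, 32, 24, 32, 15, 18, 3]]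

/-- Certificate of step Lb. -/
def certLb : List (List (ℕ × List ℕ)) := [
  [(0, [0]), (1, [0]), (2, [0]), (3, [0]), (4, [0]), (5, [0]), (6, [0]), (7, [0]), (8, [0]), (9, [0]), (10, [0]), (11, [0]), (12, [0]), (13, [0]), (14, [0]), (15, [0])],
  [(0, [1]), (4, [1]), (3, [1]), (14, [1]), (15, [1]), (10, [1]), (8, [1]), (11, [1]), (9, [1]), (12, [1]), (1, [1]), (2, [1]), (5, [1]), (7, [1]), (6, [1]), (13, [1])],
  [(0, [2]), (12, [2]), (2, [2]), (8, [2]), (4, [2]), (7, [2]), (13, [2]), (5, [2]), (3, [2]), (9, [2]), (14, [2]), (15, [2]), (1, [2]), (6, [2]), (10, [2]), (11, [2])],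
  [(1, []), (0, []), (5, []), (6, []), (7, []), (2, []), (3, []), (4, []), (11, []), (12, []), (13, []), (8, []), (9, []), (10, []), (15, []), (14, [])],
  [(2, []), (5, []), (0, []), (8, []), (9, []), (1, []), (11, []), (12, []), (3, []), (4, []), (14, []), (6, []), (7, []), (15, []), (10, []), (13, [])],
  [(3, []), (6, []), (8, []), (0, []), (10, []), (11, []), (1, []), (13, []), (2, []), (14, []), (4, []), (5, []), (15, []), (7, []), (9, []), (12, [])],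
  [(4, []), (7, []), (9, []), (10, []), (0, []), (12, []), (13, []), (1, []), (14, []), (2, []), (3, []), (15, []), (5, []), (6, []), (8, []), (11, [])]]

/-- Generators of step Ll. -/
def gensLl : List (List ℕ) := [
  [21],
  [25, 11, 18, 2, 22, 32, 30, 2, 32, 24, 10, 3, 32, 15, 8],
  [16, 19, 2, 32, 26, 1, 32, 24, 3, 3, 32, 16, 19, 4],
  [26, 10, 7, 32, 26, 1, 32, 24, 32, 11, 3, 21],
  [29, 14, 19, 32, 27, 32, 24, 3, 3, 32, 13, 19, 3, 21],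
  [30, 12, 21, 32, 27, 32, 26, 32, 24, 3, 3, 32, 14, 19, 4, 22],
  [26, 11, 18, 5, 21, 32, 28, 1, 32, 24, 32, 13, 19, 1, 21],
  [25, 32, 24, 15, 19, 21],
  [12, 18, 6, 32, 27, 1, 32, 24, 32, 1, 3, 32, 15, 18, 3, 21]]

/-- Representatives of step Ll. -/
def repsLl : List (List ℕ) := [
  [],
  [25, 32, 24, 15, 19, 21],
  [25, 11, 32, 28, 1, 32, 24, 15, 6, 22],
  [19, 6, 32, 29, 32, 27, 32, 24, 1, 3, 32, 19, 22],
  [26, 16, 1, 32, 27, 32, 24, 1, 3, 32, 8, 22],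
  [27, 13, 19, 3, 32, 24, 32, 26, 32, 24, 3, 3, 32, 16, 19, 3],
  [26, 12, 2, 32, 29, 1, 32, 24, 32, 1, 32, 11, 18, 4, 22],
  [29, 10, 19, 2, 21, 32, 31, 1, 32, 24, 3, 3, 32, 12, 19, 4, 21],
  [30, 16, 2, 32, 26, 1, 32, 24, 10, 3, 32, 16, 19, 1, 21],
  [27, 12, 6, 32, 28, 2, 32, 24, 3, 3, 32, 12, 18, 3],
  [27, 13, 3, 32, 26, 32, 24, 10, 3, 32, 14, 18, 2],
  [25, 14, 19, 3, 32, 31, 2, 32, 24, 10, 3, 32, 13, 18, 4],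
  [25, 10, 19, 21, 32, 26, 32, 27, 32, 24, 10, 3, 32, 14, 18, 4],
  [26, 10, 19, 1, 21, 32, 28, 1, 32, 24, 10, 3, 32, 12, 19, 4, 21],
  [27, 8, 32, 26, 32, 24, 11, 2, 21],
  [26, 12, 7, 32, 31, 2, 32, 24, 10, 3, 32, 18, 1],
  [31, 12, 19, 7, 32, 26, 2, 32, 24, 32, 1, 3, 32, 12, 3]]

/-- Certificate of step Ll. -/
def certLl : List (List (ℕ × List ℕ)) := [
  [(0, [0]), (1, [0]), (2, [0]), (3, [0]), (4, [0]), (5, [0]), (6, [0]), (7, [0]), (8, [0]), (9, [0]), (10, [0]), (11, [0]), (12, [0]), (13, [0]), (14, [0]), (15, [0]), (16, [0])],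
  [(0, [1]), (16, [4, 2, 1, 1, 2, 1, 1]), (9, [2, 1, 1, 5, 2, 1, 1, 1]), (7, [1, 2, 3, 1, 2, 1, 1]), (12, [2, 5, 1, 1, 1, 2]), (3, [2, 1, 2, 3, 1, 1, 1]), (2, [6, 5, 4]), (1, [2, 1, 1, 1]), (15, [6, 2, 1, 1, 2]), (10, [4, 3]), (8, [5, 2, 1, 1, 1]), (13, [6, 1, 1, 1, 2, 1, 1]), (5, [1, 6, 1, 2, 1]), (4, [2, 1, 1, 5, 1, 2, 1]), (14, [2, 3, 1, 1, 1, 2, 1, 1]), (11, [3, 2, 1, 1, 2]), (6, [2, 1, 5, 1, 2, 1])],
  [(0, [2]), (2, [1, 6, 3, 2, 1, 1, 1]), (1, [2, 5, 1, 1]), (4, [2, 5, 1, 2, 1]), (3, [2, 1, 6, 1, 2, 1, 1]), (8, [1, 5, 1, 1, 2, 1, 1]), (12, [1, 1, 6, 2, 1]), (7, [4, 2]), (5, [3, 1, 2]), (9, [1, 2, 3, 1, 1]), (11, [1, 1, 5, 1, 1]), (10, [2, 1, 6, 1, 2, 1, 1, 1]), (6, [3, 1, 1, 2, 1]), (13, [6, 4, 2]), (14, [1, 5, 2, 1, 1]), (16, [2, 1, 1, 6, 1, 2, 1, 1]), (15, [5, 4, 1])],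
  [(0, [3]), (8, [1, 5, 1, 2, 1]), (11, [4, 1, 1, 2]), (14, [3, 1, 1, 1, 2, 1, 1]), (13, [5, 1]), (16, [1, 1, 1, 2, 5, 1]), (7, [1, 1, 2, 1, 1, 6, 1]), (6, [3, 2, 1]), (1, [1, 6, 3, 1, 2, 1]), (12, [2, 3, 1, 2, 1]), (15, [1, 2, 1, 1, 1]), (2, [1, 1, 1, 2, 5, 1]), (9, [5, 2, 1, 1, 2, 1, 1]), (4, [4, 2, 1, 1, 1, 2, 1, 1]), (3, [1, 2, 3]), (10, [2, 1, 1]), (5, [4, 1, 1, 2])],
  [(0, [4]), (16, [5, 2, 1, 1, 2, 1, 1, 1]), (15, [6, 5, 1, 2, 1]), (12, [1, 5, 1, 2, 1]), (6, [3, 2, 1, 1, 2, 1, 1]), (8, [2, 3, 1, 2, 1]), (4, [2, 1, 6, 2, 1]), (13, [5, 1, 1, 2, 1, 1]), (5, [5, 2, 1, 1, 2, 1, 1]), (14, [2, 1, 1, 5, 2, 1, 1]), (11, [6, 1, 1, 2, 1, 1]), (10, [4, 1, 2, 1]), (3, [1, 6, 3, 1, 2, 1]), (7, [3, 1, 2, 1]), (9, [1, 5, 2, 1, 2]), (2, [1, 1, 6, 2, 1, 1]), (1, [2, 1, 2, 5])],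
  [(0, [5]), (4, [1, 2, 5, 1, 1, 2, 1, 1]), (12, [1, 6, 1]), (15, [2, 1, 2, 3, 1, 1]), (1, [3, 2, 1, 2]), (7, [1, 1, 6, 2, 1, 2, 1]), (16, [2, 1, 2, 3, 1]), (5, [6, 4, 2, 1, 1, 2]), (13, [1, 1, 1, 2]), (11, [1, 1, 2, 5, 1, 1, 1]), (14, [2, 1, 1, 2, 1]), (9, [6, 3, 2, 1]), (2, [3, 2, 1, 1, 1, 2, 1]), (8, [1, 1, 1, 2]), (10, [2, 1, 2, 1, 1]), (3, [1, 2, 3, 1, 1, 2]), (6, [2, 1, 5, 1, 2, 1, 1])],
  [(0, [6]), (2, [1, 6, 2, 1, 2, 1, 1]), (1, [2, 5, 1, 1, 2]), (6, [1, 1, 1, 2]), (12, [2, 1, 1, 1, 6, 2, 1]), (10, [5, 3, 1, 2]), (3, [1, 1, 1, 2]), (14, [5, 2, 3, 1, 1, 1]), (11, [1, 2, 1, 1, 5, 2]), (13, [2, 1, 1, 5, 2]), (5, [6, 5, 1, 1, 1, 2, 1, 1]), (8, [2, 5, 1, 2, 1, 1]), (4, [3, 1, 1]), (9, [2, 5, 1, 2, 1, 1, 1]), (7, [5, 2, 3, 1, 1, 1]), (16, [4, 1, 1, 2, 1, 1, 1]), (15, [2, 5, 1])],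
  [(1, []), (2, []), (4, []), (5, []), (6, []), (8, []), (10, []), (11, []), (9, [4, 1, 1, 2, 1, 1, 1]), (13, []), (14, []), (15, []), (16, []), (0, [4, 1, 1, 1]), (12, [1, 5, 2, 1, 2, 1, 1]), (3, [4, 3]), (7, [6, 1, 2, 1, 1])],
  [(0, [4, 1, 6, 2, 1, 1]), (3, []), (2, [6, 3, 1, 1, 2, 1]), (1, []), (7, []), (9, []), (6, [1, 2, 3, 1, 1]), (4, []), (12, []), (5, []), (10, [5, 2, 1, 1, 1]), (15, [6, 4, 1, 1, 2, 1]), (8, []), (13, [1, 1, 2, 3, 1]), (16, [3, 2, 1, 1, 1]), (11, [1, 6, 1, 2, 1]), (14, [2, 1, 1, 6, 1])]]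

/-- Generators of step Le. -/
def gensLe : List (List ℕ) := [
  [26, 10, 7, 32, 26, 1, 32, 24, 32, 11, 3, 21],
  [29, 14, 19, 32, 27, 32, 24, 3, 3, 32, 13, 19, 3, 21],
  [30, 12, 21, 32, 27, 32, 26, 32, 24, 3, 3, 32, 14, 19, 4, 22],
  [26, 11, 18, 5, 21, 32, 28, 1, 32, 24, 32, 13, 19, 1, 21]]

/-- Representatives of step Le. -/
def repsLe : List (List ℕ) := [
  [],
  [26, 10, 7, 32, 26, 1, 32, 24, 32, 11, 3, 21],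
  [29, 14, 19, 32, 27, 32, 24, 3, 3, 32, 13, 19, 3, 21],
  [30, 12, 21, 32, 27, 32, 26, 32, 24, 3, 3, 32, 14, 19, 4, 22],
  [26, 11, 18, 5, 21, 32, 28, 1, 32, 24, 32, 13, 19, 1, 21],
  [29, 14, 19, 32, 27, 32, 24, 3, 3, 32, 13, 19, 3, 21, 26, 10, 7, 32, 26, 1, 32, 24, 32, 11, 3, 21],
  [30, 12, 21, 32, 27, 32, 26, 32, 24, 3, 3, 32, 14, 19, 4, 22, 26, 10, 7, 32, 26, 1, 32, 24, 32, 11, 3, 21],
  [26, 11, 18, 5, 21, 32, 28, 1, 32, 24, 32, 13, 19, 1, 21, 26, 10, 7, 32, 26, 1, 32, 24, 32, 11, 3, 21],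
  [30, 12, 21, 32, 27, 32, 26, 32, 24, 3, 3, 32, 14, 19, 4, 22, 29, 14, 19, 32, 27, 32, 24, 3, 3, 32, 13, 19, 3, 21],
  [26, 11, 18, 5, 21, 32, 28, 1, 32, 24, 32, 13, 19, 1, 21, 29, 14, 19, 32, 27, 32, 24, 3, 3, 32, 13, 19, 3, 21],
  [26, 11, 18, 5, 21, 32, 28, 1, 32, 24, 32, 13, 19, 1, 21, 30, 12, 21, 32, 27, 32, 26, 32, 24, 3, 3, 32, 14, 19, 4, 22],
  [30, 12, 21, 32, 27, 32, 26, 32, 24, 3, 3, 32, 14, 19, 4, 22, 29, 14, 19, 32, 27, 32, 24, 3, 3, 32, 13, 19, 3, 21, 26, 10, 7, 32, 26, 1, 32, 24, 32, 11, 3, 21],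
  [26, 11, 18, 5, 21, 32, 28, 1, 32, 24, 32, 13, 19, 1, 21, 29, 14, 19, 32, 27, 32, 24, 3, 3, 32, 13, 19, 3, 21, 26, 10, 7, 32, 26, 1, 32, 24, 32, 11, 3, 21],
  [26, 11, 18, 5, 21, 32, 28, 1, 32, 24, 32, 13, 19, 1, 21, 30, 12, 21, 32, 27, 32, 26, 32, 24, 3, 3, 32, 14, 19, 4, 22, 26, 10, 7, 32, 26, 1, 32, 24, 32, 11, 3, 21],
  [26, 11, 18, 5, 21, 32, 28, 1, 32, 24, 32, 13, 19, 1, 21, 30, 12, 21, 32, 27, 32, 26, 32, 24, 3, 3, 32, 14, 19, 4, 22, 29, 14, 19, 32, 27, 32, 24, 3, 3, 32, 13, 19, 3, 21],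
  [26, 11, 18, 5, 21, 32, 28, 1, 32, 24, 32, 13, 19, 1, 21, 30, 12, 21, 32, 27, 32, 26, 32, 24, 3, 3, 32, 14, 19, 4, 22, 29, 14, 19, 32, 27, 32, 24, 3, 3, 32, 13, 19, 3, 21, 26, 10, 7, 32, 26, 1, 32, 24, 32, 11, 3, 21]]

/-- Certificate of step Le. -/
def certLe : List (List (ℕ × List ℕ)) := [
  [(1, []), (0, []), (5, []), (6, []), (7, []), (2, []), (3, []), (4, []), (11, []), (12, []), (13, []), (8, []), (9, []), (10, []), (15, []), (14, [])],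
  [(2, []), (5, []), (0, []), (8, []), (9, []), (1, []), (11, []), (12, []), (3, []), (4, []), (14, []), (6, []), (7, []), (15, []), (10, []), (13, [])],
  [(3, []), (6, []), (8, []), (0, []), (10, []), (11, []), (1, []), (13, []), (2, []), (14, []), (4, []), (5, []), (15, []), (7, []), (9, []), (12, [])],
  [(4, []), (7, []), (9, []), (10, []), (0, []), (12, []), (13, []), (1, []), (14, []), (2, []), (3, []), (15, []), (5, []), (6, []), (8, []), (11, [])]]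

/-- Generators of step Lf. -/
def gensLf : List (List ℕ) := [
  [26, 10, 7, 32, 26, 1, 32, 24, 32, 11, 3, 21],
  [29, 14, 19, 32, 27, 32, 24, 3, 3, 32, 13, 19, 3, 21],
  [30, 12, 21, 32, 27, 32, 26, 32, 24, 3, 3, 32, 14, 19, 4, 22],
  [26, 11, 18, 5, 21, 32, 28, 1, 32, 24, 32, 13, 19, 1, 21],
  [16, 19, 2, 32, 26, 1, 32, 24, 3, 3, 32, 16, 19, 4]]

/-- Representatives of step Lf. -/
def repsLf : List (List ℕ) := [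
  [],
  [16, 19, 2, 32, 26, 1, 32, 24, 3, 3, 32, 16, 19, 4]]

/-- Certificate of step Lf. -/
def certLf : List (List (ℕ × List ℕ)) := [
  [(0, [0]), (1, [3, 1, 0])],
  [(0, [1]), (1, [1])],
  [(0, [2]), (1, [2, 1])],
  [(0, [3]), (1, [3])],
  [(1, []), (0, [])]]

/-- Generators of step Ln. -/
def gensLn : List (List ℕ) := [
  [21],
  [27, 13, 18, 8, 22, 32, 28, 32, 24, 1, 32, 13, 19, 4]]

/-- Representatives of step Ln. -/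
def repsLn : List (List ℕ) := [
  [],
  [27, 13, 18, 8, 22, 32, 28, 32, 24, 1, 32, 13, 19, 4],
  [27, 13, 18, 8, 22, 32, 28, 32, 24, 1, 32, 13, 19, 4, 27, 13, 18, 8, 22, 32, 28, 32, 24, 1, 32, 13, 19, 4]]

/-- Certificate of step Ln. -/
def certLn : List (List (ℕ × List ℕ)) := [
  [(0, [0]), (1, [0]), (2, [0])],
  [(1, []), (2, []), (0, [])]]

/-- Order of keys. -/
def sort32 : List ℕ := [0, 30, 18, 11, 10, 3, 4, 5, 6, 7, 20, 28, 8, 14, 21, 26, 24, 25, 15, 29, 23, 22, 12, 17, 2, 16, 31, 1, 27, 9, 13, 19]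

/-- Order of keys. -/
def sort9 : List ℕ := [0, 1, 2, 6, 3, 8, 5, 4, 7]

/-- An element of order seventeen. -/
def yWord : List ℕ := [25, 32, 24, 15, 19, 21]

/-- An element of order five. -/
def fiveWord : List ℕ := [25, 11, 18, 2, 22, 32, 30, 2, 32, 24, 10, 3, 32, 15, 8, 25, 11, 18, 2, 22, 32, 30, 2, 32, 24, 10, 3, 32, 15, 8, 25, 11, 18, 2, 22, 32, 30, 2, 32, 24, 10, 3, 32, 15, 8]

/-- The representatives of the small elementary group as products. -/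
def idxLe : List (List ℕ) := [[], [0], [1], [2], [3], [1, 0], [2, 0], [3, 0], [2, 1], [3, 1], [3, 2], [2, 1, 0], [3, 1, 0], [3, 2, 0], [3, 2, 1], [3, 2, 1, 0]]

/-- The step in the torus used for the group of order nine. -/
def tauWord : List ℕ := [25, 11, 18, 2, 22, 32, 30, 2, 32, 24, 10, 3, 32, 15, 8]

end Cfsg.Lib.Spor.J3
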