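import Cfsg.Agent.Spor.J3.PermData

/-!
The subgroup of index 6156 has order 24480 and the action on its cosets.
-/

set_option autoImplicit false
set_option Elab.async false

namespace Cfsg.Lib.Spor.J3

open Cfsg.Spor

theorem coverLs_ok : coverOK [] gensLs repsLs certLs = true := by decide +kernel
theorem coverLt_ok : coverOK gensLs gensLt repsLt certLt = true := by decide +kernel
theorem coverLu_ok : coverOK gensLt gensLu repsLu certLu = true := by decide +kernel
theorem coverLb_ok : coverOK gensLu gensLb repsLb certLb = true := by decide +kernel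
theorem coverLl_ok : coverOK gensLb gensLl repsLl certLl = true := by decide +kernel
theorem coverLe_ok : coverOK [] gensLe repsLe certLe = true := by decide +kernel
theorem coverLf_ok : coverOK gensLe gensLf repsLf certLf = true := by decide +kernel
theorem coverLn_ok : coverOK gensLs gensLn repsLn certLn = true := by decide +kernel

theorem lens_ok : repsLs.length = 3 ∧ repsLt.length = 15 ∧ repsLu.length = 2 ∧ repsLb.length = 16 ∧
    repsLl.length = 17 ∧ repsLe.length = 16 ∧ repsLf.length = 2 ∧ repsLn.length = 3 ∧ sort32.length = 32 ∧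
    sort9.length = 9 := by decide +kernel

theorem distinct32_ok : distinctOK (prodList repsLf (prodList repsLe [[]])) sort32 = true := by decide +kernel
theorem distinct9_ok : distinctOK (prodList repsLn (prodList repsLs [[]])) sort9 = true := by decide +kernel

theorem gens_sub : (∀ g ∈ gensLe, g ∈ gensLf) ∧ (∀ g ∈ gensLs, g ∈ gensLn) ∧ (∀ g ∈ gensLf, g ∈ gensLl) ∧
    gensLl.all lettersOK = true ∧ [21] ∈ gensLl ∧ yWord ∈ gensLl ∧ tauWord ∈ gensLl := by decide +kernel

theorem reps_shape : repsLe = idxLe.map (flatIdx gensLe) ∧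
    idxLe.all (fun l => l.all fun i => decide (i < gensLe.length)) = true ∧
    repsLs = [[], [21], [21, 21]] ∧ gensLs = [[21]] ∧ gensLn = [[21], repsLn.getD 1 []] ∧
    repsLn = [[], repsLn.getD 1 [], repsLn.getD 1 [] ++ repsLn.getD 1 []] ∧
    repsLf = [[], repsLf.getD 1 []] ∧ repsLf.getD 1 [] ∈ gensLf ∧
    fiveWord = tauWord ++ (tauWord ++ tauWord) := by decide +kernel

theorem five_step_ok : (eqw (repsLn.getD 1 []) (List.replicate 5 tauWord).flatten) = true := by decide +kernel

theorem prime_words_ok : (lettersOK yWord && lettersOK fiveWord && !(wcols yWord == oneCols) &&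
    !(wcols fiveWord == oneCols) && eqw (List.replicate 17 yWord).flatten [] &&
    eqw (List.replicate 5 fiveWord).flatten []) = true := by decide +kernel

section
variable {F : Type*} [Field F] [Fintype F] [CharP F 2] {ω : F} (hω : ω ^ 2 + ω + 1 = 0)

/-- The subgroup of index 6156. -/
def subL : Subgroup (GL F9 F) := genBy hω gensLl

theorem subL_le : subL hω ≤ threeJ3 F ω := by
  refine (Subgroup.closure_le _).mpr ?_
  rintro _ ⟨g, hg, rfl⟩
  exact wd_mem hω (List.all_eq_true.mp gens_sub.2.2.2.1 g hg)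

theorem card_subL_le : Nat.card (subL hω) ≤ 24480 := by
  refine (card_le_of_listed hω (listed_step hω coverLl_ok (listed_step hω coverLb_ok (listed_step hω coverLu_ok
    (listed_step hω coverLt_ok (listed_step hω coverLs_ok (listed_nil hω))))))).trans_eq ?_
  simp [prodList_length, lens_ok.1, lens_ok.2.1, lens_ok.2.2.1, lens_ok.2.2.2.1, lens_ok.2.2.2.2.1]

theorem card_subLf : Nat.card (genBy hω gensLf) = 32 := by
  refine le_antisymm ((card_le_of_listed hω (listed_step hω coverLf_ok (listed_step hω coverLe_ok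
    (listed_nil hω)))).trans_eq ?_) ?_
  · simp [prodList_length, lens_ok.2.2.2.2.2.1, lens_ok.2.2.2.2.2.2.1]
  · refine lens_ok.2.2.2.2.2.2.2.2.1.ge.trans (le_card_of_distinct hω distinct32_ok fun w hw => ?_)
    obtain ⟨hLe, hidx, -, -, -, -, hLf, hsw, -⟩ := reps_shape
    obtain ⟨r, hr, hw⟩ := List.mem_flatMap.mp hw
    obtain ⟨u, hu, rfl⟩ := List.mem_map.mp hw
    obtain ⟨r', hr', hu⟩ := List.mem_flatMap.mp hu
    obtain ⟨n, hn, rfl⟩ := List.mem_map.mp hu
    obtain rfl : n = [] := List.mem_singleton.mp hn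
    rw [List.append_nil, wd_append]
    refine mul_mem ?_ ?_
    · rw [hLf] at hr
      simp only [List.mem_cons, List.not_mem_nil, or_false] at hr
      rcases hr with rfl | rfl
      · simp
      · exact wd_mem_genBy hω hsw
    · rw [hLe] at hr'
      obtain ⟨l, hl, rfl⟩ := List.mem_map.mp hr'
      refine Subgroup.closure_mono ?_ (flatIdx_mem hω (gp := gensLe) (ks := l) fun i hi => ?_)
      · exact fun _ ⟨g, hg, hx⟩ => ⟨g, gens_sub.1 g hg, hx⟩
      · simpa using List.all_eq_true.mp (List.all_eq_true.mp hidx l hl) i hi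

theorem card_subLn : Nat.card (genBy hω gensLn) = 9 := by
  refine le_antisymm ((card_le_of_listed hω (listed_step hω coverLn_ok (listed_step hω coverLs_ok
    (listed_nil hω)))).trans_eq ?_) ?_
  · simp [prodList_length, lens_ok.1, lens_ok.2.2.2.2.2.2.2.1]
  · refine lens_ok.2.2.2.2.2.2.2.2.2.ge.trans (le_card_of_distinct hω distinct9_ok fun w hw => ?_)
    obtain ⟨-, -, hLs, -, hgn, hLn, -⟩ := reps_shape
    obtain ⟨r, hr, hw⟩ := List.mem_flatMap.mp hw
    obtain ⟨u, hu, rfl⟩ := List.mem_map.mp hw
    obtain ⟨r', hr', hu⟩ := List.mem_flatMap.mp hu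
    obtain ⟨n, hn, rfl⟩ := List.mem_map.mp hu
    obtain rfl : n = [] := List.mem_singleton.mp hn
    have h1 : wd hω (repsLn.getD 1 []) ∈ genBy hω gensLn := wd_mem_genBy hω (by rw [hgn]; simp)
    have h21 : wd hω [21] ∈ genBy hω gensLn := wd_mem_genBy hω (by rw [hgn]; simp)
    rw [List.append_nil, wd_append]
    refine mul_mem ?_ ?_
    · rw [hLn] at hr
      simp only [List.mem_cons, List.not_mem_nil, or_false] at hr
      rcases hr with rfl | rfl | rfl
      · simp
      · exact h1
      · rw [wd_append]; exact mul_mem h1 h1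
    · rw [hLs] at hr'
      simp only [List.mem_cons, List.not_mem_nil, or_false] at hr'
      rcases hr' with rfl | rfl | rfl
      · simp
      · exact h21
      · rw [show ([21, 21] : List ℕ) = [21] ++ [21] from rfl, wd_append]; exact mul_mem h21 h21

theorem genBy_Ln_le : genBy hω gensLn ≤ subL hω := by
  refine (Subgroup.closure_le _).mpr ?_
  rintro _ ⟨g, hg, rfl⟩
  rw [reps_shape.2.2.2.2.1] at hg
  simp only [List.mem_cons, List.not_mem_nil, or_false] at hg
  rcases hg with rfl | rfl
  · exact wd_mem_genBy hω gens_sub.2.2.2.2.1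
  · rw [eqw_sound hω five_step_ok, wd_flatten_replicate]
    exact pow_mem (wd_mem_genBy hω gens_sub.2.2.2.2.2.2) 5

theorem card_subL : Nat.card (subL hω) = 24480 := by
  have h := prime_words_ok
  simp only [Bool.and_eq_true, Bool.not_eq_true'] at h
  obtain ⟨⟨⟨⟨⟨hy, h5⟩, hy1⟩, h51⟩, hy17⟩, h55⟩ := h
  have hd : ∀ {w : List ℕ} {p : ℕ}, p.Prime → lettersOK w = true → (wcols w == oneCols) = false →
      eqw (List.replicate p w).flatten [] = true → wd hω w ∈ subL hω → p ∣ Nat.card (subL hω) := by
    intro w p hp hw hne hpow hm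
    haveI : Fact p.Prime := ⟨hp⟩
    have ho : orderOf (wd hω w) = p := orderOf_eq_prime
      (by rw [← wd_flatten_replicate, eqw_sound hω hpow, wd_nil]) (wd_ne_one hω hw hne)
    have h1 := orderOf_dvd_natCard (⟨_, hm⟩ : subL hω)
    rw [← Subgroup.orderOf_coe, ho] at h1
    exact h1
  have h17 := hd (by norm_num) hy hy1 hy17 (wd_mem_genBy hω gens_sub.2.2.2.2.2.1)
  have h5' := hd (by norm_num) h5 h51 h55 (by
    have hm := wd_mem_genBy hω gens_sub.2.2.2.2.2.2
    rw [reps_shape.2.2.2.2.2.2.2.2, wd_append, wd_append]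
    exact mul_mem hm (mul_mem hm hm))
  have h32 : 32 ∣ Nat.card (subL hω) := card_subLf hω ▸ Subgroup.card_dvd_of_le (genBy_mono hω gens_sub.2.2.1)
  have h9 : 9 ∣ Nat.card (subL hω) := card_subLn hω ▸ Subgroup.card_dvd_of_le (genBy_Ln_le hω)
  have h24 : 24480 ∣ Nat.card (subL hω) := by
    rw [show (24480 : ℕ) = 17 * 5 * 9 * 32 by norm_num]
    exact Nat.Coprime.mul_dvd_of_dvd_of_dvd (by norm_num)
      (Nat.Coprime.mul_dvd_of_dvd_of_dvd (by norm_num)
        (Nat.Coprime.mul_dvd_of_dvd_of_dvd (by norm_num) h17 h5') h9) h32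
  exact le_antisymm (card_subL_le hω) (Nat.le_of_dvd Nat.card_pos h24)

end

end Cfsg.Lib.Spor.J3
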