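import Cfsg.Agent.Spor.J3.Unitary

/-!
An element of order nineteen and the generators as products of its conjugates.
-/

set_option autoImplicit false

namespace Cfsg.Lib.Spor.J3

/-- An element of order nineteen. -/
def xWord : List ℕ := [30, 13, 18, 21, 32, 24, 11, 19, 7, 21]

/-- Its inverse. -/
def xInvWord : List ℕ := [26, 14, 4, 32, 24, 12]

/-- Conjugators with their inverses. -/
def conjPairs : List (List ℕ × List ℕ) := [
  ([16, 32, 24, 1, 3, 32, 13, 19], [32, 24, 3, 32, 14, 19, 22]),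
  ([26, 16, 18, 32, 28, 32, 24, 32, 1, 32, 15, 18, 3, 21], [31, 10, 19, 1, 22, 32, 24, 32, 24, 3, 32, 16, 19, 3, 22]),
  ([28, 7, 32, 24, 19, 8], [25, 16, 3, 32, 24, 16, 18, 7]),
  ([27, 14, 5, 32, 24, 11, 19, 3, 21], [26, 13, 6, 32, 24, 10, 19, 2, 22])]

/-- The generators as products of conjugates, four of the element and four of its inverse. -/
def genFactors : List (List ℕ) := [
  [5, 6, 0, 1, 0, 3, 4, 2, 0, 1, 0],
  [5, 4, 3, 6, 6, 1, 3, 3, 4, 1],
  [1, 0, 1, 4, 1, 3, 0, 1, 6, 0],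
  [1, 7, 4, 7, 2, 1, 4, 3, 0, 6],
  [5, 6, 6, 6, 0, 2, 3, 4, 5, 5],
  [4, 3, 0, 7, 4, 1, 2, 7, 0]]

end Cfsg.Lib.Spor.J3
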