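import Cfsg.Agent.Spor.J3.Gens

/-!
Certificates for the monomial subgroup, the point stabiliser and the double cosets.
-/

set_option autoImplicit false

namespace Cfsg.Lib.Spor.J3

/-- Coset representatives of step S. -/
def repsS : List (List ℕ) := [[], [21], [22]]

/-- Coset certificate of step S. -/
def certS : List (List (ℕ × List ℕ)) := [
  [(1, []), (2, []), (0, [])]]

/-- Coset representatives of step A. -/
def repsA : List (List ℕ) := [[], [1], [2], [3], [4], [5], [6], [7], [8]]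

/-- Coset certificate of step A. -/
def certA : List (List (ℕ × List ℕ)) := [
  [(3, []), (4, []), (5, []), (6, []), (7, []), (8, []), (0, []), (1, []), (2, [])],
  [(1, []), (2, []), (0, []), (4, []), (5, []), (3, []), (7, []), (8, []), (6, [])],
  [(0, [0]), (1, [0]), (2, [0]), (3, [0]), (4, [0]), (5, [0]), (6, [0]), (7, [0]), (8, [0])]]

/-- Coset representatives of step E. -/
def repsE : List (List ℕ) := [[], [18], [19]]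

/-- Coset certificate of step E. -/
def certE : List (List (ℕ × List ℕ)) := [
  [(0, [0]), (1, [0]), (2, [0])],
  [(0, [1]), (1, [1]), (2, [1])],
  [(0, [2]), (1, [2]), (2, [2])],
  [(1, []), (2, []), (0, [])]]

/-- Coset representatives of step B. -/
def repsB : List (List ℕ) := [[], [10], [11], [12], [13], [14], [15], [16]]

/-- Coset certificate of step B. -/
def certB : List (List (ℕ × List ℕ)) := [
  [(0, [0]), (1, [1, 1, 0]), (2, [1]), (3, [1, 0]), (4, [0, 0]), (5, [1, 0, 0]), (6, [1, 1]), (7, [1, 1, 0, 0])],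
  [(0, [1]), (1, [1, 0]), (2, [0, 0]), (3, [1, 0, 0]), (4, [1, 1]), (5, [1, 1, 0, 0]), (6, [0]), (7, [1, 1, 0])],
  [(1, []), (2, []), (3, []), (4, []), (5, []), (6, []), (7, []), (0, [])],
  [(0, [3]), (1, [3, 3]), (2, [3]), (3, [3, 3]), (4, [3]), (5, [3, 3]), (6, [3]), (7, [3, 3])],
  [(0, [2]), (1, [2]), (2, [2]), (3, [2]), (4, [2]), (5, [2]), (6, [2]), (7, [2])]]

/-- Coset representatives of step M. -/
def repsM : List (List ℕ) := [[], [24], [25], [26], [27], [28], [29], [30], [31]]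

/-- Coset certificate of step M. -/
def certM : List (List (ℕ × List ℕ)) := [
  [(0, [0]), (1, [0]), (2, [0]), (3, [4, 0]), (4, [4, 0]), (5, [4, 0]), (6, [4, 4, 0]), (7, [4, 4, 0]), (8, [4, 4, 0])],
  [(0, [1]), (1, [4, 1]), (2, [4, 4, 1]), (3, [1]), (4, [4, 1]), (5, [4, 4, 1]), (6, [1]), (7, [4, 1]), (8, [4, 4, 1])],
  [(0, [2]), (7, [2]), (5, [2]), (4, [2]), (2, [2]), (6, [2]), (8, [2]), (3, [2]), (1, [2])],
  [(0, [3]), (1, [4, 3, 1, 1]), (2, [4, 3, 1]), (3, [4, 3, 0, 0]), (4, [4, 4, 3, 1, 1, 0, 0]), (5, [4, 4, 3, 1, 0, 0]), (6, [4, 3, 0]), (7, [4, 4, 3, 1, 1, 0]), (8, [4, 4, 3, 1, 0])],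
  [(0, [4]), (1, [4]), (2, [4]), (3, [4]), (4, [4]), (5, [4]), (6, [4]), (7, [4]), (8, [4])],
  [(3, []), (4, [3, 1, 1]), (5, [3, 3, 1, 1]), (6, [1]), (7, [4, 3]), (8, [4, 4, 3, 3]), (0, []), (1, [3, 1, 1]), (2, [3, 3, 1, 1])]]

/-- Coset representatives of step H. -/
def repsH : List (List ℕ) := [[], [32], [3, 32], [1, 32], [1, 3, 32], [10, 3, 32], [10, 1, 32], [32, 1, 32], [32, 1, 3, 32], [3, 3, 32]]

/-- Coset certificate of step H. -/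
def certH : List (List (ℕ × List ℕ)) := [
  [(0, [0]), (2, []), (9, []), (4, []), (8, [2, 1, 2]), (7, [2, 2, 2, 2, 2, 2, 0, 2]), (5, []), (6, [2, 1, 1]), (3, [2, 2, 2, 1, 2, 2, 2]), (1, [])],
  [(0, [1]), (3, []), (4, []), (7, [1]), (6, [2]), (9, [2, 2, 2, 2, 2, 2, 2]), (2, [2, 2, 2, 2, 2, 2, 2]), (1, [1, 1]), (5, [2, 2, 2, 2, 1, 2, 2, 2]), (8, [2, 1, 2])],
  [(0, [2]), (1, [2, 2, 2, 2, 2, 2, 2]), (5, []), (6, []), (3, [2, 2, 2, 2, 2, 2, 2]), (7, [2, 2, 2, 2, 2, 2, 0]), (2, [2, 2, 2, 2, 2, 2]), (8, [2]), (9, [2, 2, 1, 2, 2, 2]), (4, [2, 2, 2, 2, 2, 2, 2])],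
  [(0, [3]), (1, [3]), (2, [3]), (3, [3]), (4, [3]), (5, [3, 3]), (6, [3, 3]), (7, [3]), (8, [3]), (9, [3])],
  [(0, [4]), (1, [4]), (2, [4]), (3, [4]), (4, [4]), (5, [4]), (6, [4]), (7, [4]), (8, [4]), (9, [4])],
  [(1, []), (0, []), (2, [2, 2, 2, 2, 0]), (7, []), (8, []), (6, [2, 2, 2, 2, 2, 2, 0]), (5, [2, 2, 1, 1]), (3, []), (4, []), (9, [2, 2, 1, 2, 2])]]

/-- The monomial list in increasing order of keys. -/
def sortM0 : List ℕ := [0, 9, 18, 66, 75, 57, 51, 33, 42, 324, 333, 342, 390, 399, 381, 375, 357, 366, 162, 171, 180, 228, 237, 219, 213, 195, 204, 243, 252, 261, 309, 318, 300, 294, 276, 285, 405, 414, 423, 471, 480, 462, 456, 438, 447, 486, 495, 504, 552, 561, 543, 537, 519, 528, 81, 90, 99, 147, 156, 138, 132, 114, 123, 567, 576, 585, 633, 642, 624, 618, 600, 609, 69, 78, 60, 45, 27, 36, 3, 12, 21, 48, 30, 39, 6, 15, 24, 63, 72,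 54, 393, 402, 384, 369, 351, 360, 327, 336, 345, 372, 354, 363, 330, 339, 348, 387, 396, 378, 231, 240, 222, 207, 189, 198, 165, 174, 183, 210, 192, 201, 168, 177, 186, 225, 234, 216, 312, 321, 303, 288, 270, 279, 246, 255, 264, 291, 273, 282, 249, 258, 267, 306, 315, 297, 474, 483, 465, 450, 432, 441, 408, 417, 426, 453, 435, 444, 411, 420, 429, 468, 477, 459, 555, 564, 546, 531, 513, 522, 489, 498, 507, 534, 516, 525, 492, 501, 510, 549, 558, 540, 150, 159, 141, 126, 108, 117, 84, 93, 102, 129, 111, 120, 87, 96, 105, 144, 153, 135, 636, 645, 627, 612, 594, 603, 570, 579, 588, 615, 597, 606, 573, 582, 591, 630, 639, 621, 55, 64, 73, 40, 49, 31, 25, 7, 16, 379, 388, 397, 364, 373, 355, 349, 331, 340, 217, 226, 235, 202, 211, 193, 187, 169, 178, 298, 307, 316, 283, 292, 274, 268, 250, 259, 460, 469, 478, 445, 454, 436, 430, 412, 421, 541, 550,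 559, 526, 535, 517, 511, 493, 502, 136, 145, 154, 121, 130, 112, 106, 88, 97, 622, 631, 640, 607, 616, 598, 592, 574, 583, 43, 52, 34, 19, 1, 10, 58, 67, 76, 22, 4, 13, 61, 70, 79, 37, 46, 28, 367, 376, 358, 343, 325, 334, 382, 391, 400, 346, 328, 337, 385, 394, 403, 361, 370, 352, 205, 214, 196, 181, 163, 172, 220, 229, 238, 184, 166, 175, 223, 232, 241, 199, 208, 190, 286, 295, 277, 262, 244, 253, 301, 310, 319, 265, 247, 256, 304, 313, 322, 280, 289, 271, 448, 457, 439, 424, 406, 415, 463, 472, 481, 427, 409, 418, 466, 475, 484, 442, 451, 433, 529, 538, 520, 505, 487, 496, 544, 553, 562, 508, 490, 499, 547, 556, 565, 523, 532, 514, 124, 133, 115, 100, 82, 91, 139, 148, 157, 103, 85, 94, 142, 151, 160, 118, 127, 109, 610, 619, 601, 586, 568, 577, 625, 634, 643, 589, 571, 580, 628, 637, 646, 604, 613, 595, 29, 38, 47, 14, 23, 5, 80, 62, 71,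 353, 362, 371, 338, 347, 329, 404, 386, 395, 191, 200, 209, 176, 185, 167, 242, 224, 233, 272, 281, 290, 257, 266, 248, 323, 305, 314, 434, 443, 452, 419, 428, 410, 485, 467, 476, 515, 524, 533, 500, 509, 491, 566, 548, 557, 110, 119, 128, 95, 104, 86, 161, 143, 152, 596, 605, 614, 581, 590, 572, 647, 629, 638, 17, 26, 8, 74, 56, 65, 32, 41, 50, 77, 59, 68, 35, 44, 53, 11, 20, 2, 341, 350, 332, 398, 380, 389, 356, 365, 374, 401, 383, 392, 359, 368, 377, 335, 344, 326, 179, 188, 170, 236, 218, 227, 194, 203, 212, 239, 221, 230, 197, 206, 215, 173, 182, 164, 260, 269, 251, 317, 299, 308, 275, 284, 293, 320, 302, 311, 278, 287, 296, 254, 263, 245, 422, 431, 413, 479, 461, 470, 437, 446, 455, 482, 464, 473, 440, 449, 458, 416, 425, 407, 503, 512, 494, 560, 542, 551, 518, 527, 536, 563, 545, 554, 521, 530, 539, 497, 506, 488, 98, 107, 89, 155, 137,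 146, 113, 122, 131, 158, 140, 149, 116, 125, 134, 92, 101, 83, 584, 593, 575, 641, 623, 632, 599, 608, 617, 644, 626, 635, 602, 611, 620, 578, 587, 569]

/-- Small atoms as words in five generators. -/
def m0Words : List (List ℕ) := [
  [],
  [1],
  [1, 1],
  [3],
  [1, 3],
  [1, 1, 3],
  [3, 3],
  [1, 3, 3],
  [1, 1, 3, 3],
  [],
  [10],
  [10, 10],
  [10, 10, 10],
  [10, 10, 10, 10],
  [10, 10, 10, 10, 10],
  [10, 10, 10, 10, 10, 10],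
  [10, 10, 10, 10, 10, 10, 10],
  [],
  [18],
  [18, 18],
  [],
  [21],
  [21, 21]]

/-- Representatives of the cover of the monomial group. -/
def repsK : List (List ℕ) := [
  [],
  [3],
  [1],
  [26],
  [6],
  [4],
  [10, 5],
  [26, 3, 21],
  [2],
  [26, 1],
  [26, 10],
  [29, 1],
  [7],
  [26, 6, 22],
  [26, 4, 21],
  [10, 8],
  [27, 10, 5, 21],
  [26, 10, 5, 21],
  [29, 4, 22],
  [26, 2],
  [26, 10, 4],
  [29, 2],
  [26, 10, 3],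
  [26, 10, 1],
  [26, 11],
  [26, 10, 18],
  [30, 10, 19, 21],
  [29, 10, 4],
  [29, 18, 1],
  [26, 7, 22],
  [26, 10, 6, 21],
  [29, 5, 22],
  [27, 10, 8, 22],
  [31, 10, 3, 22],
  [26, 10, 8, 21],
  [26, 11, 1, 21],
  [30, 10, 19, 5],
  [29, 10, 6, 22],
  [29],
  [26, 11, 6],
  [26, 10, 18, 4],
  [30, 10, 19, 4, 22],
  [29, 10, 8],
  [29, 18, 2],
  [26, 11, 5],
  [26, 12],
  [28, 11, 19, 3],
  [30, 11, 18, 21],
  [25, 10, 18, 6],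
  [29, 10, 7],
  [29, 10, 5],
  [29, 11, 6],
  [24, 10, 18, 8, 21],
  [29, 10, 19, 4],
  [26, 11, 7, 21],
  [30, 10, 19, 6, 21],
  [29, 10, 1, 22],
  [31, 10, 6, 21],
  [28, 11, 19, 4, 21],
  [30, 11, 18, 1],
  [25, 10, 18, 2],
  [29, 10, 22],
  [29, 11, 7, 22],
  [26, 12, 7],
  [28, 11, 19, 22],
  [30, 11, 18, 6, 22],
  [25, 10, 18, 1, 22],
  [29, 11, 3],
  [29, 10, 19, 8],
  [26, 12, 1],
  [28, 11, 19, 8, 21],
  [26, 12, 3],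
  [31, 12, 18, 22],
  [30, 11, 18, 3, 21],
  [29, 11, 1],
  [29, 11],
  [29, 12, 7],
  [29, 11, 18, 6],
  [28, 11, 19, 1],
  [29, 11, 4, 22],
  [29, 11, 18, 3]]

/-- Certificate of the cover. -/
def certK : List (List (ℕ × List ℕ)) := [
  [(1, []), (2, []), (0, [16]), (0, [18]), (0, [21]), (3, [])],
  [(4, []), (5, []), (6, []), (1, [18]), (1, [21]), (7, [])],
  [(5, []), (8, []), (5, [16]), (2, [18]), (2, [21]), (9, [])],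
  [(7, [22]), (9, []), (10, []), (7, [18, 21]), (3, [21]), (11, [])],
  [(0, []), (12, []), (12, [16]), (4, [18]), (4, [21]), (13, [])],
  [(12, []), (6, [10]), (4, [16]), (5, [18]), (5, [21]), (14, [])],
  [(15, []), (1, [16]), (2, [15]), (6, [19]), (6, [21]), (16, [])],
  [(13, [22]), (14, []), (17, []), (13, [18, 21]), (7, [21]), (18, [])],
  [(6, [10]), (0, []), (15, []), (8, [18]), (8, [21]), (19, [])],
  [(14, [22]), (19, []), (20, []), (14, [18, 21]), (9, [21]), (21, [])],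
  [(22, []), (23, []), (24, []), (25, []), (10, [21]), (26, [])],
  [(18, [21]), (21, []), (27, []), (28, []), (11, [21]), (2, [])],
  [(2, []), (15, [10]), (8, [16]), (12, [18]), (12, [21]), (29, [])],
  [(3, [22]), (29, []), (25, [18, 21]), (3, [18, 21]), (13, [21]), (28, [19, 22])],
  [(29, [22]), (16, [10]), (30, []), (29, [18, 21]), (14, [21]), (31, [])],
  [(8, [16]), (4, [16]), (1, [15]), (15, [19]), (15, [21]), (32, [])],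
  [(32, [22]), (7, [16]), (23, [16, 21]), (32, [19, 21]), (16, [21]), (33, [])],
  [(34, []), (22, [21]), (35, []), (10, [19, 22]), (17, [21]), (36, [])],
  [(28, [19]), (31, []), (37, []), (11, [18, 21]), (18, [21]), (5, [])],
  [(16, [10, 22]), (3, []), (34, [22]), (16, [10, 19, 21]), (19, [21]), (38, [])],
  [(25, [18, 22]), (17, [22]), (39, []), (40, []), (20, [21]), (41, [])],
  [(31, [21]), (38, []), (42, []), (43, []), (21, [21]), (8, [])],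
  [(30, [22]), (20, []), (44, []), (23, [19, 21]), (22, [21]), (44, [10, 19])],
  [(20, []), (40, [18, 22]), (36, [16, 19, 22]), (34, [19]), (23, [21]), (24, [10, 19, 22])],
  [(41, [16, 19]), (35, [22]), (45, []), (35, [18, 21]), (24, [21]), (46, [])],
  [(23, [19, 21]), (34, [19]), (26, [16, 22]), (17, [18, 21]), (25, [21]), (39, [10, 22])],
  [(44, [10, 19, 22]), (24, [10, 19, 22]), (47, []), (24, [10, 21]), (26, [21]), (48, [])],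
  [(49, []), (50, []), (51, []), (37, [19, 22]), (27, [21]), (52, [])],
  [(11, [18, 22]), (43, []), (53, []), (18, [19, 22]), (28, [21]), (12, [18, 21])],
  [(9, [22]), (32, [10]), (40, [18, 21]), (9, [18, 21]), (29, [21]), (43, [19, 22])],
  [(10, [21]), (25, [18]), (54, []), (20, [19, 22]), (30, [21]), (55, [])],
  [(43, [19]), (33, [10]), (56, []), (21, [18, 21]), (31, [21]), (6, [10])],
  [(19, [16, 22]), (13, [16]), (22, [16, 22]), (19, [16, 18, 21]), (32, [21]), (57, [])],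
  [(57, [21]), (18, [16]), (50, [16, 22]), (38, [16, 18, 21]), (33, [21]), (1, [16])],
  [(40, [18]), (30, []), (41, [16, 19, 21]), (22, [19, 22]), (34, [21]), (54, [10, 19, 21])],
  [(36, [16, 19]), (26, [16, 19, 22]), (52, [15, 18, 22]), (26, [16, 18, 21]), (35, [21]), (58, [])],
  [(54, [10, 19]), (44, [10, 19, 21]), (59, []), (44, [10]), (36, [21]), (60, [])],
  [(61, []), (49, [22]), (62, []), (53, [18, 21]), (37, [21]), (59, [10, 21])],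
  [(33, [10, 21]), (11, []), (61, [21]), (57, [10, 19, 21]), (38, [21]), (0, [])],
  [(24, []), (54, [22]), (63, []), (54, [18, 21]), (39, [21]), (64, [])],
  [(17, [19]), (10, [19, 21]), (55, [16, 22]), (30, [18, 21]), (40, [21]), (35, [10, 22])],
  [(39, [10, 19]), (36, [22]), (65, []), (36, [19, 21]), (41, [21]), (66, [])],
  [(53, [19, 21]), (37, [21]), (67, []), (56, [19, 22]), (42, [21]), (47, [10, 21])],
  [(21, [18, 22]), (57, [10, 19, 21]), (68, []), (31, [19, 22]), (43, [21]), (15, [10, 19, 21])],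
  [(55, [16, 19, 21]), (41, [16, 19]), (69, []), (41, [16, 18, 22]), (44, [21]), (70, [])],
  [(71, []), (69, []), (38, [13]), (47, [16, 22]), (45, [21]), (72, [])],
  [(66, [16, 19, 22]), (58, [22]), (32, [15, 19]), (60, [16, 18, 22]), (46, [21]), (40, [16])],
  [(73, []), (59, [21]), (33, [15, 18]), (52, [16, 19, 21]), (47, [21]), (62, [19])],
  [(70, [10, 19, 21]), (46, [10, 19, 22]), (14, [15, 19]), (66, [19, 22]), (48, [21]), (23, [])],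
  [(56, [21]), (42, []), (72, [10, 18, 22]), (61, [19, 22]), (49, [21]), (63, [11, 19])],
  [(42, []), (68, [19, 21]), (74, []), (49, [19, 21]), (50, [21]), (65, [10, 22])],
  [(75, []), (62, [21]), (76, []), (77, []), (51, [21]), (42, [16, 19])],
  [(63, [11, 19, 22]), (65, [10, 22]), (57, [16, 18, 21]), (45, [11, 18]), (52, [21]), (67, [10, 19, 21])],
  [(50, [18, 22]), (61, [18]), (77, []), (27, []), (53, [21]), (73, [10, 19, 21])],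
  [(35, []), (55, [16, 19, 22]), (73, [16, 19, 22]), (55, [16, 18, 21]), (54, [21]), (78, [])],
  [(26, []), (39, [10, 19, 22]), (71, [10, 19, 22]), (39, [10, 21]), (55, [21]), (76, [11, 19])],
  [(27, [22]), (53, [19]), (79, []), (68, [18, 21]), (56, [21]), (69, [11, 19])],
  [(38, [16, 21]), (28, [16, 19, 22]), (49, [16, 21]), (33, [19, 21]), (57, [21]), (4, [16])],
  [(60, [16, 19, 22]), (48, [16, 19, 22]), (3, [14, 18]), (70, [18, 21]), (58, [21]), (10, [16, 19, 22])],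
  [(45, [10, 19, 21]), (63, [10, 19, 21]), (28, [14, 18, 22]), (65, [18, 22]), (59, [21]), (77, [18, 22])],
  [(78, [10, 19, 22]), (70, [10, 19, 21]), (16, [16, 18]), (76, [11, 18, 22]), (60, [21]), (22, [21])],
  [(68, [19]), (56, []), (75, [22]), (50, [19]), (61, [21]), (45, [11, 19])],
  [(74, [22]), (77, [19]), (46, [16, 18]), (51, [18, 21]), (62, [21]), (37, [16, 19])],
  [(69, []), (47, [16, 19, 21]), (21, [13]), (71, [19, 21]), (63, [21]), (51, [16, 18])],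
  [(46, [22]), (78, [22]), (7, [14, 18]), (58, [18, 22]), (64, [21]), (34, [16, 19, 21])],
  [(47, [21]), (71, [10, 19]), (11, [14, 19]), (69, [10, 18, 21]), (65, [21]), (79, [19])],
  [(64, [10, 19, 22]), (60, [22]), (9, [15, 19]), (78, [10, 22]), (66, [21]), (17, [22])],
  [(51, []), (79, [21]), (66, [15, 18]), (80, []), (67, [21]), (50, [16, 19, 22])],
  [(37, [18]), (27, [18, 22]), (80, []), (42, []), (68, [21]), (71, [11, 21])],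
  [(52, [15, 18, 21]), (73, [16, 19, 21]), (18, [13, 21]), (59, [16]), (69, [21]), (75, [16, 18, 21])],
  [(76, [10, 18]), (66, [16, 19]), (13, [14, 18, 21]), (64, [18]), (70, [21]), (20, [16, 19])],
  [(59, [16, 19, 22]), (52, [15, 18, 21]), (31, [13, 21]), (73, [16, 22]), (71, [21]), (80, [16])],
  [(80, [16, 22]), (75, [16, 18, 21]), (64, [15]), (74, [16, 19]), (72, [21]), (56, [15, 18])],
  [(65, [22]), (45, [10, 19, 22]), (43, [14, 18]), (63, [10, 18]), (73, [21]), (74, [19])],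
  [(79, [21]), (72, [10, 18, 22]), (70, [16, 18]), (75, [18, 22]), (74, [21]), (61, [16, 19, 22])],
  [(67, []), (74, []), (58, [16, 18]), (72, [10, 21]), (75, [21]), (53, [16, 18, 22])],
  [(48, [15, 18, 22]), (64, [16, 18, 22]), (19, [13]), (46, [16, 19, 22]), (76, [21]), (25, [15, 19])],
  [(72, [10, 21]), (51, [18, 22]), (60, [15, 19, 21]), (62, [19, 22]), (77, [21]), (49, [16, 18, 22])],
  [(58, [22]), (76, [10, 18, 22]), (29, [14, 18]), (48, [16, 18, 22]), (78, [21]), (30, [16, 19, 22])],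
  [(62, []), (80, [19]), (78, [16, 18]), (67, [18, 21]), (79, [21]), (68, [16, 18, 22])],
  [(77, []), (67, [18, 22]), (48, [15, 19, 21]), (79, [19, 22]), (80, [21]), (27, [16, 18, 21])]]

/-- Representatives of the double cosets. -/
def repsT : List (List ℕ) := [
  [],
  [32, 24],
  [32, 24, 32, 24],
  [32, 26, 32, 24],
  [32, 27, 32, 24],
  [32, 28, 32, 24],
  [32, 26, 1, 32, 24],
  [32, 27, 1, 32, 24],
  [32, 28, 1, 32, 24],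
  [32, 29, 1, 32, 24],
  [32, 31, 1, 32, 24],
  [32, 26, 2, 32, 24],
  [32, 28, 2, 32, 24],
  [32, 30, 2, 32, 24],
  [32, 31, 2, 32, 24],
  [32, 24, 3, 32, 24],
  [32, 24, 32, 26, 32, 24],
  [32, 27, 32, 26, 32, 24],
  [32, 26, 32, 27, 32, 24],
  [32, 29, 32, 27, 32, 24]]

/-- Double coset certificate, part 0. -/
def certC0 : List (List (ℕ × List ℕ × List ℕ)) := [
  [(0, [], [32]), (0, [24, 10, 18, 8, 21], [16, 18, 1, 22]), (1, [24], []), (1, [26], []), (1, [27], []), (1, [28], []), (1, [26, 1], []), (1, [27, 1], []), (1, [28, 1], []), (1, [29, 1], []), (1, [31, 1], []), (1, [26, 2], []), (1, [28, 2], []), (1, [30, 2, 22], [21]), (1, [31, 2, 21], [22]), (1, [24, 3], []), (3, [24], []), (3, [27], []), (4, [26], []), (4, [29], [])],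
  [(0, [], [32, 3]), (1, [13, 6], [3]), (15, [13, 6], []), (3, [13, 19, 6], [18, 2]), (5, [24, 16, 19, 6, 22], [32, 1, 32, 11, 5, 21]), (8, [13, 19, 6], [18, 2, 21]), (6, [13, 19, 6], [18, 2]), (4, [13, 19, 6], [18, 2, 21]), (12, [13, 19, 6], [18, 2, 21]), (9, [13, 18, 6], [19, 1]), (3, [28, 12, 19, 7, 22], [10, 18, 6]), (11, [13, 19, 6], [18, 2]), (5, [13, 19, 6], [18, 2, 21]), (4, [27, 11, 18, 3], [11, 18, 1]), (10, [13, 18, 6], [19, 1, 22]), (6, [29, 13, 18, 4], [10, 3, 32, 14, 19, 1, 22]), (8, [25, 16, 7], [10, 1, 32, 13, 18, 3, 21]), (3, [27, 6], [32, 1, 3, 32, 14, 4, 22]), (11, [26, 11, 19, 4], [32, 1, 3, 32, 15, 6, 21]), (5, [26, 11, 8], [32, 1, 3, 32, 13, 18, 1, 21])],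
  [(0, [], [32, 1]), (1, [2], [2, 22]), (2, [18, 2], [19, 1]), (11, [2], []), (5, [25, 12, 18, 1], [32, 1, 32, 11, 19, 3]), (12, [2], [21]), (3, [2], []), (4, [2], [22]), (5, [2], [21]), (5, [26, 12, 5], [14, 18, 2]), (3, [30, 16, 7, 22], [10, 19, 8, 21]), (6, [2], []), (8, [2], [21]), (3, [28, 19, 2], [1, 3, 32, 14, 6]), (10, [2], [21]), (15, [18, 2], [19, 1]), (14, [26, 12, 6], [10, 3, 32, 11, 19, 3, 21]), (17, [10, 18, 1], [3, 3, 32, 10, 3]), (16, [27, 10, 18, 6, 21], [10, 1, 32, 4, 22]), (3, [31, 16, 18, 7], [1, 32, 12, 19, 2, 22])],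
  [(1, [15], [15]), (3, [], []), (8, [26, 13, 19, 8], [3, 3, 32, 16, 19, 5, 21]), (1, [29, 16], [16, 19, 1]), (18, [], []), (14, [29], [1, 32, 19, 22]), (6, [26, 19, 5, 22], [32, 1, 3, 32, 11, 18, 7]), (7, [28, 12, 18, 6, 21], [10, 1, 32, 16, 7]), (3, [27, 16, 18], [32, 1, 32, 16, 18, 3, 21]), (12, [30, 12, 18, 3, 21], [10, 1, 32, 16, 19, 3, 22]), (11, [31, 10, 19, 6, 22], [3, 3, 32, 11, 19, 8, 22]), (9, [29], [1, 21]), (10, [29], [32, 1, 32, 19, 22]), (13, [25, 12, 18, 4], [3, 32, 11, 19, 3, 22]), (9, [25, 12, 4], [3, 3, 32, 15, 19, 6, 21]), (8, [31, 14, 18, 5], [10, 1, 32, 15, 18, 2, 21]), (18, [10, 18, 1], [10, 3, 32, 7, 21]), (18, [26, 13, 19, 2], [32, 12, 19, 7, 21]), (2, [29, 19], [21]), (16, [27, 11, 1], [10, 1, 32, 13, 2, 21])],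
  [(0, [], [32, 6]), (1, [13, 3], [6]), (6, [29, 13, 18, 1], [10, 3, 32, 14, 19, 1, 21]), (3, [13, 18, 3], [19, 1]), (7, [13, 18, 3], [19, 1, 22]), (12, [13, 18, 3], [19, 1, 22]), (6, [13, 18, 3], [19, 1]), (5, [24, 16, 7, 22], [32, 1, 32, 11, 18, 4, 21]), (5, [13, 18, 3], [19, 1, 22]), (9, [13, 19, 3], [18, 2]), (14, [13, 19, 3], [18, 2, 21]), (11, [13, 18, 3], [19, 1]), (8, [13, 18, 3], [19, 1, 22]), (3, [30, 13, 18, 8, 21], [1, 3, 32, 14, 18, 8, 22]), (3, [28, 12, 18, 5], [10, 7, 21]), (2, [13, 3], []), (6, [31, 13, 6, 22], [10, 1, 32, 10, 19, 6, 22]), (17, [13, 6], [32, 1, 3, 32, 14, 4]), (11, [25, 12, 19, 6, 21], [11, 19, 1, 22]), (14, [28, 15, 19, 8, 21], [32, 1, 3, 32, 13, 22])],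
  [(0, [], [32, 4]), (1, [11, 8], [7, 21]), (6, [25, 11, 6, 22], [10, 3, 32, 14, 22]), (6, [11, 18, 8], [19, 1]), (5, [29, 14, 4], [32, 1, 32, 11, 18, 4, 22]), (5, [11, 18, 8], [19, 1, 21]), (11, [11, 18, 8], [19, 1]), (4, [11, 18, 8], [19, 1]), (8, [11, 18, 8], [19, 1, 21]), (6, [24, 11, 18, 8, 21], [32, 1, 3, 32, 11, 19, 7, 22]), (3, [27, 10, 18, 8, 21], [10, 7]), (3, [11, 18, 8], [19, 1]), (12, [11, 18, 8], [19, 1, 21]), (13, [11, 19, 8], [18, 2, 22]), (10, [11, 19, 8], [18, 2]), (2, [11, 19, 8], [18, 2]), (5, [28, 14, 18, 3], [3, 32, 12, 18, 5, 22]), (3, [29, 12, 18, 6, 22], [10, 1, 32, 14, 7, 21]), (16, [29, 13, 2], [10, 3, 32, 14, 19, 2, 22]), (15, [26, 10, 3], [10, 3, 32, 12, 19, 2, 21])],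
  [(0, [], [32, 10, 5]), (1, [14, 7], [8, 22]), (6, [31, 14, 19, 2], [10, 3, 32, 14, 18, 2]), (11, [24, 10, 18, 3, 22], [32, 1, 32, 12, 19, 6, 22]), (4, [14, 18, 7], [19, 1, 21]), (8, [14, 18, 7], [19, 1]), (3, [14, 18, 7], [19, 1]), (7, [30, 10, 18, 2], [32, 1, 3, 32, 10, 19, 4]), (12, [30, 10, 18, 6], [10, 1, 32, 11, 8, 21]), (5, [31, 18, 7, 22], [14, 19, 1, 22]), (10, [30, 10, 19, 7, 22], [1, 3, 32, 12, 7]), (6, [14, 18, 7], [19, 1]), (5, [14, 18, 7], [19, 1]), (4, [25, 12, 19, 2, 21], [11, 2, 21]), (14, [14, 19, 7], [18, 2, 22]), (2, [14, 18, 7], [19, 1]), (19, [26, 12], [32, 1, 32, 18, 22]), (3, [27, 18, 7], [3, 3, 32, 10, 3, 21]), (18, [13, 18, 5], [1, 3, 32, 16, 19, 8]), (17, [24, 10, 19, 7, 21], [1, 3, 32, 16, 19, 8])],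
  [(1, [15], [15, 3, 21]), (3, [19], [18, 2]), (18, [31, 12, 18, 5], [10, 3, 32, 10, 19, 3, 21]), (3, [29, 13, 18, 3], [19, 7, 22]), (11, [27, 11, 18, 2], [10, 3, 32, 15, 8]), (10, [25, 11, 8, 21], [10, 1, 22]), (15, [29, 11, 2], [4, 22]), (3, [29, 19, 8, 21], [10, 3, 32, 14]), (12, [24, 11, 8, 22], [1, 3, 32, 14, 19, 1]), (12, [28, 11, 5, 22], [32, 1, 3, 32, 13, 18, 2, 21]), (11, [24, 11, 19, 22], [3, 32, 16, 18, 5, 21]), (2, [31, 13, 18, 22], [10, 3, 32, 16, 8, 22]), (4, [24, 12, 2, 21], [1, 3, 32, 12, 5]), (5, [26, 15, 18, 4, 21], [32, 1, 3, 32, 13, 19, 22]), (2, [26, 13, 19, 5], [3, 3, 32, 22]), (12, [31, 10, 18, 4, 21], [32, 1, 32, 15, 19, 22]), (11, [26, 10, 19, 8, 21], [3, 3, 32, 11, 4, 22]), (13, [24, 13], [10, 3, 32, 5]), (7, [31, 12, 18, 2, 21], [10, 3, 32, 19, 1]), (5, [27, 12, 18, 7, 21], [32, 1, 3, 32, 16, 2])],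
  [(0, [], [32, 2]), (1, [1], [1, 21]), (2, [19, 1], [18, 2]), (6, [1], []), (7, [1], [21]), (8, [1], [22]), (11, [1], []), (5, [25, 12, 18, 3], [32, 1, 32, 11, 19, 3]), (12, [1], [22]), (6, [29, 19, 4, 21], [32, 1, 3, 32, 11, 18, 8, 22]), (14, [1], [22]), (3, [1], []), (5, [1], [22]), (4, [31, 15, 3], [11, 19, 21]), (3, [30, 16, 5, 21], [10, 19, 8, 22]), (15, [19, 1], [18, 2]), (4, [28, 16, 18, 7], [1, 32, 12, 19, 2, 21]), (17, [12, 18, 2], [10, 1, 32, 14, 7]), (5, [25, 15, 19, 8, 22], [3, 3, 32, 15, 19, 5, 21]), (8, [30, 13, 19, 5, 21], [10, 3, 32, 14, 18, 5, 22])]]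

/-- Double coset certificate, part 1. -/
def certC1 : List (List (ℕ × List ℕ × List ℕ)) := [
  [(1, [15], [15, 1]), (6, [], []), (11, [25, 10, 18, 3], [10, 3, 32, 16, 18]), (14, [10, 19, 8], [16, 18, 8]), (5, [25, 15, 19, 5], [3, 3, 32, 15, 19, 5, 21]), (11, [29, 11, 18, 2, 21], [10, 1, 32, 11, 19, 6, 22]), (1, [24, 7, 21], [32, 13, 4, 21]), (12, [27, 13, 19, 8, 21], [3, 3, 32, 16, 5, 22]), (9, [25, 11, 18, 7, 21], [10, 1, 32, 10, 22]), (8, [25, 11, 19, 4, 22], [32, 7, 21]), (5, [31, 14, 5, 21], [1, 3, 32, 15, 6, 22]), (4, [30, 10, 19, 5, 22], [32, 1, 3, 32, 12, 19, 8]), (2, [28, 11, 18, 5, 22], [1, 32, 11, 18, 21]), (6, [25, 18, 4, 21], [32, 1, 3, 32, 10, 19, 4, 21]), (2, [26, 13, 19, 6], [10, 3, 32, 15, 18, 3, 21]), (3, [29, 11, 5], [32, 1, 3, 32, 11, 1, 21]), (11, [27, 11, 18, 7, 22], [1, 32, 14, 18, 7, 22]), (2, [28, 12, 8, 21], [1, 32,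 16, 18, 2, 22]), (16, [26, 13, 6], [3, 3, 32, 19, 2, 21]), (4, [31, 10, 18, 3, 22], [12, 18, 4, 21])],
  [(1, [15], [16]), (4, [29, 14], [11, 19, 21]), (4, [26, 11, 18, 6], [32, 16, 19, 3]), (4, [29, 16, 19], [32, 18, 2, 22]), (1, [29, 14], [15, 18, 22]), (5, [25, 12, 19, 4], [10, 1, 32, 14, 19, 4]), (7, [24, 12, 3], [1, 3, 32, 14, 18, 7]), (12, [24, 12, 18, 22], [10, 1, 32, 11, 18, 6, 21]), (10, [24, 11, 19, 5, 21], [1, 32, 12, 19, 8]), (16, [24, 11, 2], [32, 1, 3, 32, 13, 6, 21]), (14, [31, 10, 18, 6], [3, 32, 11, 18, 3, 22]), (5, [24, 11, 18, 7, 21], [3, 3, 32, 13, 5]), (11, [28, 12, 18, 4, 21], [3, 3, 32, 14, 4, 21]), (8, [27, 18], [32, 14, 21]), (6, [28, 15, 18, 4, 22], [32, 1, 3, 32, 14, 1, 22]), (8, [27, 15, 19, 6, 21], [10, 1, 32, 12, 19, 5]), (8, [31, 11, 7], [1, 32, 11, 5, 22]), (3, [30, 15, 18, 6, 21], [10, 19, 8, 22]), (9, [29, 12,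 1], [10, 1, 32, 12, 19, 4]), (8, [25, 16, 19, 5, 21], [10, 3, 32, 10, 18])],
  [(1, [11], [11, 1]), (9, [], []), (18, [25, 11, 18, 8, 21], [3, 32, 10, 18, 6]), (3, [28, 16, 19, 7, 22], [1, 3, 32, 11, 8]), (8, [30, 13, 19, 3], [10, 3, 32, 14, 18, 5, 22]), (18, [26, 12], [3, 32, 12, 8, 22]), (5, [25, 14, 1], [10, 3, 32, 13, 18, 5, 22]), (14, [24, 16, 18, 7, 22], [1, 32, 3]), (18, [31, 10, 18, 3, 22], [32, 1, 3, 32, 11, 19, 5, 22]), (4, [26, 14, 4], [16, 19, 1]), (4, [28, 14, 19, 4, 22], [32, 1, 32, 16, 18, 22]), (5, [27, 10, 19, 5, 22], [10, 3, 32, 13, 18, 3]), (15, [27, 10, 18], [3, 32, 15, 18, 1]), (14, [26, 15, 19, 2], [32, 1, 3, 32, 16, 6]), (11, [31, 10, 19, 3, 21], [32, 10, 19, 6]), (5, [26, 18, 3], [3, 3, 32, 11, 18, 4]), (7, [28, 10, 18, 1], [1, 32, 16, 4, 22]), (9, [29, 12, 19, 8, 21], [3, 32, 8, 21]), (17, [29, 13, 18, 2], [1, 3, 32,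 15, 19, 2, 22]), (14, [27, 13, 18, 4, 22], [32, 1, 3, 32, 15, 2])],
  [(0, [], [32, 7]), (1, [15, 5], [4, 21]), (15, [29, 11, 19, 3], [32, 13, 18, 2, 21]), (6, [15, 19, 5], [18, 2]), (4, [15, 19, 5], [18, 2, 22]), (12, [26, 11, 19, 1], [10, 1, 32, 11, 19, 6, 21]), (11, [30, 11, 19, 21], [32, 1, 32, 12, 18, 7, 22]), (7, [26, 11, 19, 3], [32, 1, 3, 32, 10, 18, 5, 21]), (5, [15, 19, 5], [18, 2]), (6, [25, 15, 2], [32, 1, 3, 32, 11, 6]), (10, [26, 11, 18, 1], [1, 3, 32, 12, 18, 6, 22]), (3, [15, 19, 5], [18, 2]), (8, [15, 19, 5], [18, 2]), (3, [27, 15], [1, 3, 32, 14, 19, 7, 21]), (14, [15, 18, 5], [19, 1, 21]), (6, [24, 15, 3], [10, 3, 32, 14]), (15, [27, 11, 19, 3], [10, 5, 21]), (10, [28, 10, 19, 5], [13, 19, 1]), (5, [28, 16, 1], [32, 1, 3, 32, 12, 6, 21]), (16, [26, 10, 18, 3], [10, 1, 32, 10, 18, 1, 21])],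
  [(1, [15], [15, 6, 22]), (3, [18], [19, 1]), (13, [28, 10, 8, 21], [1, 3, 32, 11, 18, 7, 22]), (3, [29, 13, 19, 6, 22], [18, 5, 22]), (11, [27, 12, 8], [32, 1, 32, 14, 19, 3, 21]), (15, [29, 19, 7, 21], [10, 3, 32, 12, 19, 3, 21]), (2, [11, 4], [32, 13, 4, 21]), (14, [25, 16, 2], [1, 3, 32, 16]), (15, [29, 13, 18, 2], [3, 3, 32, 11, 4, 21]), (8, [28, 12, 18, 8], [3, 32, 12, 18, 22]), (15, [31, 11, 18, 3, 22], [32, 1, 3, 32, 14, 18, 3]), (6, [31, 11, 19, 5, 21], [10, 3, 32, 14, 19, 6]), (6, [31, 11, 19, 8], [3, 32, 13, 6, 21]), (4, [30, 14, 19, 8, 22], [32, 1, 3, 32, 16, 19, 22]), (16, [26, 13, 5], [32, 1, 32, 15, 19, 8, 21]), (9, [27, 10, 19, 2], [1, 32, 16, 18, 8, 21]), (4, [25, 11, 7, 21], [1, 32, 13, 18, 4, 22]), (2, [24, 10, 18, 6, 21], [1, 32, 19, 22]), (14, [26, 7], [3, 3, 32, 14, 18, 4]), (8, [26, 14], [10, 3, 32, 1, 21])],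
  [(1, [15], [15, 4, 21]), (6, [19], [18, 2]), (17, [25, 10, 19, 7], [10, 3, 32, 13, 3, 22]), (10, [12, 19, 3], [16, 18, 8, 21]), (5, [31, 10], [32, 1, 3, 32, 12, 6, 21]), (15, [31, 10, 19, 8, 22], [3, 32, 12, 18, 6]), (2, [13, 19, 6], [32, 1, 32, 13, 18, 3, 21]), (3, [28, 16, 8, 21], [32, 13, 5, 22]), (3, [24, 13, 18, 2], [1, 32, 15, 5, 22]), (9, [28, 10, 5], [32, 1, 3, 32, 13, 18, 21]), (14, [28, 16, 8, 21], [10, 3, 32, 14, 19, 1, 21]), (8, [29, 14, 19, 3], [3, 32, 12, 5]), (9, [24, 11, 4], [32, 11, 18, 5, 22]), (4, [25, 4], [3, 3, 32, 13, 2, 21]), (7, [31, 12, 18, 22], [3, 3, 32, 10, 19, 4]), (15, [27, 10, 19, 7], [10, 3, 32, 13, 18, 4]), (4, [27, 10, 18, 8, 21], [10, 3, 32, 7, 21]), (8, [27, 14, 19, 3], [10, 1, 32, 12, 19, 7]), (18, [29, 13, 4, 21], [3, 32, 10, 18, 6]), (6, [27, 4], [3, 3, 32, 18, 2, 22])],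
  [(0, [], [32, 10, 8]), (1, [10, 4], [5, 22]), (15, [10, 18, 4], [19, 1]), (11, [10, 19, 4], [18, 2]), (7, [10, 19, 4], [18, 2]), (5, [10, 19, 4], [18, 2, 22]), (3, [10, 19, 4], [18, 2]), (5, [28, 13, 19], [32, 1, 32, 11, 5, 21]), (8, [10, 19, 4], [18, 2, 22]), (5, [27, 13, 19, 7], [14, 22]), (14, [10, 18, 4], [19, 1]), (6, [10, 19, 4], [18, 2]), (12, [10, 19, 4], [18, 2, 22]), (13, [10, 18, 4], [19, 1, 21]), (3, [26, 19, 4, 22], [10, 18, 6]), (6, [27, 10, 19, 8], [10, 3, 32, 14, 18, 2, 22]), (17, [24, 13, 19, 7], [32, 16, 19, 6, 21]), (10, [28, 10, 18, 3, 21], [3, 3, 32, 19, 7, 22]), (4, [24, 15, 18, 5], [1, 3, 32, 16, 19, 8]), (6, [30, 15, 18, 21], [3, 3, 32, 14, 1, 21])],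
  [(1, [14], [15, 5, 21]), (11, [26, 12, 19, 5], [32, 1, 32, 12, 18, 7]), (2, [24, 10, 18, 8, 21], [32, 16, 19, 6, 22]), (14, [15, 2], [16, 19, 1, 21]), (4, [29, 13, 18, 2], [1, 3, 32, 16, 19, 8, 22]), (10, [29, 13, 1], [3, 32, 15, 8, 21]), (15, [10, 18, 8], [1, 32, 13, 19, 4, 21]), (12, [31, 11, 18, 1, 22], [10, 3, 32, 12, 19, 2]), (8, [25, 11, 5, 21], [1, 3, 32, 14, 18, 8]), (15, [28, 12, 7, 22], [10, 1, 32, 10, 5]), (10, [27, 11, 19], [32, 1, 32, 18, 3, 21]), (10, [25, 10, 18, 1, 22], [32, 1, 3, 32, 10, 5]), (8, [30, 19, 1], [3, 3, 32, 12, 18, 1, 21]), (8, [29, 12, 8], [32, 1, 3, 32, 14, 19, 3, 22]), (16, [31, 10, 4], [1, 32, 16, 19, 6, 21]), (8, [28, 12, 19], [10, 3, 32, 12, 3, 22]), (16, [26, 18, 2], [1, 3, 32, 14, 18, 8, 22]), (18, [30, 12, 19, 7, 22], [1, 32, 15, 18, 8]), (9, [28, 13, 3], [10, 3, 32, 19, 2, 21]), (3, [31, 16, 8, 22],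 [1, 32, 15, 19, 6, 21])],
  [(1, [15], [16, 5, 21]), (4, [29, 14, 18, 5, 22], [11, 18, 1, 22]), (9, [30, 12, 18, 6], [10, 1, 32, 12, 5]), (18, [25, 12, 2], [3, 3, 32, 10, 18, 1, 22]), (4, [29, 14, 19, 5], [18, 6, 22]), (7, [13, 19, 8], [1, 3, 32, 11, 1, 21]), (7, [30, 13, 18, 2, 22], [3, 3, 32, 11, 18, 8, 22]), (14, [29, 10, 7], [8]), (6, [28, 18, 5], [1, 32, 14, 18, 21]), (16, [26, 11, 18, 3], [3, 32, 11, 19]), (10, [25, 11, 19, 8], [32, 1, 3, 32, 11, 19, 5, 21]), (16, [27, 10, 19, 4, 22], [10, 1, 32, 15, 18, 2, 22]), (4, [27, 15, 19, 4], [3, 32, 15, 18, 4, 22]), (4, [25, 18, 7, 21], [1, 3, 32, 13, 18, 1, 21]), (7, [28, 11, 19, 4], [32, 16, 21]), (6, [24, 14, 18, 3, 22], [10, 1, 32, 18, 1, 22]), (14, [28, 15, 6], [3, 32, 19, 5, 22]), (17, [27, 11, 18, 7, 22], [10, 1, 32, 16, 7, 21]), (3, [31, 15, 7, 22], [32, 15, 19, 1]), (14, [24, 10, 19,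 8, 21], [32, 1, 3, 32, 5])]]

/-- Double coset certificate, part 2. -/
def certC2 : List (List (ℕ × List ℕ × List ℕ)) := [
  [(1, [11], [11, 4, 22]), (9, [18], [19, 1]), (2, [24, 11, 4], [3, 32, 10, 18, 6, 22]), (8, [25, 19, 7], [1, 3, 32, 16, 1]), (16, [25, 12, 18, 6, 22], [10, 1, 32, 10, 18, 1, 21]), (11, [25, 12, 18, 5, 22], [32, 1, 3, 32, 15, 2, 22]), (5, [24, 10, 18, 1, 22], [1, 32, 12, 19, 5, 21]), (14, [28, 13, 7, 22], [10, 3, 32, 11, 18, 5, 22]), (17, [29, 12, 18, 22], [1, 32, 11, 19, 1]), (12, [25, 11, 4, 21], [32, 1, 3, 32, 13, 19, 7]), (14, [29, 12, 18, 2], [3, 3, 32, 10, 19, 2, 22]), (15, [26, 13, 8], [1, 3, 32, 4, 21]), (12, [25, 10, 18], [1, 32, 19, 4, 22]), (10, [24, 10, 19, 2, 21], [32, 1, 3, 32, 18, 3]), (14, [31, 10, 4], [10, 1, 32, 19, 7, 22]), (14, [26, 13, 18], [32, 1, 3, 32, 8, 21]), (14, [25, 11, 5, 21], [3, 32, 16, 19,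 2, 21]), (9, [25, 13, 2, 22], [32, 1, 3, 32, 13, 19, 6]), (11, [28, 11, 19, 5], [1, 32, 19, 7, 21]), (16, [12, 19, 5], [1, 32, 14, 19, 5])],
  [(1, [15], [15, 2]), (11, [], []), (18, [28, 10, 18, 21], [10, 1, 32, 5, 22]), (10, [10, 18, 4], [16, 3]), (16, [27, 10, 18, 1], [10, 1, 32, 4, 21]), (11, [31, 10, 19, 7, 22], [3, 3, 32, 12, 18, 4]), (6, [26, 18, 6, 21], [3, 3, 32, 19, 5]), (8, [29, 11, 18, 1, 21], [10, 3, 32, 3, 22]), (9, [28, 12, 18, 3], [32, 12, 18, 6, 22]), (3, [29, 11, 4], [10, 3, 32, 10, 3, 22]), (15, [30, 12, 19, 21], [3, 32, 11, 19, 2, 22]), (4, [26, 14], [16, 19, 2, 21]), (4, [28, 14, 19], [3, 32, 12, 8, 22]), (8, [24, 14, 19, 8], [32, 1, 32, 4, 21]), (18, [31, 11, 18, 2, 22], [10, 3, 32, 10, 1, 21]), (3, [27, 16, 19, 5, 22], [3, 32, 14, 18, 5]), (18, [13, 4], [1, 32, 13, 18, 4, 21]), (11, [28, 11, 18, 8], [3, 32, 13, 4, 21]),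 (2, [24, 11, 19, 7, 22], [3, 32, 10, 18, 6]), (17, [26, 12, 2], [1, 3, 32, 11, 19, 5, 22])],
  [(1, [15], [16, 4]), (13, [27, 12, 18, 7, 21], [10, 3, 32, 15, 19, 5, 21]), (14, [28, 11, 5, 22], [1, 32, 16, 4, 22]), (17, [27, 12, 1], [10, 1, 32, 11, 19, 22]), (13, [12, 18, 5], [15, 3, 22]), (4, [13, 4], [10, 1, 32, 12, 19, 1, 21]), (7, [30, 11, 5, 21], [1, 3, 32, 18, 8, 22]), (14, [31, 11, 19, 4], [10, 1, 32, 10, 3, 21]), (2, [28, 13, 18], [10, 3, 32, 11, 1]), (14, [25, 11], [3, 32, 15, 18, 3, 22]), (11, [28, 10, 19, 5], [10, 3, 32, 18, 22]), (5, [31, 10, 18, 6], [32, 1, 3, 32, 10, 18, 7, 21]), (9, [24, 10, 6], [10, 3, 32, 12, 6, 21]), (6, [29, 11, 19, 3], [12, 21]), (3, [24, 10, 18, 6, 21], [10, 1, 32, 15, 1, 21]), (4, [25, 15, 7], [1, 32, 11, 18, 4, 22]), (4, [24, 11, 18, 7, 21], [32, 1, 32, 19, 8, 21]), (3, [29, 12], [10, 1, 32, 15, 19, 7]),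 (4, [31, 19, 4, 22], [1, 32, 15, 4, 21]), (16, [18, 5], [1, 32, 16, 19, 3])],
  [(1, [11], [11, 2]), (6, [29, 19, 3, 21], [32, 1, 3, 32, 11, 18, 8, 22]), (9, [25, 12, 19, 3], [32, 1, 3, 32, 13, 19, 7]), (7, [26, 18], [32, 13, 4]), (3, [31, 16, 18, 22], [1, 32, 12, 19, 2, 22]), (18, [30, 11, 18, 21], [15, 18, 7, 22]), (9, [31, 11, 2], [10, 3, 32, 15, 2]), (6, [31, 2, 21], [14, 4, 21]), (2, [29, 13, 18, 6, 21], [32, 1, 3, 32, 10, 19, 4, 21]), (4, [30, 10, 19, 6, 21], [32, 1, 3, 32, 12, 19, 7, 21]), (2, [28, 11, 18, 2, 22], [1, 3, 32, 11, 19, 21]), (14, [25, 15, 18, 5], [32, 8]), (3, [26, 15, 18, 1, 21], [10, 1, 32, 11, 19, 6, 21]), (10, [30, 13, 18, 7, 21], [3, 3, 32, 14, 4, 22]), (11, [29, 11, 18, 8, 21], [32, 14, 8]), (5, [27, 10, 19, 7], [3, 32, 12, 18, 6]), (9, [25, 12], [1, 32, 11, 5, 22]), (4, [24, 10, 18, 7, 21], [32, 1, 3, 32, 14, 18]),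 (13, [24, 13, 18, 4], [3, 3, 32, 13, 19, 2, 21]), (5, [24, 19, 6, 21], [32, 1, 3, 32, 15, 18, 8])],
  [(1, [15], [16, 3]), (3, [25, 16, 7], [1, 3, 32, 14, 19, 7, 22]), (12, [26, 10, 7], [32, 1, 32, 10, 4]), (9, [27, 12, 19, 2, 22], [32, 1, 3, 32, 19, 1, 22]), (13, [30, 10, 6, 22], [10, 3, 32, 13, 18, 5, 22]), (1, [28, 11, 19, 7, 21], [1, 3, 32, 11, 1, 22]), (7, [24, 12, 6], [10, 1, 32, 12, 18, 22]), (8, [25, 18, 4, 21], [1, 3, 32, 11]), (12, [26, 19, 8, 21], [32, 1, 32, 12, 18, 1, 22]), (18, [29, 13, 5, 21], [1, 32, 16, 19, 4, 22]), (14, [24, 11, 19, 5, 21], [32, 10, 6, 22]), (4, [24, 15, 19, 22], [15, 18, 6]), (8, [28, 13, 18, 8, 22], [1, 32, 21]), (5, [24, 13, 19, 3, 22], [1, 3, 32, 13, 3, 21]), (6, [25, 14, 7], [10, 1, 32, 14, 18, 4]), (19, [4], [1, 32, 11, 18, 4, 22]), (3, [27, 12], [3, 32, 12, 18, 6, 22]), (17, [13, 18, 1], [32, 1, 3, 32,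 15, 19, 5, 21]), (18, [28, 13, 3], [10, 1, 32, 7]), (6, [28, 11, 18, 22], [3, 3, 32, 10, 4, 22])],
  [(1, [15], [16, 1]), (3, [25, 16, 19], [1, 3, 32, 14, 6]), (4, [31, 11, 19, 3, 21], [10, 1, 32, 13, 19, 5, 21]), (17, [29, 19, 4, 21], [32, 14, 19, 7, 21]), (13, [10, 19, 3], [15, 19, 6, 22]), (7, [11, 18, 2], [3, 32, 11, 18, 1, 22]), (6, [30, 18, 3, 21], [32, 1, 32, 10, 19, 5, 21]), (7, [27, 11, 19, 8, 21], [3, 3, 32, 3]), (4, [30, 10, 6, 22], [10, 1, 32, 10, 18, 5]), (14, [24, 15], [32, 1, 3, 32, 16, 19, 4, 21]), (15, [31, 10, 7], [10, 1, 32, 16, 18, 7]), (16, [26, 19, 6, 21], [10, 3, 32, 12, 3]), (14, [31, 13], [32, 1, 3, 32, 5]), (6, [31, 12, 19, 5, 22], [32, 13, 18, 22]), (14, [31, 15, 18, 3], [32, 10, 18, 22]), (3, [27, 12, 18, 3], [16, 6, 21]), (19, [27, 10], [1, 32, 12, 7, 22]), (3, [29, 12, 6], [3, 3, 32, 11, 19, 1, 21]), (17, [30, 12,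 19, 2, 21], [3, 32, 14, 18, 3, 22]), (3, [26, 11, 18, 7, 21], [1, 32, 16, 19, 3, 21])],
  [(1, [15], []), (2, [29, 11], [13, 6]), (1, [26, 15, 6], [3, 32, 6]), (16, [27, 11, 3], [3, 32, 12, 18, 6, 21]), (4, [30, 13, 18, 3, 21], [32, 11, 5]), (8, [31, 11, 19, 7], [32, 1, 3, 32, 4]), (6, [26, 11], [1, 3, 32, 10, 19, 8]), (7, [19, 5], [3, 3, 32, 16, 19, 5, 21]), (8, [24], [32, 11]), (18, [26, 11, 19, 1], [3, 32, 12, 19, 3, 21]), (3, [28, 12, 18, 8], [32, 1, 3, 32, 13, 19, 3]), (18, [14, 6], [10, 1, 32, 15, 19, 1, 21]), (5, [18, 7], [3, 32, 10, 19, 7, 21]), (13, [13, 18, 4], [3, 3, 32, 14, 18, 4, 22]), (14, [25, 13], [32, 15]), (15, [26, 11], [13]), (18, [31, 11, 5], [32, 1, 32, 19, 5, 21]), (9, [28, 11, 2, 22], [1, 3, 32, 5, 21]), (9, [26, 11, 18, 2, 21], [3, 3, 32, 12, 19, 6, 21]), (5, [26, 11, 18, 7, 21], [32, 1, 3, 32, 11, 18, 6, 21])],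
  [(1, [15], [16, 18]), (4, [29, 14], [11, 2, 22]), (8, [28, 13, 4], [32, 1, 32, 10, 8]), (18, [26, 11, 7], [10, 1, 32, 14, 18, 4, 22]), (4, [29, 14, 19], [19, 3, 22]), (7, [26, 11, 19, 2, 21], [10, 3, 32, 13, 19, 8, 21]), (17, [31, 11, 19, 4], [32, 10, 19, 4, 22]), (3, [30, 12, 18, 5, 21], [1, 3, 32, 14, 3, 21]), (9, [24, 11, 18, 1], [10, 3, 32, 13, 6]), (7, [31, 12, 19, 7], [3, 32, 10, 8, 21]), (11, [26, 13], [10, 3, 22]), (11, [28, 13, 19, 5], [10, 3, 32, 13, 18, 4, 22]), (2, [26, 10, 18, 8, 22], [32, 10, 1, 21]), (4, [31, 12, 19, 3, 22], [10, 1, 32, 13, 7, 22]), (7, [30, 12, 18, 7, 21], [32, 1, 3, 32, 12, 18, 1, 22]), (5, [26, 11, 19], [3, 32, 11, 19]), (17, [27, 13, 19], [10, 1, 32, 11, 18, 2, 22]), (17, [25, 12, 18], [3, 32, 14, 18, 6]), (4, [25, 14], [32, 1, 32, 10, 3, 22]), (15, [28, 13, 19, 1], [10, 3, 32, 16, 19, 3, 22])],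
  [(1, [16], [19, 21]), (2, [31, 12], [13, 19, 7]), (2, [27, 12, 5], [1, 32, 13, 19, 8, 22]), (14, [30, 11, 18, 8, 21], [10, 3, 32, 11, 19, 3, 22]), (12, [29, 13, 2], [1, 3, 32, 12, 6, 22]), (15, [27, 11, 18], [32, 11, 18, 6, 21]), (16, [29, 10, 18, 3], [10, 1, 32, 10, 19, 1]), (5, [30, 5], [32, 14, 1, 22]), (8, [29, 15, 19], [32, 1, 32, 16, 18, 3, 21]), (17, [30, 12, 19, 1, 21], [1, 32, 11, 18, 5]), (10, [10, 18, 7], [3, 32, 12, 18, 8, 21]), (5, [25, 15, 4], [32, 1, 32, 14, 21]), (5, [16, 18, 6], [1, 3, 32, 10, 7, 22]), (3, [25, 16, 1], [10, 1, 32, 10, 19, 5, 22]), (8, [29, 15, 18, 5, 21], [10, 3, 32, 14, 19, 7, 22]), (15, [27, 12, 19, 2, 22], [1, 32, 13, 1, 21]), (14, [31, 14, 18, 2], [10, 1, 32, 14, 19, 7]), (18, [27, 12, 2], [32, 1, 32, 13, 18]), (17, [27, 12, 18, 1], [32, 1, 32, 13, 19, 22]), (4, [31, 10], [15, 3])]]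

/-- Double coset certificate, part 3. -/
def certC3 : List (List (ℕ × List ℕ × List ℕ)) := [
  [(1, [11], [12, 4]), (12, [27, 12, 19, 3], [10, 1, 32, 11, 19, 6]), (16, [27, 12, 7, 21], [32, 1, 3, 32, 14, 3]), (4, [26, 10, 2], [10, 3, 32, 13, 8]), (9, [26, 13, 1], [10, 19, 8]), (12, [29, 11, 2], [3, 3, 32, 12, 8]), (10, [25, 10, 19, 5, 22], [10, 3, 32, 15, 18]), (6, [28, 13, 18, 7, 22], [1, 3, 32, 11, 19, 3, 22]), (15, [28, 11, 18, 5, 22], [10, 3, 32, 10, 18, 5, 22]), (5, [27, 13, 18, 7, 22], [10, 1, 32, 14, 18, 2]), (10, [31, 11, 18, 2, 22], [32, 1, 3, 32, 11, 6]), (12, [28, 12, 19, 2], [10, 18, 22]), (8, [28, 10, 18, 7, 22], [10, 1, 32, 13, 18, 22]), (6, [24, 8, 22], [1, 3, 32, 13, 19, 4, 22]), (14, [30, 13, 19, 6, 21], [10, 1, 32, 10, 7]), (5, [29, 13, 18, 1], [32, 1, 32, 12, 18, 1, 21]), (13, [26, 12, 18, 5], [32, 1, 3, 32, 16, 19, 2, 22]),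 (17, [31, 11, 19, 6, 21], [10, 3, 32, 19, 4]), (14, [27, 10, 19, 5, 22], [32, 1, 32, 5, 22]), (15, [25, 13, 18, 8, 21], [3, 32, 12, 19, 2])],
  [(1, [11], [11, 18, 1]), (9, [], [18, 2, 21]), (16, [26, 11, 8], [1, 32, 15, 18, 7]), (14, [28, 18, 7, 22], [10, 1, 32, 15, 8, 21]), (15, [29, 12, 18, 1], [32, 1, 3, 32, 15, 19, 2, 22]), (5, [30, 12, 18, 1], [1, 3, 32, 10, 18, 8]), (9, [19, 2], [10, 3, 32, 10, 19, 5, 21]), (3, [30, 11, 19, 2, 21], [32, 1, 3, 32, 13, 18, 7, 22]), (8, [24, 11, 18, 1], [32, 1, 32, 16, 19, 3]), (8, [25, 12, 18], [3, 32, 12, 4]), (9, [29, 18, 2], [1, 32, 15, 19, 4, 21]), (15, [30, 12, 6, 22], [10, 1, 32, 15, 19, 1]), (3, [30, 14, 7], [15, 18, 5, 21]), (8, [30, 11, 19, 4], [3, 32, 14, 4, 22]), (15, [24, 12, 3], [32, 1, 32, 12, 19, 8, 21]), (10, [27, 11, 18, 3], [10, 1, 32, 16, 19, 7, 21]), (2, [31, 11, 19, 4], [3, 32, 16,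 19, 7]), (3, [26, 10, 18, 3], [10, 1, 32, 15, 19, 21]), (8, [28, 16, 8, 21], [10, 1, 21]), (6, [24, 14, 18, 22], [3, 3, 32, 16, 8, 22])],
  [(1, [15], [15, 7, 22]), (6, [18], [19, 1]), (8, [26, 13, 19], [32, 3]), (10, [27, 12, 3], [1, 3, 32, 11]), (16, [25, 11, 6, 22], [10, 3, 32, 14, 19, 2, 22]), (14, [28, 16, 5], [10, 3, 32, 15, 18, 5, 21]), (15, [13, 19, 3], [32, 1, 32, 13, 18, 3, 21]), (8, [30, 14, 19, 5, 21], [32, 1, 32, 12, 1]), (12, [25, 10, 18, 2, 22], [3, 32, 12]), (3, [28, 10, 19, 8], [3, 3, 32, 16, 18, 6, 22]), (14, [25, 15, 3], [1, 32, 16, 18, 7]), (12, [26, 8], [32, 1, 3, 32, 13, 19, 8]), (14, [25, 10, 18, 8], [10, 1, 32, 11, 18, 1]), (6, [27, 16, 4], [3, 3, 32, 11, 4]), (18, [26, 6], [10, 3, 32, 15, 18, 3, 21]), (9, [29, 13, 5, 21], [32, 1, 3, 32, 11, 2]), (5, [26, 13, 19, 3], [10, 3, 32, 16, 1, 22]), (17, [28, 11, 19, 6], [32,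 1, 32, 18, 6, 22]), (16, [26, 13, 3], [10, 1, 32, 13, 19, 22]), (15, [27, 11, 19, 1, 21], [10, 3, 32, 15, 19, 6])],
  [(1, [15], [16, 6, 21]), (13, [27, 12, 19, 6], [10, 3, 32, 15, 18, 3, 21]), (10, [25, 10, 19, 21], [1, 32, 16, 6]), (4, [28, 15, 19, 1], [32, 1, 3, 32, 10, 18, 7, 21]), (3, [26, 14, 19, 1], [1, 3, 32, 12, 18, 1, 22]), (5, [25, 12, 18, 5, 22], [10, 3, 32, 14, 18, 7, 22]), (6, [25, 12, 6, 21], [3, 3, 32, 16, 19, 3]), (3, [24, 11, 19, 5, 21], [12, 5, 21]), (14, [29, 12, 19, 1], [11, 7]), (2, [31, 11, 18, 5, 22], [10, 1, 32, 13, 19, 4, 22]), (5, [26, 19, 8, 21], [1, 32, 10, 19, 1, 22]), (4, [27, 10, 19, 6, 22], [1, 3, 32, 14, 4, 21]), (4, [24, 18, 1, 22], [10, 3, 32, 14, 18, 3, 22]), (8, [26, 16, 18, 4], [11, 18]), (3, [27, 13, 19], [3, 3, 32, 15, 18, 8, 22]), (14, [31, 19, 1, 22], [10, 3, 32, 10, 18, 5, 22]), (6, [26, 16, 6], [12,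 19, 3, 22]), (10, [24, 13, 19, 5, 22], [3, 3, 32, 10, 7, 21]), (17, [24, 11, 19, 3, 21], [10, 1, 32, 12, 19, 1, 22]), (17, [28, 10, 18, 2, 22], [1, 32, 4, 22])],
  [(1, [11], [11, 5, 22]), (6, [29, 6], [32, 1, 3, 32, 11, 6, 21]), (16, [26, 13, 18, 2], [3, 3, 32, 19, 2, 22]), (14, [24, 12, 19, 8], [14, 7, 22]), (6, [24, 14, 18, 6, 22], [3, 3, 32, 14, 1, 22]), (16, [29, 12, 19, 7], [3, 3, 32, 15, 7]), (9, [11, 19, 4], [3, 3, 32, 18, 5]), (4, [30, 15, 19, 8], [1, 32, 11, 19, 1, 22]), (13, [28, 10, 19, 22], [3, 3, 32, 12, 18, 5, 22]), (14, [26, 16, 18, 3], [3, 32, 10, 4]), (11, [31, 11, 18, 4], [1, 3, 32, 10, 19, 1, 21]), (11, [31, 12, 4, 22], [10, 3, 32, 16, 19, 4]), (8, [31, 14, 7, 22], [32, 1, 3, 32, 15, 18, 7, 22]), (5, [27, 1], [10, 1, 32, 18, 4, 22]), (5, [30, 16, 7, 22], [32, 1, 3, 32, 16, 18, 7, 21]), (15, [30, 12, 18, 8, 21], [32, 1, 3,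 32, 12, 19, 2, 22]), (14, [29, 13, 6, 22], [32, 1, 3, 32, 18, 3, 21]), (18, [28, 13, 18, 3], [3, 3, 32, 14, 18, 6]), (17, [29, 13, 18, 6, 21], [10, 1, 32, 13, 19]), (15, [29, 12, 3], [32, 1, 3, 32, 19, 5, 21])],
  [(1, [14], [15, 8, 22]), (11, [26, 12, 18, 1], [32, 1, 32, 12, 19, 6, 21]), (17, [25, 11, 1], [1, 32, 16, 18, 2, 22]), (14, [11, 18, 6], [16, 3, 22]), (18, [30, 11, 18, 3, 21], [1, 3, 32, 12, 19, 22]), (5, [26, 8], [1, 3, 32, 16, 8, 22]), (2, [14, 18, 5], [1, 32, 13, 19, 4, 21]), (14, [26, 14, 19], [3, 32, 16, 5, 21]), (15, [29, 13, 18, 6, 21], [1, 32, 14, 18, 7, 22]), (15, [26, 19], [1, 3, 32, 16, 18, 2, 21]), (5, [27, 10, 3], [16, 7]), (14, [27, 18, 4], [3, 32, 10, 5, 22]), (11, [24, 12, 18, 2, 22], [16, 18, 22]), (5, [25, 4], [3, 32, 10, 21]), (14, [31, 14, 8, 22], [1, 32, 14, 18, 2]), (12, [31, 10, 19, 3, 21], [3, 3, 32, 12, 19,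 5, 21]), (5, [25, 15, 5], [3, 32, 14, 18, 5, 21]), (8, [25, 15, 19, 1], [32, 1, 3, 32, 16, 18, 2, 21]), (14, [31, 14, 2], [32, 3, 21]), (14, [28, 15], [32, 1, 3, 32, 16, 18, 4, 21])],
  [(1, [10], [11, 3, 22]), (5, [30, 11, 19, 8], [14, 21]), (18, [24, 12, 19, 5, 21], [32, 1, 3, 32, 11, 6, 22]), (12, [29, 10, 18, 8], [32, 1, 3, 32, 13, 19, 1, 21]), (5, [28, 14, 7, 21], [32, 1, 3, 32, 13, 18, 1, 22]), (11, [26, 10, 19, 2, 21], [3, 32, 16, 18, 5, 22]), (6, [30, 12, 19, 6, 21], [10, 3, 32, 10, 18, 3, 21]), (3, [31, 19, 4, 22], [1, 32, 14, 4]), (2, [28, 12, 18, 4, 21], [3, 3, 32]), (2, [25, 12, 19], [32, 1, 3, 32, 13, 5, 22]), (4, [27, 15, 7], [10, 3, 32, 18, 4, 22]), (10, [27, 10, 18], [32, 1, 3, 32, 10, 18, 7]), (9, [28, 10, 19, 5], [1, 3, 32, 19, 1]), (5, [28, 11, 19, 6], [10, 3, 32, 18, 22]), (10, [26, 10, 19, 7, 21], [3, 3, 32, 11, 19, 6, 21]),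 (10, [25, 11, 19, 5, 22], [1, 32, 11, 18, 6, 21]), (18, [28, 12, 7, 22], [32, 12, 19, 7]), (3, [24, 16, 18, 6, 22], [13, 7]), (2, [30, 11, 3, 21], [10, 3, 32, 14, 18, 3, 22]), (3, [25, 13, 19, 6], [1, 32, 14, 19, 5, 21])],
  [(1, [15], [16, 8, 21]), (3, [25, 16, 18, 5], [1, 3, 32, 14, 18, 8, 22]), (11, [24, 12, 19, 1, 21], [32, 16, 7]), (9, [31, 13, 5], [3, 32, 13, 2]), (3, [24, 12, 18, 22], [1, 3, 32, 12, 19, 7]), (4, [11, 18, 1], [3, 32, 11, 18, 1]), (17, [24, 12, 19, 7], [10, 19, 4, 22]), (12, [30, 11, 19, 7], [10, 3, 32, 10, 3, 22]), (11, [29, 13, 19, 7, 22], [32, 1, 3, 32, 14, 8]), (2, [24, 11, 19, 8, 22], [32, 11, 18, 5, 22]), (15, [31, 11], [10, 1, 32, 13, 2, 22]), (18, [24, 10, 19, 22], [1, 3, 32, 10, 6, 21]), (10, [30, 12, 18, 3, 21], [3, 3, 32, 16, 19, 6]), (5, [28, 10, 19, 5], [1, 32, 16, 18, 8, 21]), (4, [25, 10, 19, 2, 22], [10,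 1, 32, 11, 19, 5]), (16, [10, 18, 7], [16, 6, 21]), (15, [25, 10, 18, 6], [32, 1, 32, 15, 18, 6, 22]), (10, [28, 10, 18, 6, 21], [1, 3, 32, 18, 6]), (9, [31, 13, 7], [1, 3, 32, 14, 18, 2]), (5, [28, 14, 8, 22], [32, 1, 3, 32, 18, 4, 21])],
  [(1, [15], [1, 21]), (2, [29, 11, 19, 2], [13, 18, 8, 22]), (2, [26, 11, 19, 5], [32, 1, 32, 13, 18, 6]), (4, [27, 14, 18, 5], [1, 32, 12, 19, 2, 22]), (14, [28, 11, 19, 3], [10, 3, 32, 16, 19, 7]), (6, [25, 10, 18, 1, 22], [32, 10, 19, 22]), (16, [24, 12, 18, 8, 21], [1, 3, 32, 13, 19, 1, 21]), (5, [26, 10, 7], [1, 3, 32, 12, 19, 4, 22]), (14, [27, 12, 3], [32, 1, 3, 32, 15, 18, 4, 21]), (3, [27, 11, 18, 8, 22], [1, 3, 32, 15, 18, 5, 22]), (3, [31, 14, 19, 7, 22], [10, 1, 32, 12, 18, 8, 22]), (16, [28, 12, 3], [1, 32, 16, 2, 21]), (12, [13, 18, 8], [3, 32, 10, 19, 7, 22]), (3, [28], [32, 1, 32, 15, 18,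 5, 22]), (14, [27, 12, 19, 2, 22], [1, 32, 14, 19, 2, 21]), (15, [26, 11, 2], [32, 1, 32, 13, 1, 22]), (14, [24, 15, 19, 22], [32, 1, 32, 16, 5]), (3, [27, 11, 4], [32, 10, 19, 7, 22]), (3, [31, 15, 19, 22], [32, 1, 3, 32, 12, 18, 1, 21]), (14, [28, 15], [32, 1, 3, 32, 11, 3, 22])]]

/-- Double coset certificate, part 4. -/
def certC4 : List (List (ℕ × List ℕ × List ℕ)) := [
  [(1, [16], [19, 5]), (15, [31, 12, 18, 7, 21], [32, 13, 18, 2]), (2, [27, 12, 1], [10, 1, 32, 14, 19, 1, 21]), (15, [25, 12, 18, 3], [10, 5]), (11, [26, 1], [1, 32, 10, 19, 5, 21]), (16, [13, 19, 4], [32, 1, 3, 32, 14, 18, 8]), (6, [24, 4], [32, 13, 21]), (4, [16, 18, 6], [3, 3, 32, 16, 19, 5]), (14, [27, 12, 18, 6], [3, 32, 14, 2]), (4, [29, 16, 19, 3], [3, 32, 11, 19, 4, 21]), (1, [26, 12, 6], [10, 1, 32, 13, 8, 22]), (11, [25, 13, 4], [1, 3, 32, 14, 19, 8, 21]), (8,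 [12, 19, 2], [10, 1, 32, 11, 18, 7, 22]), (13, [30, 10, 18, 2], [1, 3, 32, 11, 19]), (18, [28, 11, 4], [32, 13, 19, 6]), (15, [26, 11, 18, 7, 21], [10, 1, 32, 11, 5, 22]), (9, [27, 11, 19], [32, 11, 18, 6, 21]), (17, [29], [3, 32, 4, 22]), (9, [25, 13, 18, 5, 21], [32, 1, 32, 18, 1, 21]), (6, [27, 18], [3, 3, 32, 12, 6, 22])],
  [(1, [11], [12, 6, 22]), (12, [27, 12, 18, 4, 21], [10, 1, 32, 11, 8]), (14, [30, 16, 19, 4, 22], [3, 3, 32, 10, 18, 5, 21]), (13, [27, 12, 18, 6], [32, 1, 32, 13, 1, 21]), (8, [25, 12, 19, 6, 21], [3, 32, 13, 19, 5]), (5, [29, 10, 6], [3, 32, 16, 19, 6, 22]), (14, [28, 11, 4], [1, 3, 32, 12, 18, 2, 21]), (6, [25, 12, 3], [32, 11, 19, 7]), (17, [24, 10, 1, 21], [32, 16, 18, 1, 21]), (1, [30, 12, 1], [1, 32, 10, 2, 21]), (5, [26, 16, 19, 2, 21], [15, 19, 2]), (10, [31, 10, 19, 2, 21], [32, 1, 32, 10, 19]), (14, [25, 16,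 19, 7, 21], [32, 1, 32, 10, 18, 2, 22]), (16, [31, 11, 19, 5, 21], [10, 1, 32, 13, 19, 1]), (8, [31, 12, 19, 1, 22], [3, 32, 15, 4, 21]), (11, [29, 11, 19, 1], [3, 32, 11, 19, 22]), (6, [24, 18, 22], [1, 32, 16, 4, 22]), (6, [31, 15, 7, 22], [32, 1, 32, 5, 22]), (7, [29, 11, 19, 5], [1, 3, 32, 11, 19, 8, 21]), (19, [29, 10, 6], [10, 1, 32, 12, 7, 22])],
  [(1, [11], [11]), (5, [26, 12], [14, 18, 2]), (14, [29, 13, 18, 7, 21], [3, 3, 32, 14, 18, 4, 21]), (12, [24, 12, 8], [10, 1, 32, 16, 19, 3]), (19, [], []), (4, [27, 10, 4, 21], [32, 10, 5, 22]), (6, [26, 13, 18, 6, 21], [3, 3, 32, 19, 4, 22]), (7, [25, 10, 19, 5, 22], [3, 32, 15, 18, 3, 22]), (11, [25, 10, 5], [3, 3, 32, 11, 18, 6, 22]), (11, [26], [2, 22]), (12, [26], [1, 32, 18, 1, 21]), (10, [27, 10, 19, 3, 22], [1, 3, 32, 11, 18, 3, 21]), (9, [28, 12, 18, 6, 21], [3, 3, 32, 15, 18, 7,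 21]), (13, [31, 10, 19, 6, 22], [1, 3, 32, 11, 8]), (5, [26], [32, 18, 2, 21]), (14, [28, 16, 19, 4], [1, 3, 32, 16, 19, 1, 22]), (16, [26, 13], [32, 1, 3, 32, 14, 4]), (17, [30, 10, 19, 5, 22], [10, 3, 32, 10, 6, 22]), (8, [31, 10, 18, 4, 21], [32, 1, 32, 18, 3]), (4, [25, 15, 19, 6, 22], [11, 2, 21])],
  [(1, [15], [6]), (6, [24, 15, 18, 7, 21], [10, 3, 32, 14, 19, 1, 22]), (2, [25, 13, 6], [3, 3, 32, 15, 3]), (6, [30, 15, 3, 21], [10, 1, 32, 10, 19, 6, 22]), (8, [30, 1], [32, 1, 3, 32, 11, 19, 2, 21]), (14, [30, 11, 19, 6], [1, 3, 32, 13, 19, 2]), (13, [30, 11, 6, 22], [32, 13, 18, 7, 21]), (4, [11, 2], [32, 1, 3, 32, 10, 3, 21]), (8, [31, 16, 18, 8], [3, 3, 32, 10, 18, 3, 21]), (17, [30, 10, 19, 4, 22], [32, 13, 18, 21]), (10, [18, 5], [10, 1, 32, 13, 8]), (16, [29, 13, 18, 7, 21], [3, 3, 32, 19, 3]), (12, [13, 19, 4], [1, 3, 32, 10, 7]),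 (4, [30, 3], [32, 1, 3, 32, 14, 18, 3, 22]), (14, [30, 10, 19, 7, 22], [3, 3, 32, 12, 19, 3]), (19, [29, 10, 18, 8], [32, 1, 3, 32, 16, 19, 21]), (18, [31, 11, 2], [16, 2]), (3, [25, 12, 1], [32, 1, 32, 13, 3]), (18, [27, 12, 19, 7, 22], [1, 3, 32, 14, 8]), (15, [26, 10, 19, 1, 21], [10, 3, 32, 10, 19, 21])],
  [(1, [15], [16, 18, 4]), (13, [27, 12, 18, 7, 21], [10, 3, 32, 15, 4, 22]), (6, [26, 14, 18, 6], [3, 3, 32, 15, 19, 8, 21]), (3, [31, 15, 19, 6, 22], [10, 1, 32, 11, 19, 7]), (3, [29, 10, 18, 2, 21], [1, 3, 32, 12, 4, 22]), (4, [15, 18, 3], [1, 3, 32, 11, 1, 22]), (6, [27, 11, 2], [10, 3, 32, 12, 4, 21]), (8, [30, 14], [3, 32, 15, 21]), (4, [24, 12, 19, 2, 21], [32, 1, 3, 32, 15, 18, 5]), (18, [26, 19, 8, 21], [32, 11, 18, 5, 22]), (5, [31, 14, 19, 6, 22], [10, 3, 32, 14, 19, 8]), (18, [11, 18, 6], [15, 18, 6, 22]), (6, [26, 14, 18, 1],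 [10, 1, 32, 15, 18, 2, 21]), (13, [25, 11], [3, 3, 32, 11, 18, 6, 21]), (4, [28, 11, 19, 4], [10, 3, 32, 14, 19, 3]), (17, [30, 11, 18, 21], [10, 3, 32, 15, 3, 22]), (5, [24, 4], [32, 13, 3, 21]), (3, [31, 13, 2], [32, 1, 3, 32, 15, 19, 5, 21]), (3, [25, 12, 18, 7, 22], [32, 1, 32, 10, 18, 7]), (4, [30, 12, 18, 3, 21], [13, 5])],
  [(1, [16], [19, 4, 22]), (15, [31, 12, 19, 8, 22], [32, 13]), (1, [31, 12, 18, 8, 21], [10, 1, 32, 14, 18, 22]), (8, [31, 11, 18, 6, 22], [10, 1, 32, 13, 18, 3, 21]), (10, [26, 13, 1], [10, 1, 32, 18, 1, 21]), (3, [26, 11, 19, 8], [32, 1, 3, 32, 14, 18, 8]), (13, [26, 12, 19, 2, 21], [32, 1, 32, 14, 18, 8, 21]), (4, [14, 8], [10, 3, 32, 18, 5, 22]), (14, [29, 15, 18, 1], [10, 1, 32, 14, 18, 4, 21]), (18, [25, 13, 18, 3], [32, 19, 1, 21]), (3, [25, 11, 18, 4, 21], [32, 11, 8, 22]), (18, [10, 3], [32, 1, 32, 13, 4,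 21]), (5, [12, 19, 1], [10, 1, 32, 11, 18, 7]), (4, [24, 16, 18, 6, 22], [1, 3, 32, 12, 4, 22]), (8, [25, 13, 18], [1, 3, 32, 13, 19, 5, 21]), (19, [29, 10, 8], [1, 3, 32, 15, 18, 3]), (16, [27, 12, 19, 4, 22], [10, 3, 32, 19, 4]), (9, [26, 11, 6], [32, 13, 19, 22]), (17, [26, 11, 19, 8], [3, 32, 12, 18, 5, 22]), (17, [26, 12, 19, 7], [1, 3, 32, 14, 19, 1, 21])],
  [(1, [11], [12, 8]), (8, [16, 18], [19, 1]), (18, [29, 10, 1], [32, 12, 18, 2, 21]), (4, [29, 14, 18, 2, 22], [32, 1, 32, 12, 18, 3]), (4, [28, 14, 19, 1, 22], [32, 1, 3, 32, 13, 7, 21]), (5, [27, 15, 8], [1, 32, 10, 19, 2]), (4, [24, 18, 4], [1, 32, 16, 8, 22]), (7, [27, 13, 2, 21], [3, 32, 14, 21]), (14, [26, 12, 7], [11, 19]), (5, [28, 15, 5], [32, 13, 19, 2, 21]), (8, [30, 11, 18, 2, 21], [1, 3, 32, 5, 21]), (2, [25, 12, 18, 1], [10, 1, 32]), (3, [24, 11], [3, 3, 32, 15, 18, 7]),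 (13, [24, 12, 8], [10, 3, 32, 4]), (12, [30, 13, 7], [32, 1, 3, 32, 16, 18, 4, 21]), (10, [27, 10, 19], [10, 3, 32, 13, 18, 5, 21]), (6, [30, 10, 18, 1], [32, 1, 32, 18, 8, 22]), (7, [30, 13, 2, 21], [3, 3, 32, 10, 18, 1, 21]), (18, [24, 12, 8], [32, 1, 32, 10, 18, 5]), (15, [30, 10, 19, 4, 22], [3, 3, 32, 15, 19, 8])],
  [(1, [11], [11, 18, 2]), (6, [29, 19, 3, 21], [32, 1, 3, 32, 11, 19, 7]), (14, [29, 13, 19, 6, 22], [32, 3]), (7, [25, 12, 18, 2], [14, 1, 22]), (17, [27, 13, 6], [1, 3, 32, 16, 19, 8, 21]), (4, [24, 15, 19, 4, 22], [32, 1, 3, 32, 18, 8]), (5, [26, 12, 18, 2, 21], [3, 32, 12, 5, 22]), (6, [25, 14, 1], [3, 3, 32, 15, 18, 2, 21]), (18, [31, 12, 19, 2, 22], [32, 1, 3, 32, 10, 2]), (10, [29, 18, 1], [10, 3, 32, 16, 18, 2, 22]), (8, [25, 12, 18, 5, 22], [1, 3, 32, 12, 19, 2]), (5, [24, 15, 19, 4, 22], [1, 32, 18, 6, 21]), (8, [25,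 11, 18], [32, 1, 32, 14, 19, 4, 22]), (14, [27, 16, 3], [1, 32, 10, 3, 22]), (10, [25, 12, 18, 8, 22], [3, 32, 10, 21]), (11, [26, 13, 18, 7, 21], [10, 3, 32, 10, 8]), (2, [26, 13, 5], [1, 32, 18, 3]), (4, [28, 15, 18, 3], [32, 13, 18, 8, 21]), (2, [24, 10, 19, 3, 22], [3, 3, 32, 14, 1, 21]), (17, [24, 13, 18, 2], [1, 32, 15, 8, 22])],
  [(1, [15], [5]), (15, [29, 11, 18, 7, 21], [32, 13, 19, 1, 21]), (2, [26, 11, 19], [1, 3, 32, 13, 18, 2, 22]), (17, [28, 10, 19, 8], [32, 16, 19, 6, 21]), (6, [25, 16, 18, 3], [1, 3, 32, 16, 2, 21]), (17, [30, 11, 19, 1, 21], [3, 32, 12, 18, 7, 21]), (6, [30, 10, 19, 3, 21], [10, 1, 32, 13, 19, 7, 21]), (7, [18, 7], [10, 3, 32, 18, 5, 21]), (18, [28, 11, 19, 7, 21], [32, 1, 32, 4, 21]), (9, [25, 10, 19, 21], [32, 15, 18, 4, 21]), (14, [11, 1], [1, 3, 32, 12, 19, 8, 22]), (4, [29, 13, 18], [32, 1, 32, 13, 4,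 21]), (1, [31, 11, 19, 2, 21], [1, 3, 32, 10, 7, 22]), (4, [28, 13, 18, 3], [1, 32, 12, 19, 4, 22]), (8, [26, 11, 18, 7, 21], [3, 32, 16, 1, 22]), (15, [27, 12, 5], [10, 1, 32, 15, 7]), (7, [31, 12, 19, 2, 22], [32, 1, 32, 13, 18, 7, 22]), (4, [26, 12, 19, 2, 21], [32, 1, 32, 13, 18, 4, 22]), (4, [31, 18, 4, 22], [3, 3, 32, 14, 2, 22]), (8, [30, 13, 21], [10, 3, 32, 12, 18, 2, 22])]]

/-- Double coset certificate, part 5. -/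
def certC5 : List (List (ℕ × List ℕ × List ℕ)) := [
  [(1, [15], [10]), (3, [29, 13], [10, 19, 8]), (13, [29, 11, 18, 6], [1, 3, 32, 15, 18, 2, 21]), (4, [31, 13, 18, 6, 22], [32, 12, 18, 4, 21]), (18, [25, 12, 18], [1, 32, 10, 1, 21]), (1, [29], [12, 18, 7]), (14, [28, 13, 18, 5, 22], [1, 32, 12, 5, 21]), (7, [30, 13, 7], [1, 32, 3]), (5, [27, 8], [32, 1, 32, 11, 19, 5, 21]), (4, [27, 15, 19, 6, 21], [10, 3, 32, 12, 18, 2]), (10, [30, 13, 4], [1, 3, 32, 16, 19, 4]), (11, [24, 10, 18, 7, 21], [1, 3, 32, 15, 18, 3]), (7, [27, 10, 18, 7, 21], [32, 1, 3, 32, 10, 4, 21]), (13, [24, 10], [10, 3, 32, 13, 4]), (19, [31, 10, 19, 7, 22], [3, 3, 32, 13, 5]), (12, [24, 11, 19, 7, 22], [32, 15, 19, 3]), (16, [26, 12], [32, 10, 19]), (6, [28, 11, 8, 21], [3, 32, 15, 19, 7, 22]), (5, [29, 1], [1, 3, 32, 12, 6, 21]), (16, [10, 5], [1, 32, 19, 1, 21])],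
  [(1, [12], [14, 19, 3]), (5, [26, 10, 19, 1, 21], [32, 1, 32, 11, 19, 3]), (4, [26, 14, 19, 3], [10, 1, 32, 19, 4, 21]), (17, [25, 12, 19, 6, 21], [3, 32, 13, 18, 5, 22]), (3, [31, 18, 5, 22], [1, 3, 32, 13, 19, 8, 22]), (10, [24, 12, 18, 22], [32, 1, 3, 32, 13, 18, 8, 22]), (14, [26, 12, 18, 7], [3, 32, 14, 4, 22]), (6, [30, 11, 18, 3, 21], [10, 1, 32, 12, 5, 21]), (8, [29, 12, 2], [32, 12, 19, 22]), (17, [26, 11, 19, 1], [32, 1, 3, 32, 11, 21]), (8, [29, 14, 18, 5, 22], [10, 3, 32, 12, 22]), (8, [30, 12, 18, 3, 21], [10, 3, 32, 18, 2, 21]), (15, [29, 13, 19, 2], [1, 3, 32, 11, 19, 8, 21]), (13, [30, 12, 18, 3, 21], [32, 14, 5]), (4, [26, 11, 1], [10, 1, 32, 16, 18, 4, 21]), (5, [28, 14, 2, 22], [11, 19, 1]), (18, [12, 18, 1], [3, 32, 11, 18, 2, 21]), (2, [24, 10, 18, 5, 21], [10, 3, 32, 16, 18, 8]), (8, [29, 15, 5], [32, 1, 32, 15, 1]),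 (14, [24, 10], [32, 1, 3, 32, 12, 18, 1, 22])],
  [(1, [16], [10, 18, 21]), (3, [31, 14], [10, 7, 22]), (11, [29, 12, 18, 3, 21], [10, 3, 32, 12, 18, 6, 22]), (7, [29, 12, 19, 2, 21], [10, 1, 32, 14, 3]), (18, [27, 12, 19, 6], [3, 3, 32, 15, 8]), (5, [31, 19, 22], [19, 5]), (6, [29, 16, 8, 22], [3, 3, 32, 10, 19, 3]), (17, [24, 12, 18, 7], [32, 1, 32, 16, 18, 1]), (13, [29, 7], [10, 3, 32, 15, 6]), (14, [25, 10, 19, 2, 22], [3, 3, 32, 13, 5]), (8, [25, 14, 19, 3], [1, 32, 16, 19, 4, 21]), (6, [11, 18, 2], [32, 1, 32, 12, 8, 22]), (14, [31, 11, 18, 22], [6, 22]), (13, [24, 12, 19, 5, 21], [3, 3, 32, 1, 22]), (17, [27, 13, 18, 2, 22], [32, 14, 19, 3]), (9, [29, 11, 18, 5, 21], [3, 3, 32, 16, 5]), (12, [29, 11, 18, 4, 21], [1, 3, 32, 12, 1]), (15, [26, 10, 18, 4], [3, 3, 32, 14, 4, 21]), (5, [29, 2], [11, 19, 4, 21]), (3, [25, 13, 18, 7, 21], [1,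 32, 19, 1])],
  [(1, [13], [14, 18, 6]), (7, [27, 12, 18, 6], [32, 1, 3, 32, 10, 3, 21]), (6, [29, 10, 19, 4], [3, 3, 32, 11, 19, 1, 22]), (17, [11, 4], [10, 1, 32, 14, 7]), (3, [28, 15], [10, 3, 32, 13, 18]), (13, [29, 12, 19, 1], [11, 18, 22]), (4, [26, 13, 5], [32, 1, 32, 14, 2, 21]), (7, [29, 18, 3, 21], [3, 3, 32, 15, 19, 6, 21]), (4, [26, 15, 18, 6], [1, 3, 32, 11, 3]), (18, [25, 12, 18, 5, 22], [10, 3, 32, 12, 18, 7, 21]), (6, [29, 10, 19, 6, 21], [32, 14, 18, 4]), (18, [31, 10, 19, 1, 22], [10, 1, 32, 10, 18, 2]), (3, [25, 18, 8, 21], [10, 3, 32, 13, 7, 22]), (14, [28, 10, 19, 2], [3, 32, 11]), (4, [29, 10, 5], [32, 1, 3, 32, 13, 18, 4, 21]), (16, [26, 10, 8], [3, 3, 32, 15, 19, 1, 22]), (11, [30, 10, 18, 8, 21], [3, 32, 16, 5]), (11, [25, 10, 4, 21], [1, 32, 11, 19, 3, 22]), (14, [29, 15, 18, 3], [32, 1, 32, 15, 18, 21]), (8, [28, 18,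 7, 22], [10, 3, 32, 13, 4, 22])],
  [(1, [11], [12, 7]), (5, [16, 18], [19, 1]), (9, [27, 11, 18, 2], [10, 3, 32, 13, 19, 7, 21]), (1, [24, 16, 3], [10, 1, 32, 15, 19, 8, 21]), (10, [28, 11, 18, 22], [32, 1, 3, 32, 11, 19, 5]), (16, [27, 13, 3], [32, 6]), (8, [30, 18, 7, 22], [32, 14, 18, 2, 22]), (7, [31, 11, 18, 5, 22], [32, 16]), (16, [27, 11], [32, 1, 3, 32, 13, 6, 21]), (6, [30, 12, 19, 4, 21], [3, 32, 12, 19, 5, 22]), (8, [26, 12, 4], [6]), (8, [30, 8], [3, 3, 32, 13, 4, 21]), (14, [30, 13, 8], [32, 1, 32, 14, 18, 1, 22]), (16, [24, 12, 18, 1, 22], [1, 3, 32, 16, 19, 1]), (7, [26, 10, 5], [4, 21]), (11, [31, 12, 5], [3, 3, 32, 14, 4, 22]), (13, [30, 11, 18, 3, 21], [32, 1, 3, 32, 12, 19, 4, 22]), (7, [24, 10, 6], [32, 1, 32, 16, 18, 4, 22]), (9, [28, 13, 18, 4, 21], [10, 1, 32, 14, 19, 6, 22]), (15, [30, 10, 19, 7, 22], [3, 32, 11, 19,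 8, 22])],
  [(1, [11], [12, 5]), (5, [16, 19], [18, 2]), (2, [29, 10, 5], [32, 10, 18]), (4, [25, 12, 19, 3], [10, 1, 32, 13, 19, 8, 22]), (14, [25, 10, 18, 6], [3, 32, 11, 19, 5, 22]), (16, [26, 12, 5], [32, 1, 32, 11, 8]), (4, [28, 19, 8, 21], [1, 32, 14, 4]), (6, [31, 15, 18, 6, 22], [32, 1, 3, 32, 14, 18, 22]), (5, [27, 12, 18, 2, 21], [1, 32, 15, 5, 21]), (6, [27, 14, 18, 8, 21], [10, 1, 32, 18, 1, 21]), (5, [31, 13, 2], [32, 1, 32, 11, 19, 2]), (6, [26, 14, 18, 7], [3, 32, 14, 18, 7]), (7, [25, 12, 19, 7, 21], [3, 32, 10, 18, 7, 22]), (6, [31, 16, 19, 4, 22], [10, 1, 32, 16, 19, 6]), (12, [26, 12, 8], [3]), (5, [28, 12, 19], [10, 1, 32, 14, 18, 5, 21]), (16, [31, 11, 5], [3, 32, 16, 18, 6]), (6, [25, 12, 18, 1], [16, 19, 2, 22]), (16, [27, 12], [10, 3, 32, 10, 18, 1, 22]), (15, [26, 11, 18, 5, 21], [3, 3, 32, 10, 19, 5, 21])],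
  [(1, [11], [13, 6]), (2, [26, 11, 3], [32, 13, 6]), (15, [29, 11], [32, 6]), (9, [31, 12, 2], [1, 3, 32, 11, 18, 5, 21]), (13, [28, 12, 19], [3, 32, 14, 19, 5, 22]), (8, [27, 19, 1], [10, 1, 32, 15, 2, 22]), (4, [29, 11, 19], [1, 3, 32, 10, 19, 8, 22]), (2, [29, 10, 19, 5, 21], [1, 3, 32, 12, 19, 4, 22]), (12, [27, 13, 18, 5, 22], [32, 1, 32, 15, 22]), (12, [25, 10, 8, 21], [1, 3, 32, 13, 2]), (3, [25, 10, 19, 8], [13, 18, 1, 22]), (10, [28, 12, 18, 6, 21], [3, 3, 32, 16, 19, 2, 21]), (5, [31, 11, 2], [10, 22]), (2, [28, 12, 6, 22], [1, 32, 14, 18, 5, 21]), (10, [27, 13, 18, 6, 22], [32, 10, 19, 8]), (1, [26, 11, 3], [32, 13]), (5, [27, 15, 18], [3, 3, 32, 12, 18, 21]), (3, [30, 10, 19, 3, 21], [3, 32, 16, 19, 22]), (17, [28, 11, 18, 3], [14, 18, 1, 21]), (8, [26, 14, 19, 5, 21], [10, 3, 32, 15, 6, 21])],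
  [(1, [], [10, 18, 8, 21]), (3, [24, 15, 18, 6, 21], [10, 18, 6, 22]), (2, [27, 10, 5, 21], [3, 32, 16, 19, 21]), (14, [28, 13, 18, 2, 22], [1, 3, 32, 15, 19, 3, 22]), (3, [24, 16, 19, 7, 21], [1, 32, 19, 21]), (5, [24, 10, 8, 21], [18, 7, 22]), (3, [29, 16, 19, 7], [32, 1, 3, 32, 16, 19, 4, 21]), (6, [24, 16, 19, 7, 21], [32, 19, 1, 21]), (10, [24, 12, 18, 5, 21], [3]), (6, [29, 10, 18, 8], [32, 1, 32, 10, 18, 1, 21]), (13, [29, 12, 19, 4], [3, 32, 12, 19, 8, 21]), (6, [10, 19, 7], [32, 12, 18, 1]), (3, [27, 14, 18, 6, 21], [1, 3, 32, 14, 4]), (6, [25, 13, 18, 7, 21], [10, 18, 1, 21]), (3, [26, 11, 19], [3, 3, 32, 10, 19, 4, 22]), (3, [29, 11, 19, 5], [32, 12, 18, 4, 21]), (12, [29, 11, 19, 6], [19, 5, 22]), (16, [19, 8], [10, 1, 32, 16, 4, 21]), (11, [26, 10, 19, 3], [3, 32, 10, 8, 22]), (15, [29, 12, 19, 7], [32, 1, 3, 32, 12, 19, 1, 21])],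
  [(1, [11], [12, 19, 4]), (12, [27, 12, 19, 3], [10, 1, 32, 11, 18, 7, 22]), (16, [31, 10, 18, 1], [10, 1, 32, 19, 6]), (3, [29, 10, 18, 1], [32, 11, 19, 4]), (12, [25, 11, 18], [32, 1, 3, 32, 14, 7]), (12, [31, 12, 19, 8, 22], [16]), (2, [25, 10, 18, 6], [32, 1, 32, 11, 18, 21]), (17, [30, 13, 18, 3, 21], [32, 1, 32, 10, 18, 7, 21]), (3, [26, 11, 18, 5, 21], [3, 3, 32, 12, 18, 7, 21]), (6, [31, 10, 19, 8, 22], [1, 32, 14, 4, 22]), (14, [28, 10, 6, 21], [3, 32, 11, 2]), (9, [30, 12, 18, 3, 21], [32, 12, 1, 22]), (8, [25, 1], [10, 1, 32, 18]), (6, [31, 16, 18, 8], [32, 16, 18, 3, 21]), (7, [27, 11, 4], [3, 3, 32, 7, 22]), (14, [28, 16, 18], [3, 3, 32, 15, 6, 21]), (6, [28, 14, 2, 22], [1, 32, 12, 2]), (6, [27, 11, 18], [10, 3, 32, 11, 19, 21]), (16, [27, 12, 19, 7, 22], [10, 4, 22]), (15, [25, 13, 19, 4, 22], [3, 3, 32, 16, 19, 2, 21])]]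

/-- Double coset certificate, part 6. -/
def certC6 : List (List (ℕ × List ℕ × List ℕ)) := [
  [(1, [15], [7, 21]), (6, [24, 15, 1], [10, 3, 32, 14, 22]), (1, [24, 13, 18, 3, 22], [32, 1, 3, 32, 19, 6]), (5, [30, 10, 18, 5, 21], [3, 32, 12, 18, 5]), (2, [26, 10, 18, 5, 22], [3, 3, 32, 16, 19, 22]), (4, [26, 13, 3], [3, 3, 32, 11, 19, 5]), (13, [29, 10, 3], [14, 18, 5, 22]), (1, [28, 11, 19, 1, 21], [3, 3, 32, 16, 19, 5, 22]), (18, [25, 10, 8, 21], [10, 18, 2, 22]), (4, [25, 14, 18, 1], [10, 1, 32, 15, 19, 2]), (14, [15, 19, 3], [3, 32, 12, 18, 8]), (5, [26, 13, 3], [1, 32, 19, 7, 21]), (8, [19, 5], [1, 3, 32, 10, 7, 21]), (3, [31, 11, 19, 2, 21], [1, 32, 13, 1]), (8, [26, 11, 18, 3], [1, 32, 14, 6, 21]), (15, [27, 12, 7, 21], [32, 1, 3, 32, 16, 8]), (2, [31, 11, 4], [10, 3, 32, 13, 5]), (18, [30, 10, 18, 5, 21], [32, 1, 3, 32, 14, 18, 8, 21]),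 (3, [26, 10, 18], [10, 3, 32, 14, 19, 7, 22]), (16, [26, 10, 1], [10, 1, 32, 16, 18, 6, 22])],
  [(1, [16], [19, 6, 21]), (6, [30, 16, 18, 7, 21], [10, 3, 32, 14, 18, 2, 22]), (1, [28, 10, 19, 5], [3, 3, 32, 11, 5, 22]), (19, [27, 11, 19, 8, 21], [3, 3, 32, 16, 19, 2, 21]), (9, [29, 2], [32, 1, 32, 10, 19, 6, 22]), (19, [10, 19, 3], [3, 3, 32, 11, 19, 5, 21]), (13, [27, 13, 4], [16, 18, 7]), (5, [31, 15, 19, 8, 21], [32, 1, 3, 32, 10, 18]), (14, [27, 12, 18, 4, 21], [32, 1, 32, 16, 2]), (3, [30, 8], [3, 3, 32, 16, 8]), (14, [14, 4], [10, 1, 32, 13, 8, 22]), (4, [25, 11, 18, 3], [10, 1, 32, 15, 19, 1, 21]), (8, [16, 3], [3, 32, 10, 19, 7]), (1, [25, 12, 6, 21], [3, 3, 32, 14, 18, 4]), (18, [29, 12, 19, 4], [10, 3, 32, 13, 5, 22]), (15, [26, 11, 18, 3], [32, 1, 3, 32, 12, 4, 22]), (2, [31, 10, 7], [10, 1, 32, 16, 19, 2, 21]), (4, [24, 10, 18,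 3, 22], [1, 32, 10, 18, 2]), (4, [27, 13, 18], [1, 3, 32, 15, 3, 22]), (3, [24, 18, 7], [1, 32, 10, 19, 22])],
  [(1, [11], [12, 1, 22]), (8, [16], [22]), (14, [30, 16, 19, 6, 22], [32, 13, 3, 22]), (13, [12, 19, 6], [1, 3, 32, 14, 18, 8, 21]), (2, [27, 11, 19, 8, 21], [32, 1, 3, 32, 14, 19, 6, 21]), (16, [26, 12, 7], [1, 3, 32, 12, 19, 8, 22]), (9, [24, 10, 4, 22], [3, 32, 10, 18, 1]), (17, [29, 10, 19, 3, 21], [1, 32, 10, 18, 7, 21]), (4, [30, 12, 18, 4, 21], [32, 1, 3, 32, 15, 19, 21]), (5, [31, 19, 7], [32, 1, 3, 32, 15, 7]), (13, [26, 13, 4], [32, 14, 4, 21]), (4, [25, 13, 4], [3, 32, 13, 18, 3]), (3, [31, 10, 19, 21], [3, 3, 32, 11, 18, 5]), (13, [31, 11, 18, 8, 21], [3, 3, 32, 11, 3]), (8, [29, 11, 18, 8, 21], [1, 3, 32, 11, 4, 22]), (15, [31, 11, 19, 3, 21], [1, 32, 12, 19, 2, 22]), (6, [25, 13, 18], [32, 1, 32, 13, 18, 7, 21]), (7,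 [29, 10, 18, 8], [10, 1, 32, 11, 18, 2, 22]), (2, [29, 10, 8], [1, 32, 12, 18, 21]), (15, [26, 11, 18, 8, 21], [3, 32, 14, 19, 5])],
  [(1, [10], [11, 6, 21]), (5, [30, 11, 18, 4, 21], [14, 19, 1, 21]), (7, [29, 11, 7], [10, 1, 32, 16, 19, 8]), (8, [29, 11, 18, 3], [3, 32, 12, 1, 22]), (14, [24, 10, 19, 7, 21], [32, 1, 3, 32, 13]), (16, [28, 12, 18, 4, 21], [32, 1, 32, 15, 7]), (1, [28, 16, 5], [32, 1, 3, 32, 11, 6, 22]), (4, [31, 13, 6, 22], [32, 1, 3, 32, 16, 19, 22]), (17, [29, 13, 19, 7, 22], [10, 1, 32, 12, 18, 7, 21]), (6, [26, 14, 19, 3], [10, 3, 32, 14, 19, 8, 22]), (6, [26, 14, 19, 6, 21], [32, 1, 32, 15, 18, 8]), (14, [29, 19, 7, 21], [3, 32, 10, 19]), (15, [27, 10, 18, 5, 21], [32, 1, 3, 32, 14, 19, 5]), (8, [27, 13, 1], [10, 1, 32, 15]), (15, [30, 12, 19, 1, 21], [3, 3, 32, 15, 5, 21]), (11, [24, 11, 18, 1], [32, 1, 32, 14, 19, 3,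 22]), (18, [28, 12, 1], [1, 32, 18, 3]), (18, [27, 11, 19, 4], [32, 1, 32, 11, 18, 4, 22]), (18, [31, 10, 6, 22], [32, 1, 3, 32, 12, 18, 2, 22]), (8, [29, 10, 18, 7], [10, 3, 32, 16, 18, 3, 22])],
  [(1, [12], [14, 19, 4, 21]), (4, [15, 19], []), (4, [28, 14, 18, 6], [32, 12, 19, 3, 21]), (17, [27, 11, 19, 2, 21], [10, 1, 32, 15, 19, 7]), (14, [26, 10, 18, 4], [3, 3, 32, 13, 18, 4, 21]), (5, [25, 10, 21], [32, 1, 32, 13, 22]), (8, [26, 14, 18, 1], [1, 32, 16, 19, 4, 21]), (14, [26, 10, 5], [32, 16, 21]), (6, [31, 12, 18, 3, 22], [10, 19]), (3, [31, 15, 19, 1], [3, 32, 12, 19, 4, 21]), (9, [24, 11, 18, 2], [3, 3, 32, 16, 5]), (17, [26, 18, 8, 21], [10, 3, 32, 14, 6, 21]), (8, [29, 13, 18], [3, 32, 15, 19, 3]), (10, [30, 11, 18, 8, 21], [1, 3, 32, 12, 19, 6]), (12, [25, 12, 18, 3], [32, 15, 5, 22]), (14, [26, 12, 19, 1], [1, 3, 32, 15, 18, 4,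 21]), (18, [30, 11, 3, 21], [10, 3, 32, 11, 22]), (18, [29, 11, 18, 3], [32, 1, 3, 32, 13, 6]), (14, [26, 11, 19, 6], [32, 1, 3, 32, 14, 3]), (15, [28, 13, 19, 1], [10, 3, 32, 11, 19, 8, 22])],
  [(1, [16], [10, 18, 1]), (10, [26, 11, 4], [1, 3, 32, 12, 7]), (8, [25, 15, 19, 8, 22], [3, 3, 32, 12, 19, 4, 22]), (6, [25, 14, 18, 1], [32, 2, 22]), (9, [25, 10, 18, 2, 22], [13, 19, 6]), (6, [28, 16, 4], [32, 1, 3, 32, 14, 19, 1, 22]), (3, [25, 14, 18, 1], [1, 32, 21]), (17, [30, 13, 18, 8, 21], [1, 3, 32, 11, 19, 4, 21]), (14, [29, 11, 19], [3, 32, 11, 5, 21]), (12, [29, 13, 19, 7, 22], [1, 32, 12, 18, 7, 21]), (8, [28, 15, 19], [1, 32, 12, 19, 8, 22]), (1, [25, 11, 8, 21], [1, 32, 12, 19, 1]), (3, [27, 14, 18, 3, 21], [12, 3]), (6, [26, 11, 18, 8, 21], [10, 1, 32, 14, 19, 21]), (16, [10, 19, 1], [3, 3, 32, 10, 19, 4]), (9, [28, 12, 19, 2], [1,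 3, 32, 10, 18, 7, 22]), (16, [24, 10, 19, 5, 22], [1, 3, 32, 13, 8]), (4, [24, 11, 19, 5, 21], [1, 3, 32, 16, 19, 8]), (16, [28, 12], [32, 1, 3, 32, 10, 4, 22]), (17, [31, 12, 18, 2, 21], [1, 32, 10, 18, 5, 21])],
  [(1, [13], [14, 18, 2]), (5, [27, 11, 18, 8, 22], [32, 1, 32, 11, 5, 22]), (10, [31, 10, 2], [32, 11, 18, 8]), (3, [29, 12, 18, 2], [32, 1, 3, 32, 14, 4]), (6, [28, 15, 19, 2, 21], [3, 32, 19, 5, 21]), (14, [31, 12, 4, 22], [3, 32, 13, 18]), (3, [31, 16, 18, 8], [3, 32, 18, 7, 22]), (3, [25, 14, 18, 7, 22], [10, 1, 32, 13, 19, 3, 22]), (6, [28, 10, 19, 22], [32, 11, 22]), (4, [30, 11, 18, 1, 21], [13, 18, 6]), (14, [30, 15, 18, 2, 21], [32, 1, 32, 1, 21]), (18, [28, 10, 18, 4, 22], [1, 3, 32, 16, 19, 2, 22]), (8, [26, 7], [32, 12, 6]), (14, [29, 11, 18, 4, 21], [10, 1, 32, 16, 21]), (10, [24, 11, 4], [1, 32, 10, 19, 3]), (19, [26,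 12, 4], [10, 3, 32, 11, 19, 5]), (5, [24, 11, 18, 8, 21], [10, 1, 32, 16, 3, 21]), (2, [26, 18, 1], [3, 3, 32, 12, 4, 22]), (8, [27, 12, 19, 3], [3, 3, 32, 1, 22]), (6, [29, 12, 19, 8, 21], [3, 3, 32, 13, 18, 3])],
  [(1, [11], [12, 22]), (5, [16], [22]), (7, [29, 11, 19, 8, 21], [10, 3, 32, 13, 19, 8, 21]), (13, [30, 10, 1, 21], [1, 32, 15, 19, 1]), (11, [29, 13, 2], [10, 19, 4, 21]), (16, [29, 11, 19, 2], [3, 32, 11, 18, 1, 21]), (11, [27, 10, 18, 3], [3, 32, 13, 18, 4, 22]), (7, [24, 12], [32, 1, 3, 32, 12, 2, 22]), (19, [30, 11, 1, 22], [1, 3, 32, 10, 4, 21]), (9, [24, 12, 19, 8], [10, 1, 32, 12, 19, 3, 21]), (13, [30, 12, 19, 8, 21], [10, 3, 32, 15, 3, 22]), (4, [28, 18, 7, 22], [1, 3, 32, 13, 18, 1]), (12, [27, 13, 5], [10, 1, 32, 15, 18, 5, 22]), (13, [27, 13, 8], [32, 1, 32, 4, 22]), (3, [28, 16, 7], [1, 3, 32, 14, 7]), (10, [27, 11,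 8], [1, 32, 12, 7, 21]), (13, [31, 11, 19, 2, 21], [32, 1, 32, 12, 19, 5, 21]), (7, [27, 13, 19, 4], [1, 3, 32, 16, 18, 1, 21]), (2, [30, 12, 18, 6], [32, 1, 3, 32, 11, 6]), (15, [27, 12, 19, 4, 22], [3, 3, 32, 13, 19, 1, 22])],
  [(1, [11], [13, 7, 22]), (2, [26, 11, 18, 5, 21], [32, 13, 19, 7]), (6, [26, 19, 2], [10, 3, 32, 10, 18, 7]), (12, [30, 12, 18, 1], [11, 19, 8, 21]), (6, [28, 10, 8, 21], [32, 1, 32, 8, 22]), (6, [28, 10, 18, 8, 21], [3, 32, 13, 18, 2, 21]), (5, [28, 10, 18, 8, 21], [1, 32, 13, 19, 6]), (2, [31, 10, 6, 22], [1, 3, 32, 15, 18, 7, 21]), (14, [29, 10, 18, 8], [10, 3, 32, 12, 8, 21]), (3, [24, 13, 19, 3, 22], [3, 32, 16, 1, 22]), (17, [12, 19, 7], [32, 1, 3, 32, 10, 18, 6, 22]), (14, [29, 19, 8, 21], [1, 3, 32, 14]), (16, [24, 10, 4, 22], [18, 7, 22]), (11, [28, 11, 18, 4], [10, 1, 32, 13, 6, 22]), (5, [25, 10, 18], [32,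 19, 7, 21]), (15, [11, 19, 1], [32, 1, 32, 13, 18, 2]), (12, [28, 10, 19, 3], [32, 1, 3, 32, 11, 18, 5]), (5, [29, 15, 19, 3], [32, 18, 3]), (8, [30, 12, 1], [18, 4, 21]), (16, [27, 11, 18, 3], [10, 1, 32, 11])]]

/-- Double coset certificate, part 7. -/
def certC7 : List (List (ℕ × List ℕ × List ℕ)) := [
  [(1, [15], [10, 7]), (14, [14, 19], [18, 2]), (18, [29, 11, 19, 1], [10, 1, 32, 13, 4, 21]), (3, [28, 15, 7], [32, 1, 32, 14, 19, 6]), (9, [25, 10, 18, 5, 22], [32, 1, 3, 32, 16, 18, 7, 21]), (6, [29, 19, 5, 21], [32, 1, 3, 32, 14, 8, 22]), (14, [25, 12, 3], [10, 3, 32, 14, 19, 7]), (7, [24, 10, 7, 22], [32, 1, 3, 32, 16, 8, 21]), (10, [27, 13, 8], [10, 3, 32, 19, 2, 22]), (2, [25, 10, 19, 2, 22], [1, 3, 32, 14, 21]), (5, [25, 10, 7, 21], [1, 32, 14, 8, 22]), (3, [10, 1], [32, 1, 32, 12, 8, 22]), (14, [27, 15, 19, 1], [10, 1, 32, 10, 4, 21]),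 (13, [30, 13, 1, 22], [3, 32, 16, 22]), (8, [29, 10, 8], [15, 18]), (12, [30, 12, 18, 21], [32, 1, 3, 32, 12, 19, 1, 21]), (5, [29, 10, 1], [1, 3, 32, 12, 19, 8]), (14, [26, 12, 8], [3, 3, 32, 14, 19, 22]), (4, [27, 10], [32, 1, 3, 32, 11, 6]), (14, [30, 11, 21], [32, 1, 3, 32, 10, 18, 6])],
  [(1, [12], [14, 19, 22]), (4, [15], [19, 1, 21]), (14, [24, 14, 5], [1, 32, 12, 5, 22]), (3, [25, 10, 19, 21], [3, 3, 32, 10, 3, 21]), (4, [26, 16, 8], [3, 3, 32, 14, 3, 21]), (8, [24, 10, 18, 4, 22], [1, 3, 32, 11, 18, 1]), (17, [26, 12, 18, 4], [10, 1, 32, 16, 18, 6]), (4, [27, 4], [10, 1, 32, 18, 8, 22]), (13, [25, 11, 19, 8], [10, 3, 32, 13, 19, 5, 22]), (9, [30, 10, 5, 22], [10, 3, 32, 16, 19, 21]), (2, [31, 13, 19, 7], [32, 12, 2, 22]), (13, [29, 11, 18, 8, 21], [3, 32, 12, 7]), (9, [31, 14], [12, 3]), (5, [24, 14, 18, 1, 22], [32, 1, 32, 11, 19,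 21]), (11, [24, 12, 3], [10, 3, 32, 12, 7, 22]), (3, [29, 15, 18, 3], [32, 1, 3, 32, 16, 3, 22]), (11, [25, 12, 19, 8, 21], [1, 3, 32, 16, 18, 8, 22]), (8, [28, 16, 19, 3], [12, 4, 22]), (8, [30, 10, 18, 6], [16, 18, 5]), (17, [28, 10, 19, 22], [1, 32, 12, 18, 3, 22])],
  [(1, [16], [10, 18, 6, 22]), (10, [26, 11, 19, 5], [1, 3, 32, 12, 18, 6, 21]), (17, [29, 12, 19, 7], [10, 3, 32, 3, 22]), (14, [30, 4], [32, 1, 32, 14, 3]), (3, [29, 14, 18, 2, 22], [3, 32, 16, 18, 5, 21]), (9, [10, 19, 1], [12, 18, 7]), (4, [27, 5], [1, 32, 14, 18, 8, 21]), (6, [26, 10, 19, 2, 21], [1, 3, 32, 19, 8]), (8, [25, 14, 5], [1, 3, 32, 8]), (10, [24, 11, 19, 4, 21], [12, 19, 21]), (14, [24, 13, 6], [1, 3, 32, 10, 19]), (3, [13, 19, 8], [32, 12, 18, 1, 22]), (12, [24, 12, 19, 5, 21], [32, 1, 3, 32, 16, 18, 1]), (6, [28, 14, 18, 6], [1, 3, 32, 11, 19, 4]), (15, [29,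 12], [10, 3, 32, 16, 19, 8]), (3, [24, 13, 5], [1, 3, 32, 3, 22]), (5, [31, 11, 18, 22], [1, 32, 11, 1]), (5, [26, 11, 19, 3], [10, 1, 32, 13, 18, 6, 21]), (18, [26, 12, 5], [3, 32, 14, 19, 6]), (6, [31, 13, 18, 22], [3, 3, 32, 11, 18, 5, 22])],
  [(1, [13], [14, 18, 1, 22]), (7, [27, 12, 7, 21], [32, 1, 3, 32, 10, 18, 5, 21]), (8, [30, 19, 2], [32, 1, 32, 14, 1]), (10, [31, 12, 19, 2, 22], [10, 1, 32, 15, 18, 3, 21]), (6, [24, 10, 19, 1, 22], [1, 3, 32, 14, 18, 2, 21]), (13, [24, 11, 18, 6], [32, 16, 18, 4, 22]), (5, [26, 11, 1], [32, 10, 19, 22]), (6, [31, 18, 5, 22], [32, 1, 3, 32, 12, 19, 3, 21]), (5, [25, 19, 1], [1, 3, 32, 11, 19, 2, 21]), (3, [28, 13, 19, 3], [1, 32, 13, 6, 22]), (11, [27, 10, 5, 21], [10, 3, 32, 5]), (8, [29, 19, 6, 21], [3, 32, 11, 19, 3, 22]), (9, [27, 10, 18], [10, 3, 32, 12, 19, 5, 22]), (8, [31, 1], [1, 3, 32, 3]),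 (2, [27, 11, 19, 2, 21], [10, 3, 32, 2, 22]), (4, [24, 11, 18, 1], [3, 3, 32, 13, 18, 5]), (4, [31, 14, 19, 1, 21], [3, 3, 32, 10, 8, 21]), (17, [27, 10, 19, 1], [1, 3, 32, 19, 1]), (14, [31, 16, 18, 7], [10, 1, 32, 13, 3, 22]), (3, [27, 12, 19, 6], [1, 32, 11, 19, 8])],
  [(1, [11], [13, 3]), (2, [25, 13, 7, 21], [10, 3, 32, 16, 3]), (6, [24, 15, 18, 1, 22], [10, 3, 32, 10, 19, 8, 22]), (15, [24, 10, 4, 22], [10, 3, 32, 13, 18, 21]), (8, [28, 11, 7, 21], [10, 3, 32, 11, 19, 7, 21]), (13, [29, 13, 19, 6, 22], [32, 1, 3, 32, 13, 18, 22]), (13, [27, 11, 18, 3], [32, 13, 19]), (18, [29, 10, 19, 2, 21], [1, 3, 32, 11, 18, 8]), (7, [28, 12, 19, 1, 21], [3, 3, 32, 12, 1, 21]), (12, [29, 18, 6, 21], [32, 1, 32, 18, 6, 21]), (17, [25, 12, 19, 4], [10, 1, 32, 11, 3, 21]), (10, [29, 13, 19, 6, 22], [1, 32, 19, 7, 22]), (16, [30, 11, 8, 22], [32, 1, 32,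 12, 3]), (18, [24, 11, 19, 8, 22], [1, 32, 13, 18, 3]), (13, [25, 10, 19, 7], [32, 15, 7, 21]), (6, [24, 15, 18, 4, 22], [3, 3, 32, 19, 1]), (12, [29, 11, 18, 6], [10, 3, 32, 19, 4, 21]), (4, [25, 15, 19, 5], [32, 1, 32, 13, 1]), (11, [31, 13, 1], [3, 3, 32, 11, 19, 1, 21]), (15, [27, 11, 3], [10, 3, 32, 13, 19, 4])],
  [(1, [11], [12, 19, 8]), (8, [16, 18], [18, 2, 22]), (18, [28, 12, 18, 6, 21], [13, 6, 21]), (3, [29, 10, 2], [10, 3, 32, 12, 18]), (6, [28, 5], [10, 3, 32, 15, 2, 22]), (5, [28, 18, 1, 22], [1, 3, 32, 11, 8, 22]), (12, [27, 10, 6], [3, 32, 13, 6, 21]), (6, [25, 12, 19, 7, 21], [10, 1, 32, 15, 18, 8, 22]), (6, [30, 15, 18, 8, 21], [10, 3, 32, 19, 2, 21]), (9, [24, 12], [3, 3, 32, 11, 18, 7, 21]), (14, [26, 15, 2], [10, 1, 32, 16, 2, 22]), (14, [31, 13, 8], [10, 1, 32, 12, 4, 21]), (7, [25, 11, 19, 8], [1, 32, 11, 18, 4, 22]),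 (6, [26, 11, 18, 6], [12, 18, 3, 22]), (3, [24, 11, 5, 22], [12, 6, 21]), (14, [24, 11, 19, 4, 21], [32, 1, 32, 12, 19, 8, 21]), (13, [24, 12, 18, 5, 21], [32, 1, 32, 16, 19, 1]), (6, [24, 16, 8], [3, 3, 32, 15, 7]), (14, [28, 12, 18, 4, 21], [10, 1, 32, 15, 18, 3, 22]), (15, [27, 12, 18, 8, 21], [3, 32, 19, 1, 21])],
  [(1, [15], [10, 1]), (10, [14], []), (17, [29, 13, 18, 7, 21], [1, 32, 12, 18, 7]), (4, [26, 16, 18, 7], [1, 3, 32, 13, 18, 8, 22]), (4, [31, 18, 5, 22], [10, 3, 32, 11, 4]), (6, [24, 11, 1], [32, 1, 3, 32, 14, 18, 3, 21]), (7, [24, 11, 18, 2], [1, 32, 15, 19, 3, 22]), (6, [29, 14, 18, 8, 22], [10, 1, 32, 13, 18, 4]), (13, [24, 11, 6, 22], [32, 14, 7, 22]), (11, [27, 10, 18, 6, 21], [32, 10, 2]), (14, [25, 18], [1, 3, 32, 14, 19]), (6, [12, 19, 4], [1, 32, 12, 19, 1]), (8, [31, 12, 19, 8, 22], [3, 32, 15, 1, 21]), (16, [29, 10,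 19, 6, 21], [1, 3, 32, 14, 19, 5]), (5, [30, 10, 18, 8, 21], [1, 32, 13, 18, 8, 21]), (8, [31, 14, 18, 3, 22], [3, 3, 32, 11, 6, 21]), (16, [30, 11, 1, 22], [32, 1, 32, 12, 19, 8, 21]), (8, [25, 16, 6], [32, 1, 32, 16, 18, 5]), (11, [28, 13, 19, 6, 21], [32, 1, 3, 32, 19, 7]), (8, [28], [10, 3, 32, 11, 8, 22])],
  [(1, [12], [14, 19, 8, 21]), (4, [15, 18], [18, 2]), (11, [25, 11, 18], [1, 3, 32, 15, 4]), (10, [28, 10, 6, 21], [13, 19, 1, 21]), (7, [26, 13, 5], [32, 1, 32, 11, 18, 8, 21]), (14, [28, 10, 19, 6, 22], [10, 1, 32, 10, 18]), (19, [26, 10, 19, 1, 21], [10, 3, 32, 11, 3, 21]), (4, [26, 16, 19, 1], [10, 3, 32, 12, 18, 2, 21]), (13, [28, 12, 2], [3, 3, 32, 1]), (17, [31, 10, 1], [1, 3, 32, 6, 22]), (4, [29, 10, 19, 21], [32, 1, 32, 18, 3]), (17, [29, 13, 18, 8], [3, 32, 14, 7]), (12, [29, 12, 4], [32, 1, 3, 32, 16, 19, 8]), (8, [27, 13,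 19, 4], [7, 22]), (6, [29, 10, 18, 4], [1, 32, 12, 18, 8]), (6, [27, 18, 3], [32, 12, 18, 1, 22]), (5, [25, 15, 19, 3], [32, 16, 18]), (8, [31, 10, 19, 1, 22], [32, 1, 32, 11, 18, 8, 22]), (14, [30, 10, 4, 22], [3, 32, 13, 18, 22]), (5, [28, 14, 18, 7], [32, 1, 3, 32, 12, 3])],
  [(1, [15], [10, 3]), (14, [14, 18], [19, 1]), (18, [29, 3], [3, 3, 32, 13, 19, 4, 22]), (7, [29, 12, 3], [3, 3, 32, 12, 19, 7, 22]), (17, [26, 11, 19, 3], [32, 1, 3, 32, 15, 19, 6]), (9, [31, 11, 18, 2, 22], [1, 32, 13, 19, 7]), (4, [31, 13, 3], [32, 1, 3, 32, 11, 18, 1]), (6, [31, 15, 5], [32, 1, 3, 32, 12, 18, 6, 22]), (5, [25, 10, 19, 1, 21], [15, 19, 5]), (8, [28, 13, 18], [1, 3, 32, 15, 5]), (13, [28, 11, 7, 21], [3, 32, 16, 19, 4, 22]), (11, [24, 10, 19, 8, 21], [3, 3, 32, 15, 19, 8, 21]), (8, [29, 11, 18, 2, 21], [1, 3, 32, 11, 1]), (6, [30, 10, 3, 21], [32,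 14, 18, 1, 21]), (6, [28, 11, 2, 22], [10, 3, 32, 15, 6]), (8, [24, 15, 19, 2], [1, 32, 10, 18, 2, 21]), (5, [31, 11, 7], [3, 32]), (3, [25, 13, 5], [10, 1, 32, 16, 4]), (16, [25, 10, 19, 4, 21], [32, 10, 4]), (4, [26, 13, 18, 3, 21], [14, 18, 6])]]

/-- Double coset certificate, part 8. -/
def certC8 : List (List (ℕ × List ℕ × List ℕ)) := [
  [(1, [10], [13, 18, 22]), (1, [30, 14, 19, 21], [32, 1, 32, 19]), (2, [10, 19, 2], [13, 19, 8]), (8, [29, 13], [32, 1, 32, 16, 18, 3, 21]), (5, [24, 13, 19, 4, 21], [32, 1, 32, 14, 22]), (8, [30, 15, 19, 6], [1, 32, 11, 18, 8]), (5, [30, 14, 18, 6], [1, 3, 32, 10, 7]), (14, [26, 4], [10, 3, 32, 11, 19, 3, 21]), (14, [29, 10, 19, 2, 21], [10, 3, 32, 16, 6, 22]), (3, [29, 11, 19, 8, 21], [32, 1, 3, 32, 13, 19, 3, 21]), (10, [24, 13, 19, 1, 21], [10, 1, 32, 11, 19, 7, 22]), (15, [26, 13, 19, 3], [15, 18,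 6]), (5, [28, 19, 6, 21], [1, 3, 32, 12, 3, 21]), (18, [28, 10, 19, 7, 22], [3, 32, 12, 19, 3]), (10, [30, 13, 18, 1, 21], [1, 32, 15, 7, 22]), (6, [30, 16, 18, 22], [8, 22]), (16, [31, 12, 18, 22], [1, 32, 12, 2]), (8, [24, 12, 19, 2, 21], [1, 32, 15, 18, 4, 21]), (2, [30, 11, 18, 2, 21], [10, 3, 32, 13, 7]), (3, [31, 16, 19, 6, 21], [1, 32, 13, 19, 4, 21])],
  [(1, [16], [10, 18, 3, 21]), (14, [15, 18], [22]), (8, [25, 15, 19], [32, 13, 3, 21]), (6, [28, 15, 4], [32, 1, 32, 14, 19, 1, 21]), (17, [26, 13, 18, 2], [1, 3, 32, 13, 19]), (9, [12, 18, 8], [12, 21]), (7, [28, 11, 19, 3], [32, 1, 3, 32, 13, 5, 22]), (7, [24, 12, 19, 1, 21], [32, 14, 6]), (14, [27, 16, 18, 6], [10, 1, 32, 16, 5]), (4, [27, 12, 8], [32, 1, 32, 11, 18, 21]), (5, [26, 16, 18, 7], [1, 32, 10, 4, 22]), (3, [5], [1, 32, 12, 19, 1]), (7, [26, 10, 18, 1], [3, 3, 32, 4, 21]),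 (16, [29, 10, 7], [10, 1, 32, 11, 19, 5, 21]), (4, [29, 19, 3, 21], [32, 1, 3, 32, 13, 21]), (15, [28, 12, 19, 7, 22], [32, 1, 32, 14, 18, 1]), (5, [26, 14, 19, 5, 21], [10, 19, 5, 22]), (19, [19, 5], [1, 3, 32, 16, 19, 8, 22]), (4, [27, 10, 8, 21], [32, 12, 19, 8, 22]), (5, [31, 16, 8, 22], [32, 1, 3, 32, 10, 5, 22])],
  [(1, [11], [13, 1]), (1, [26, 15, 1], [32, 1, 32, 2]), (2, [11, 19, 1], [13, 18, 7, 21]), (8, [25, 11, 19, 7], [32, 1, 3, 32, 4, 22]), (6, [29, 11, 18, 7, 21], [1, 3, 32, 10, 19, 8]), (5, [27, 16, 18, 2, 21], [32, 14, 18]), (8, [27, 19, 7, 21], [32, 11, 22]), (18, [27, 10, 18], [32, 1, 32, 16, 19, 6, 22]), (12, [26, 12, 18, 7], [32, 1, 32, 11, 5, 22]), (15, [28, 12, 6, 22], [11, 19, 6, 21]), (3, [30, 15, 19, 6], [10, 1, 32, 10, 18, 3, 21]), (5, [26, 19, 4, 22], [3, 32, 10, 19, 7, 21]), (12, [31, 12, 1], [1, 3, 32, 12, 18, 8]),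 (8, [28, 16, 19, 2, 22], [32, 1, 3, 32, 14, 18, 5]), (8, [30, 11, 19, 5], [32, 1, 3, 32, 13, 4]), (6, [29, 13, 19, 8], [32, 1, 3, 32, 11, 18, 3]), (16, [31, 12, 18, 2, 21], [1, 32, 16, 2]), (19, [24, 11, 8, 22], [1, 3, 32, 15, 2, 22]), (18, [26, 13, 18], [16, 18, 2, 21]), (17, [26, 12, 19, 7], [1, 3, 32, 19, 2, 21])],
  [(1, [11], [13]), (1, [26, 15], [32]), (1, [26, 11], [13, 6]), (12, [26, 13, 19, 8], [3, 32, 10, 19, 7, 21]), (4, [30, 14, 19, 2, 21], [1, 32, 12, 19, 2, 21]), (4, [24, 13, 19, 4, 21], [32, 11, 18, 4, 22]), (6, [28, 10, 18, 1], [32, 10, 19, 21]), (16, [27, 12, 19, 3], [1, 3, 32, 13, 19, 1]), (7, [26, 19, 5, 22], [3, 3, 32, 16, 4, 21]), (8, [31, 14, 19, 5, 22], [10, 3, 32, 14, 19, 7, 21]), (3, [28, 11, 19, 6], [3, 3, 32, 14, 18, 7]), (14, [30, 12, 18, 4, 21], [32, 1, 3, 32, 15, 18, 4, 22]), (5, [26, 14, 4], [1, 32, 11, 18, 8,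 21]), (17, [25, 11, 3], [32, 1, 3, 32, 10, 5, 21]), (13, [26, 13, 18, 4, 21], [3, 3, 32, 14, 5, 22]), (2, [29, 11, 6], [3, 32]), (5, [29, 10, 19, 5, 21], [32, 1, 32, 11, 19, 3]), (6, [26, 16, 19], [16, 3]), (8, [31, 10, 8, 22], [32, 1, 32, 16, 7]), (14, [29, 16, 19, 8, 21], [32, 1, 3, 32, 14, 18, 8, 21])],
  [(1, [11], [14, 7]), (5, [30, 3], [32, 1, 32, 11, 18, 4, 21]), (9, [24, 10, 18, 2, 21], [32, 14, 8, 22]), (3, [30, 15, 18, 3, 21], [10, 1, 32, 14, 7, 21]), (14, [24, 16, 18, 1], [32, 1, 3, 32, 12, 19, 4, 22]), (10, [24, 10, 7, 22], [1, 3, 32, 14, 2, 21]), (15, [25, 12, 19], [32, 1, 32, 16, 18]), (3, [30, 11, 8, 22], [3, 3, 32, 13, 7]), (4, [28, 10, 3], [10, 1, 32, 11, 19, 4, 21]), (18, [27, 11, 8], [1, 32, 14, 18, 8, 21]), (12, [27, 10, 19, 3, 22], [3, 3, 32, 14, 18, 6, 21]), (2, [30, 11, 19, 4], [3, 32, 11, 19, 4, 22]), (15, [25, 11, 19,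 6, 22], [10, 1, 32, 13, 21]), (10, [30, 11, 3, 21], [10, 3, 32, 19, 6, 22]), (9, [26, 13, 18, 8, 21], [10, 3, 32, 11, 6, 21]), (17, [27, 13, 18], [3, 32, 14, 6, 21]), (4, [25, 11, 2], [3, 32, 11, 18, 2, 21]), (18, [28, 10, 19, 8], [12, 18, 5]), (18, [28, 11, 19, 2, 21], [10, 1, 32, 15, 18, 7]), (16, [25, 12, 18, 3], [10, 1, 32, 3, 21])],
  [(1, [11], [13, 18, 6]), (2, [26, 11, 3], [32, 13, 18, 8, 21]), (6, [29, 13, 18, 3], [10, 3, 32, 10, 6]), (3, [27, 16, 18, 6], [10, 1, 32, 13, 18, 7]), (8, [24, 14, 18, 6, 22], [3, 3, 32, 11, 8, 21]), (6, [26, 15, 18], [10, 1, 32, 11, 8, 22]), (4, [28, 10, 19, 6, 22], [10, 1, 32, 10, 1, 21]), (9, [27, 11, 7], [1, 3, 32, 10, 6, 21]), (3, [25, 15, 19, 1], [32, 1, 32, 16, 1, 22]), (8, [29, 13, 19, 4, 22], [10, 1, 32, 22]), (17, [13, 8], [3, 3, 32, 14, 18, 7]), (5, [28, 12, 2], [3, 3, 32, 19, 2, 21]), (16, [29,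 11, 3], [10, 3, 32, 19, 4, 22]), (2, [26, 12], [1, 32, 15, 19, 8, 22]), (8, [29, 16, 18, 3], [32, 1, 3, 32, 21]), (15, [11, 19, 2], [1, 32, 13, 19, 21]), (5, [25, 16, 18, 5], [3, 3, 32, 16, 18, 1, 21]), (16, [12, 18, 8], [3, 32, 16, 19]), (13, [29, 11, 2], [3, 3, 32, 12, 19, 6]), (5, [27, 12, 19, 6], [32, 1, 3, 32, 14])],
  [(1, [12], [14, 19, 1]), (7, [26, 11, 7], [32, 1, 3, 32, 10, 19, 4, 21]), (12, [26, 18, 7, 21], [32, 11, 19, 2, 21]), (17, [27, 11, 19, 8, 21], [32, 1, 32, 11, 18, 21]), (7, [30, 12, 18, 21], [3, 32, 14, 19, 5, 22]), (8, [30, 11, 3, 21], [11, 18, 8, 21]), (16, [11, 19, 6], [3, 32, 18, 7, 21]), (14, [31, 15, 18], [15, 19, 21]), (5, [25, 6], [1, 32, 14, 7, 21]), (4, [30, 11, 18, 2, 21], [10, 3, 32, 15, 18, 5, 22]), (4, [31, 16, 18, 5, 21], [1, 3, 32, 11, 18, 3, 22]), (2, [28, 12, 19, 4, 22], [32, 1, 32, 14, 18, 1, 22]), (3,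 [25, 19, 2, 22], [3, 3, 32, 11, 19, 2]), (5, [28, 11, 18, 6, 22], [15, 19, 22]), (8, [27, 11, 6, 21], [15, 8]), (8, [29, 10, 19, 6, 21], [32, 1, 3, 32, 11, 19, 8]), (16, [28, 12, 18, 2, 21], [32, 4, 21]), (13, [29, 11, 5], [32, 12, 19, 7]), (8, [28, 14, 18, 6], [32, 10, 18, 5]), (4, [30, 12, 18, 3, 21], [16, 18, 1])],
  [(1, [11], [13, 4, 22]), (2, [25, 13, 18, 6], [10, 3, 32, 16, 19, 4, 22]), (15, [13, 18, 4], [13, 19, 8]), (9, [26, 2], [3, 3, 32, 4]), (13, [27, 11, 19, 5], [10, 1, 32, 13, 7, 22]), (13, [25, 12, 19, 1, 21], [3, 3, 32, 13, 8, 21]), (13, [26, 10, 19, 2, 21], [14]), (16, [30, 12, 18, 4, 21], [32, 11, 6, 22]), (8, [31, 12, 4, 22], [13, 5]), (15, [30, 11, 8, 22], [32, 1, 3, 32, 10, 4, 22]), (3, [24, 14, 19, 8], [32, 1, 3, 32, 10, 18, 6, 22]), (11, [31, 10, 5, 22], [10, 3, 32, 16, 18, 4]), (16, [28, 10, 19, 6, 22], [32, 1, 32, 19,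 3]), (8, [30, 12, 19, 2, 21], [10, 1, 32, 10, 19]), (5, [28, 11, 18, 2, 22], [32, 13, 19, 6, 21]), (2, [18, 7], [1, 32, 13, 19]), (5, [27, 15, 18, 8, 22], [32, 1, 32, 15, 19, 7, 22]), (15, [25, 10, 7, 21], [32, 1, 32, 11, 19, 21]), (2, [27, 10, 18], [3, 3, 32, 18, 4, 21]), (4, [31, 10], [10, 18, 8, 22])],
  [(1, [11], [13, 18, 3]), (2, [25, 13, 7, 21], [10, 3, 32, 16, 18, 5, 21]), (15, [5], [13, 18, 7, 21]), (15, [26, 18, 7, 21], [3, 32, 5, 21]), (5, [24, 13, 19, 2, 22], [10, 3, 32, 12, 19, 21]), (4, [30, 14, 19, 1, 21], [10, 3, 32, 15, 1]), (8, [29, 12, 19, 4], [16, 19, 22]), (14, [31, 14, 4, 21], [1, 3, 32, 18, 21]), (3, [31, 10, 6, 22], [32, 1, 32, 12, 4]), (9, [31, 12, 5], [10, 3, 32, 19, 4, 22]), (17, [8], [10, 1, 32, 10, 18, 3]), (15, [31, 11, 18, 5, 22], [10, 3, 32, 15, 3]), (5, [27, 15, 18, 6], [3, 32, 18, 7, 22]), (17, [28, 11, 6],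 [10, 1, 32, 13, 19, 21]), (14, [30, 14, 19, 4, 21], [13, 4]), (2, [13, 8], [32, 1, 32, 13, 18, 2, 21]), (16, [28, 10, 5], [13, 1, 22]), (14, [31, 19, 4, 22], [3, 32, 13, 4, 21]), (17, [28, 11, 19, 4], [1, 32, 11, 5, 21]), (6, [27, 19, 8, 21], [3, 3, 32, 15, 18])]]

/-- The certificate. -/
def certC : List (List (ℕ × List ℕ × List ℕ)) :=
  certC0 ++ certC1 ++ certC2 ++ certC3 ++ certC4 ++ certC5 ++ certC6 ++ certC7 ++ certC8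

/-- Elements of the intersections of conjugates. -/
def stabWords : List (List (List ℕ × List ℕ)) := [
  [([], []), ([21], [21]), ([22], [22]), ([18], [18, 2, 21]), ([18, 21], [18, 2, 22]), ([18, 22], [18, 2]), ([19], [19, 1, 22]), ([19, 21], [19, 1]), ([19, 22], [19, 1, 21])],
  [([], []), ([21], [21]), ([22], [22]), ([24, 13], [13, 6]), ([24, 13, 21], [13, 6, 21]), ([24, 13, 22], [13, 6, 22])],
  [([], []), ([21], [21]), ([22], [22])],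
  [([], []), ([21], [21]), ([22], [22])],
  [([], []), ([21], [21]), ([22], [22])],
  [([], []), ([21], [21]), ([22], [22])],
  [([], []), ([21], [21]), ([22], [22]), ([25, 13, 7], [32, 1, 3, 32, 10, 3, 21]), ([25, 13, 7, 21], [32, 1, 3, 32, 10, 3, 22]), ([25, 13, 7, 22], [32, 1, 3, 32, 10, 3])],
  [([], []), ([21], [21]), ([22], [22])],
  [([], []), ([21], [21]), ([22], [22]), ([30, 13, 6], [1, 32, 10, 2, 22]), ([30, 13, 6, 21], [1, 32, 10, 2]), ([30, 13, 6, 22], [1, 32, 10, 2, 21])],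
  [([], []), ([21], [21]), ([22], [22]), ([25, 13, 4], [1, 3, 32, 12, 19, 8, 21]), ([25, 13, 4, 21], [1, 3, 32, 12, 19, 8, 22]), ([25, 13, 4, 22], [1, 3, 32, 12, 19, 8])],
  [([], []), ([21], [21]), ([22], [22]), ([27, 13, 6], [32, 1, 32, 12, 8, 21]), ([27, 13, 6, 21], [32, 1, 32, 12, 8, 22]), ([27, 13, 6, 22], [32, 1, 32, 12, 8])],
  [([], []), ([21], [21]), ([22], [22]), ([25, 13, 5], [10, 1, 32, 11, 18, 7, 22]), ([25, 13, 5, 21], [10, 1, 32, 11, 18, 7]), ([25, 13, 5, 22], [10, 1, 32, 11, 18, 7, 21])],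
  [([], []), ([21], [21]), ([22], [22]), ([25, 13, 8], [10, 3, 32, 15, 4, 22]), ([25, 13, 8, 21], [10, 3, 32, 15, 4]), ([25, 13, 8, 22], [10, 3, 32, 15, 4, 21])],
  [([], []), ([21], [21]), ([22], [22])],
  [([], []), ([21], [21]), ([22], [22]), ([24, 13, 6], [32, 13]), ([24, 13, 6, 21], [32, 13, 21]), ([24, 13, 6, 22], [32, 13, 22])],
  [([], []), ([21], [21]), ([22], [22]), ([28, 13, 3], [3, 32, 12, 18, 6, 22]), ([28, 13, 3, 21], [3, 32, 12, 18, 6]), ([28, 13, 3, 22], [3, 32, 12, 18, 6, 21])],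
  [([], []), ([21], [21]), ([22], [22]), ([28, 13, 4], [10, 1, 32, 15, 19, 7]), ([28, 13, 4, 21], [10, 1, 32, 15, 19, 7, 21]), ([28, 13, 4, 22], [10, 1, 32, 15, 19, 7, 22])],
  [([], []), ([21], [21]), ([22], [22]), ([27, 13, 7], [32, 1, 3, 32, 11, 6]), ([27, 13, 7, 21], [32, 1, 3, 32, 11, 6, 21]), ([27, 13, 7, 22], [32, 1, 3, 32, 11, 6, 22])],
  [([], []), ([21], [21]), ([22], [22]), ([24, 14, 6], [16, 18, 1, 21]), ([24, 14, 6, 21], [16, 18, 1, 22]), ([24, 14, 6, 22], [16, 18, 1]), ([25, 15, 18, 3], [11, 2]), ([25, 15, 18, 3, 21], [11, 2, 21]), ([25, 15, 18, 3, 22], [11, 2, 22]), ([26, 11, 19], [15, 3, 22]), ([26, 11, 19, 21], [15, 3]), ([26, 11, 19, 22], [15, 3, 21]), ([27, 10, 18, 7], [12, 18, 4, 21]), ([27, 10, 18, 7, 21], [12, 18, 4, 22]), ([27, 10, 18, 7, 22], [12, 18, 4]), ([28, 13, 2], [13, 5, 22]), ([28, 13, 2, 21], [13, 5]), ([28,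 13, 2, 22], [13, 5, 21]), ([29, 16, 18, 7], [14, 18, 6, 21]), ([29, 16, 18, 7, 21], [14, 18, 6, 22]), ([29, 16, 18, 7, 22], [14, 18, 6]), ([31, 12, 4], [10, 18, 8]), ([31, 12, 4, 21], [10, 18, 8, 21]), ([31, 12, 4, 22], [10, 18, 8, 22])]]

end Cfsg.Lib.Spor.J3
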