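import Cfsg.Agent.Spor.J3.UpperCert

/-!
The triple cover has order at most 150698880.
-/

set_option autoImplicit false
set_option Elab.async false

namespace Cfsg.Lib.Spor.J3

open Cfsg.Spor

theorem card_double_coset_le {G : Type*} [Group G] [Finite G] (M H : Subgroup G) (t : G) :
    {g : G | ∃ m ∈ M, ∃ h ∈ H, g = m * t * h}.ncard * Nat.card ↥(M ⊓ H.map (MulAut.conj t).toMonoidHom) ≤
      Nat.card M * Nat.card H := by
  set I := (M ⊓ H.map (MulAut.conj t).toMonoidHom).subgroupOf M with hI
  have hcI : Nat.card I = Nat.card ↥(M ⊓ H.map (MulAut.conj t).toMonoidHom) :=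
    Nat.card_congr (Subgroup.subgroupOfEquivOfLe inf_le_left).toEquiv
  rw [Subgroup.card_eq_card_quotient_mul_card_subgroup I, hcI, mul_right_comm]
  refine Nat.mul_le_mul_right _ ?_
  rw [← Nat.card_prod, ← Nat.card_coe_set_eq]
  refine Nat.card_le_card_of_surjective
    (fun p : (M ⧸ I) × H => (⟨(p.1.out : M).1 * t * p.2.1, _, (p.1.out : M).2, _, p.2.2, rfl⟩ :
      {g : G | ∃ m ∈ M, ∃ h ∈ H, g = m * t * h})) ?_
  rintro ⟨g, m, hm, h, hh, rfl⟩
  obtain ⟨k, hk⟩ := QuotientGroup.mk_out_eq_mul I (⟨m, hm⟩ : M)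
  have hk' : ((k : M) : G) ∈ H.map (MulAut.conj t).toMonoidHom :=
    (Subgroup.mem_inf.mp (Subgroup.mem_subgroupOf.mp k.2)).2
  obtain ⟨h0, hh0, he⟩ := hk'
  refine ⟨(QuotientGroup.mk ⟨m, hm⟩, ⟨h0⁻¹ * h, mul_mem (inv_mem hh0) hh⟩), Subtype.ext ?_⟩
  simp only [hk, Subgroup.coe_mul, ← he]
  simp only [MulEquiv.toMonoidHom_eq_coe, MonoidHom.coe_coe, MulAut.conj_apply]
  group

section
variable {F : Type*} [Field F] [Fintype F] [CharP F 2] {ω : F} (hω : ω ^ 2 + ω + 1 = 0)

theorem wd_mem_subH {w : List ℕ} (h : stabLetters w = true) : wd hω w ∈ subH hω := by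
  induction w with
  | nil => exact one_mem _
  | cons k w ih =>
    simp only [stabLetters, List.all_cons, Bool.and_eq_true, decide_eq_true_eq] at h
    rw [wd_cons]
    refine mul_mem ?_ (ih h.2)
    rw [show at' hω k = wd hω [k] by simp [wd]]
    rcases h.1 with hk | rfl
    · exact subM0_le_subH hω (wd_mem_subM0 hω (by simpa using hk))
    · exact wd_mem_genBy hω (by decide)

theorem wd_mem_subM' {w : List ℕ} (h : monoLetters w = true) : wd hω w ∈ subM hω :=
  wd_mem_subM hω fun k hk => by simpa using List.all_eq_true.mp h k hk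

/-- Moving the extra generator past an element of the monomial group. -/
theorem c_mul_mono {m : GL F9 F} (hm : m ∈ subM hω) : ∃ r < 81, ∃ k ∈ subM hω,
    wd hω [32] * m = k * wd hω [32] * wd hω (repsK.getD r []) := by
  rw [subM, genBy, ← Subgroup.mem_toSubmonoid, Subgroup.closure_toSubmonoid_of_finite] at hm
  induction hm using Submonoid.closure_induction_right with
  | one => exact ⟨0, by norm_num, 1, one_mem _, by rw [repsK_zero]; simp⟩
  | mul_right y hy g hg ih =>
    obtain ⟨gw, hgw, rfl⟩ := hg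
    obtain ⟨r, hr, k, hk, he⟩ := ih
    obtain ⟨a, ha, rfl⟩ := List.mem_iff_getElem.mp hgw
    have hc := List.all_eq_true.mp coverK_ok r (List.mem_range.mpr hr)
    simp only [coverKOK, List.all_eq_true, List.mem_range, Bool.and_eq_true, decide_eq_true_eq] at hc
    obtain ⟨⟨hs, hl⟩, heq⟩ := hc a ha
    have h2 := eqw_sound hω heq
    rw [List.getD_eq_getElem _ _ ha, wd_cons, wd_append, wd_append, wd_cons] at h2
    refine ⟨_, hs, _, mul_mem hk (wd_mem_subM' hω hl), ?_⟩
    rw [← mul_assoc, he]
    simp only [show wd hω [32] = at' hω 32 by simp [wd], mul_assoc] at h2 ⊢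
    rw [h2]

/-- The union of the double cosets. -/
def coveredSet : Set (GL F9 F) :=
  {g | ∃ i : Fin 20, ∃ m ∈ subM hω, ∃ h ∈ subH hω, g = m * wd hω (repsT.getD i []) * h}

theorem threeJ3_subset {g : GL F9 F} (hg : g ∈ threeJ3 F ω) : g ∈ coveredSet hω := by
  rw [threeJ3_eq hω, ← Subgroup.mem_toSubmonoid, Subgroup.closure_toSubmonoid_of_finite] at hg
  induction hg using Submonoid.closure_induction_left with
  | one => exact ⟨0, 1, one_mem _, 1, one_mem _, by rw [Fin.val_zero, repsT_zero]; simp⟩
  | mul_left x hx y hy ih =>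
    obtain ⟨k, hk, rfl⟩ := hx
    obtain ⟨i, m, hm, h, hh, rfl⟩ := ih
    simp only [show at' hω k = wd hω [k] by simp [wd]]
    by_cases h32 : k = 32
    · subst h32
      obtain ⟨r, hr, k', hk', he⟩ := c_mul_mono hω hm
      have hc := coverC_ok hr
      simp only [coverCOK, List.all_eq_true, List.mem_range, Bool.and_eq_true, decide_eq_true_eq] at hc
      obtain ⟨⟨⟨hj, hm2⟩, hh2⟩, heq⟩ := hc i i.2
      have h2 := eqw_sound hω heq
      rw [wd_cons, wd_append, wd_append, wd_append] at h2
      refine ⟨⟨_, hj⟩, _, mul_mem hk' (wd_mem_subM' hω hm2), _, mul_mem (wd_mem_subH hω hh2) hh, ?_⟩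
      rw [← mul_assoc, ← mul_assoc, he]
      simp only [show wd hω [32] = at' hω 32 by simp [wd]] at h2 ⊢
      calc k' * at' hω 32 * wd hω (repsK.getD r []) * wd hω (repsT.getD i []) * h
          = k' * (at' hω 32 * (wd hω (repsK.getD r []) * wd hω (repsT.getD i []))) * h := by simp only [mul_assoc]
        _ = _ := by rw [h2]; simp only [mul_assoc]
    · have hk32 : k < 32 := by
        simp only [gens6, Set.mem_setOf_eq, List.mem_cons, List.not_mem_nil, or_false] at hk
        omega
      exact ⟨i, _, mul_mem (wd_mem_subM hω (w := [k]) (by simpa using hk32)) hm, h, hh, by simp only [mul_assoc]⟩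

theorem interSize_le (i : Fin 20) : interSize i ≤
    Nat.card ↥(subM hω ⊓ (subH hω).map (MulAut.conj (wd hω (repsT.getD i []))).toMonoidHom) := by
  by_cases h0 : (i : ℕ) = 0
  · rw [interSize, if_pos h0, ← card_subM0 hω, h0, repsT_zero]
    refine Subgroup.card_le_of_le (le_inf (subM0_le_subM hω) fun x hx => ⟨x, subM0_le_subH hω hx, by simp⟩)
  · obtain ⟨j, hj⟩ : ∃ j, (i : ℕ) = j + 1 := ⟨i - 1, by omega⟩
    have hc := List.all_eq_true.mp stabList_ok j (List.mem_range.mpr (by omega))
    simp only [stabListOK, Bool.and_eq_true, List.all_eq_true, decide_eq_true_eq] at hc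
    obtain ⟨hall, hn⟩ := hc
    rw [interSize, if_neg h0, hj, Nat.add_sub_cancel]
    set L := stabWords.getD j [] with hL
    let f : Fin L.length → ↥(subM hω ⊓ (subH hω).map (MulAut.conj (wd hω (repsT.getD (j + 1) []))).toMonoidHom) :=
      fun a => ⟨wd hω L[a].1, by
        obtain ⟨⟨h1, h2⟩, h3⟩ := hall L[a.1] (List.getElem_mem a.2)
        refine ⟨wd_mem_subM' hω h1, wd hω L[a].2, wd_mem_subH hω h2, ?_⟩
        have := eqw_sound hω h3
        rw [wd_append, wd_append] at this
        simp only [MulEquiv.toMonoidHom_eq_coe, MonoidHom.coe_coe, MulAut.conj_apply]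
        exact mul_inv_eq_of_eq_mul this.symm⟩
    have hf : Function.Injective f := by
      intro a b hab
      have hl : ∀ c : Fin L.length, lettersOK L[c].1 = true := fun c => by
        obtain ⟨⟨h1, -⟩, -⟩ := hall L[c.1] (List.getElem_mem c.2)
        simp only [monoLetters, lettersOK, List.all_eq_true, decide_eq_true_eq] at h1 ⊢
        exact fun k hk => (h1 k hk).trans (by norm_num)
      have := wcols_eq_of_wd_eq hω (hl a) (hl b) (congrArg Subtype.val hab)
      exact Fin.ext ((List.Nodup.getElem_inj_iff hn (i := a.1) (hi := by simp) (j := b.1) (hj := by simp)).mp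
        (by simp only [List.getElem_map]; exact congrArg colsKey this))
    simpa using Nat.card_le_card_of_injective f hf

include hω in
theorem card_threeJ3_le : Nat.card (threeJ3 F ω) ≤ 150698880 := by
  classical
  have hsub : (threeJ3 F ω : Set (GL F9 F)) ⊆ ⋃ i ∈ (Finset.univ : Finset (Fin 20)),
      {g | ∃ m ∈ subM hω, ∃ h ∈ subH hω, g = m * wd hω (repsT.getD i []) * h} := fun g hg => by
    obtain ⟨i, h⟩ := threeJ3_subset hω hg
    exact Set.mem_biUnion (Finset.mem_univ i) h
  rw [← SetLike.coe_sort_coe, Nat.card_coe_set_eq]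
  refine (Set.ncard_le_ncard hsub (Set.toFinite _)).trans ((Finset.set_ncard_biUnion_le _ _).trans ?_)
  calc _ ≤ ∑ i : Fin 20, 5832 / interSize i * 6480 := Finset.sum_le_sum fun i _ => by
        have h1 := card_double_coset_le (subM hω) (subH hω) (wd hω (repsT.getD i []))
        have h2 := interSize_le hω i
        have h3 : {g | ∃ m ∈ subM hω, ∃ h ∈ subH hω, g = m * wd hω (repsT.getD i []) * h}.ncard * interSize i ≤
            5832 * 6480 :=
          (Nat.mul_le_mul_left _ h2).trans (h1.trans (Nat.mul_le_mul (card_subM_le hω) (card_subH_le hω)))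
        have hd : ∀ j : Fin 20, interSize j ∣ 5832 := by decide +kernel
        obtain ⟨q, hq⟩ := hd i
        have hpos := interSize_sum.1 i
        rw [hq, Nat.mul_div_cancel_left _ hpos]
        refine Nat.le_of_mul_le_mul_right ?_ hpos
        calc _ ≤ 5832 * 6480 := h3
          _ = _ := by rw [hq]; ring
    _ = _ := by rw [← Finset.sum_mul, interSize_sum.2]; norm_num

end

end Cfsg.Lib.Spor.J3
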