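import Cfsg.Agent.Spor.J3.Mono

/-!
Checks for the twenty double cosets of the monomial group and the point stabiliser.
-/

set_option autoImplicit false
set_option Elab.async false

namespace Cfsg.Lib.Spor.J3

/-- Letters of the monomial group. -/
def monoLetters (w : List ℕ) : Bool := w.all fun k => decide (k < 32)

/-- Letters of the point stabiliser. -/
def stabLetters (w : List ℕ) : Bool := w.all fun k => decide (k < 23 ∨ k = 32)

/-- Cover of the monomial group by cosets of the part normalised by the extra generator. -/
def coverKOK (r : ℕ) : Bool :=
  (List.range 6).all fun a =>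
    let e := (certK.getD r []).getD a (0, [])
    decide (e.1 < 81) && monoLetters e.2 &&
      eqw (32 :: (repsK.getD r [] ++ gMono.getD a [])) (e.2 ++ 32 :: repsK.getD e.1 [])

/-- The double coset certificate for one representative. -/
def coverCOK (r : ℕ) : Bool :=
  (List.range 20).all fun i =>
    let e := (certC.getD r []).getD i (0, [], [])
    decide (e.1 < 20) && monoLetters e.2.1 && stabLetters e.2.2 &&
      eqw (32 :: (repsK.getD r [] ++ repsT.getD i [])) (e.2.1 ++ repsT.getD e.1 [] ++ e.2.2)

/-- The listed elements of the intersections. -/
def stabListOK (i : ℕ) : Bool :=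
  ((stabWords.getD i []).all fun p => monoLetters p.1 && stabLetters p.2 &&
    eqw (p.1 ++ repsT.getD (i + 1) []) (repsT.getD (i + 1) [] ++ p.2)) &&
  decide (((stabWords.getD i []).map fun p => colsKey (wcols p.1)).Nodup)

theorem repsK_zero : repsK.getD 0 [] = [] := by decide +kernel
theorem repsT_zero : repsT.getD 0 [] = [] := by decide +kernel

theorem coverK_ok : (List.range 81).all coverKOK = true := by decide +kernel
theorem coverC_ok0 : (List.range' 0 27).all coverCOK = true := by decide +kernel
theorem coverC_ok1 : (List.range' 27 27).all coverCOK = true := by decide +kernel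
theorem coverC_ok2 : (List.range' 54 27).all coverCOK = true := by decide +kernel
theorem stabList_ok : (List.range 19).all stabListOK = true := by decide +kernel

theorem coverC_ok {r : ℕ} (h : r < 81) : coverCOK r = true := by
  rcases Nat.lt_or_ge r 27 with h1 | h1
  · exact List.all_eq_true.mp coverC_ok0 r (List.mem_range'_1.mpr ⟨by omega, by omega⟩)
  rcases Nat.lt_or_ge r 54 with h2 | h2
  · exact List.all_eq_true.mp coverC_ok1 r (List.mem_range'_1.mpr ⟨by omega, by omega⟩)
  · exact List.all_eq_true.mp coverC_ok2 r (List.mem_range'_1.mpr ⟨by omega, by omega⟩)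

/-- Order of the intersection with the conjugate stabiliser, for each double coset. -/
def interSize (i : ℕ) : ℕ := if i = 0 then 648 else (stabWords.getD (i - 1) []).length

theorem interSize_sum : (∀ i : Fin 20, 0 < interSize i) ∧
    ∑ i : Fin 20, 5832 / interSize i = 23256 := by decide +kernel

end Cfsg.Lib.Spor.J3
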