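import Cfsg.Agent.Spor.J3.AtomData

/-!
Words in the atomic matrices and equality of words by computation.
-/

set_option autoImplicit false
set_option Elab.async false

namespace Cfsg.Lib.Spor.J3

open Cfsg.Spor Matrix

/-- Bit zero of every column list item is below two to the eighteenth. -/
def atomOK (k : ℕ) : Bool :=
  colsOK (atomCols.getD k []) && colsOK (atomInvCols.getD k []) && tblOK (atomCols.getD k []) (atomTbls.getD k (0, 0, 0)) &&
    (((atomInvCols.getD k []).take 9).map (lin (atomCols.getD k [])) == oneCols) &&
    (((atomCols.getD k []).take 9).map (lin (atomInvCols.getD k [])) == oneCols) &&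
    decide (((atomCols.getD k []).take 9).length = 9) && decide (((atomInvCols.getD k []).take 9).length = 9)

theorem atoms_ok : (List.range 33).all atomOK = true := by decide +kernel

/-- Apply an atom to packed columns. -/
def stepCols (k : ℕ) (b : List ℕ) : List ℕ := b.map (vmul (atomTbls.getD k (0, 0, 0)))

/-- Apply an atom to a packed vector. -/
def stepVec (k : ℕ) (v : ℕ) : ℕ := vmul (atomTbls.getD k (0, 0, 0)) v

/-- The columns of a word. -/
def wcols (w : List ℕ) : List ℕ := w.foldr stepCols oneCols

/-- The image of a packed vector under a word. -/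
def wvec (w : List ℕ) (v : ℕ) : ℕ := w.foldr stepVec v

/-- All letters are atoms. -/
def lettersOK (w : List ℕ) : Bool := w.all fun k => decide (k < 33)

/-- Two words are equal as matrices. -/
def eqw (w u : List ℕ) : Bool := lettersOK w && lettersOK u && wcols w == wcols u

section
variable {F : Type*} [Field F] [CharP F 2] {ω : F} (hω : ω ^ 2 + ω + 1 = 0)

include hω in
theorem toM_oneCols : toM ω oneCols = 1 := by
  have h : ∀ w z : F9, ((oneCols.getD (idx z) 0).testBit (idx w) = decide (w = z)) ∧
      (oneCols.getD (idx z) 0).testBit (9 + idx w) = false := by decide +kernel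
  ext w z
  simp only [toM, Matrix.of_apply, vec, phi, (h w z).1, (h w z).2, Matrix.one_apply]
  by_cases he : w = z <;> simp [he]

omit [CharP F 2] in
theorem toM_take {c : List ℕ} (ω : F) : toM ω (c.take 9) = toM ω c := by
  ext w z
  have hz : idx z < 9 := by revert z; decide
  simp [toM, List.getD_eq_getElem?_getD, List.getElem?_take, hz]

theorem atomOK_of (k : Fin 33) : atomOK k = true :=
  List.all_eq_true.mp atoms_ok k (List.mem_range.mpr k.2)

include hω in
theorem toM_mul_of_lin {c d : List ℕ} (hc : colsOK c = true) (hd : d.length = 9)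
    (h : d.map (lin c) = oneCols) : toM ω c * toM ω d = 1 := by
  rw [← toM_oneCols hω, ← h]
  ext w z
  have hz : idx z < d.length := by
    rw [hd]; revert z; decide
  simp only [Matrix.mul_apply, toM, Matrix.of_apply, List.getD_eq_getElem?_getD, List.getElem?_map,
    List.getElem?_eq_getElem hz, Option.map_some, Option.getD_some, vec_lin_eq hω hc, Matrix.mulVec, dotProduct]

/-- The matrix of an atom as a unit. -/
def atomGL (hω : ω ^ 2 + ω + 1 = 0) (k : Fin 33) : GL F9 F where
  val := toM ω (atomCols.getD k [])
  inv := toM ω (atomInvCols.getD k [])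
  val_inv := by
    have h := atomOK_of k
    simp only [atomOK, Bool.and_eq_true, beq_iff_eq, decide_eq_true_eq] at h
    rw [← toM_take (c := atomInvCols.getD k [])]
    exact toM_mul_of_lin hω h.1.1.1.1.1.1 h.2 h.1.1.1.2
  inv_val := by
    have h := atomOK_of k
    simp only [atomOK, Bool.and_eq_true, beq_iff_eq, decide_eq_true_eq] at h
    rw [← toM_take (c := atomCols.getD k [])]
    exact toM_mul_of_lin hω h.1.1.1.1.1.2 h.1.2 h.1.1.2

/-- An atom given by a number (the identity outside the range). -/
def at' (hω : ω ^ 2 + ω + 1 = 0) (k : ℕ) : GL F9 F := if h : k < 33 then atomGL hω ⟨k, h⟩ else 1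

/-- The element of a word. -/
def wd (hω : ω ^ 2 + ω + 1 = 0) (w : List ℕ) : GL F9 F := (w.map (at' hω)).prod

@[simp] theorem wd_nil : wd hω [] = 1 := rfl

theorem wd_cons (k : ℕ) (w : List ℕ) : wd hω (k :: w) = at' hω k * wd hω w := List.prod_cons

theorem wd_append (w u : List ℕ) : wd hω (w ++ u) = wd hω w * wd hω u := by
  simp [wd, List.map_append, List.prod_append]

theorem wcols_length (w : List ℕ) : (wcols w).length = 9 := by
  induction w with
  | nil => rfl
  | cons k w ih => simp only [wcols, List.foldr_cons, stepCols, List.length_map]; exact ih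

theorem coe_at {k : ℕ} (hk : k < 33) : (at' hω k : Matrix F9 F9 F) = toM ω (atomCols.getD k []) := by
  simp [at', hk, atomGL]

theorem coe_wd {w : List ℕ} (h : lettersOK w = true) : (wd hω w : Matrix F9 F9 F) = toM ω (wcols w) := by
  induction w with
  | nil => simp [wcols, toM_oneCols hω]
  | cons k w ih =>
    simp only [lettersOK, List.all_cons, Bool.and_eq_true, decide_eq_true_eq] at h
    have hat := atomOK_of ⟨k, h.1⟩
    simp only [atomOK, Bool.and_eq_true, beq_iff_eq, decide_eq_true_eq] at hat
    rw [wd_cons, Units.val_mul, ih h.2, coe_at hω h.1,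
      show wcols (k :: w) = (wcols w).map (vmul (atomTbls.getD k (0, 0, 0))) from rfl]
    exact (toM_map hω hat.1.1.1.1.1.1 hat.1.1.1.1.2 (wcols_length w).ge).symm

include hω in
/-- Soundness of the word comparison. -/
theorem eqw_sound {w u : List ℕ} (h : eqw w u = true) : wd hω w = wd hω u := by
  simp only [eqw, Bool.and_eq_true, beq_iff_eq] at h
  refine Units.ext ?_
  rw [coe_wd hω h.1.1, coe_wd hω h.1.2, h.2]

theorem vec_wvec {w : List ℕ} (h : lettersOK w = true) (v : ℕ) :
    vec ω (wvec w v) = (wd hω w : Matrix F9 F9 F) *ᵥ vec ω v := by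
  induction w with
  | nil => simp [wvec]
  | cons k w ih =>
    simp only [lettersOK, List.all_cons, Bool.and_eq_true, decide_eq_true_eq] at h
    have hat := atomOK_of ⟨k, h.1⟩
    simp only [atomOK, Bool.and_eq_true, beq_iff_eq, decide_eq_true_eq] at hat
    rw [show wvec (k :: w) v = vmul (atomTbls.getD k (0, 0, 0)) (wvec w v) from rfl,
      vec_vmul hω hat.1.1.1.1.1.1 hat.1.1.1.1.2, ih h.2, wd_cons, Units.val_mul, coe_at hω h.1,
      Matrix.mulVec_mulVec]

end

end Cfsg.Lib.Spor.J3
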